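import Cfsg.Agent.Lib.Gross.Planes

/-!
The local step for the exponent: the quotient of the involutions of `τ u` and `u` is a square modulo
commutators.
-/

set_option autoImplicit false
set_option linter.style.haveILetI false
set_option linter.unusedSectionVars false

namespace CfsgLib.Gross

theorem conj_pow_mem {G : Type*} [Group G] {u : G} {A : Subgroup G} (h : ∀ a ∈ A, u * a * u⁻¹ ∈ A) :
    ∀ (i : ℕ), ∀ a ∈ A, u ^ i * a * (u ^ i)⁻¹ ∈ A := by
  intro i
  induction i with
  | zero => intro a ha; simpa using ha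
  | succ i ih =>
    intro a ha
    rw [pow_succ' u, show u * u ^ i * a * (u * u ^ i)⁻¹ = u * (u ^ i * a * (u ^ i)⁻¹) * u⁻¹ by group]
    exact h _ (ih a ha)

/-- A `2`-element acting on a group with one involution at most, modulo central squares. -/
theorem sq_conj_mem {G : Type*} [Group G] [Finite G] (u : G) {i₀ : ℕ} (hu : u ^ 2 ^ i₀ = 1)
    (F B : Subgroup G) (hBF : B ≤ F) (hsq : ∀ a ∈ F, a * a ∈ B)
    (hcen : ∀ b ∈ B, ∀ a ∈ F, a * b = b * a)
    (huniq : ∀ a ∈ F, ∀ b ∈ F, a * a = 1 → b * b = 1 → a ≠ 1 → b ≠ 1 → a = b)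
    (hF : ∀ a ∈ F, u * a * u⁻¹ ∈ F) (hB : ∀ b ∈ B, u * b * u⁻¹ ∈ B) :
    ∀ a ∈ F, u ^ 2 * a * (u ^ 2)⁻¹ * a⁻¹ ∈ B := by
  classical
  let sqh : B →* B := MonoidHom.mk' (fun b => b * b) fun b c => Subtype.ext (by
    simp only [Subgroup.coe_mul]
    calc (b : G) * c * (b * c) = b * (c * b) * c := by group
      _ = b * (b * c) * c := by rw [hcen b b.2 c (hBF c.2)]
      _ = b * b * (c * c) := by group)
  intro a haF
  by_cases hinv : ∃ x ∈ F, x * x = 1 ∧ x ∉ B
  · -- `B` has no involution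
    obtain ⟨x, hxF, hx2, hxB⟩ := hinv
    have hx1 : x ≠ 1 := fun e => hxB (e ▸ B.one_mem)
    have hBinj : Function.Injective sqh := by
      refine (injective_iff_map_eq_one sqh).mpr fun b hb => Subtype.ext ?_
      by_contra hb1
      exact hxB (huniq b (hBF b.2) x hxF (congrArg Subtype.val hb) hx2 hb1 hx1 ▸ b.2)
    obtain ⟨w, hw⟩ := Finite.injective_iff_surjective.mp hBinj ⟨a * a, hsq a haF⟩
    have hw' : (w : G) * w = a * a := congrArg Subtype.val hw
    have haw : a * (w : G)⁻¹ * (a * (w : G)⁻¹) = 1 := by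
      calc a * (w : G)⁻¹ * (a * (w : G)⁻¹) = a * ((w : G)⁻¹ * a) * (w : G)⁻¹ := by group
        _ = a * (a * (w : G)⁻¹) * (w : G)⁻¹ := by rw [hcen _ (B.inv_mem w.2) a haF]
        _ = a * a * ((w : G) * w)⁻¹ := by group
        _ = 1 := by rw [hw', mul_inv_cancel]
    have hwB : u ^ 2 * w * (u ^ 2)⁻¹ * (w : G)⁻¹ ∈ B :=
      B.mul_mem (conj_pow_mem hB 2 _ w.2) (B.inv_mem w.2)
    by_cases h1 : a * (w : G)⁻¹ = 1
    · rwa [mul_inv_eq_one.mp h1]
    have hax : a = x * w := by
      rw [← huniq _ (F.mul_mem haF (F.inv_mem (hBF w.2))) x hxF haw hx2 h1 hx1, inv_mul_cancel_right]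
    have hxu : u ^ 2 * x * (u ^ 2)⁻¹ = x := by
      refine huniq _ (conj_pow_mem hF 2 x hxF) x hxF ?_ hx2 ?_ hx1
      · rw [show u ^ 2 * x * (u ^ 2)⁻¹ * (u ^ 2 * x * (u ^ 2)⁻¹) = u ^ 2 * (x * x) * (u ^ 2)⁻¹ by group,
          hx2, mul_one, mul_inv_cancel]
      · intro e
        exact hx1 (by rwa [mul_inv_eq_one, mul_eq_left] at e)
    rw [hax, show u ^ 2 * (x * (w : G)) * (u ^ 2)⁻¹ * (x * (w : G))⁻¹ =
      u ^ 2 * x * (u ^ 2)⁻¹ * (u ^ 2 * w * (u ^ 2)⁻¹ * (w : G)⁻¹) * x⁻¹ by group, hxu, hcen _ hwB x hxF,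
      mul_inv_cancel_right]
    exact hwB
  push Not at hinv
  set B' := B.subgroupOf F
  haveI : B'.Normal := ⟨fun b hb g => by
    rw [Subgroup.mem_subgroupOf] at hb ⊢
    rw [Subgroup.coe_mul, Subgroup.coe_mul, Subgroup.coe_inv, hcen _ hb g g.2, mul_inv_cancel_right]
    exact hb⟩
  let π : F →* F ⧸ B' := QuotientGroup.mk' B'
  have hπ : ∀ g : F, π g = 1 ↔ (g : G) ∈ B := fun g => by
    rw [QuotientGroup.mk'_apply, QuotientGroup.eq_one_iff, Subgroup.mem_subgroupOf]
  have hE : ∀ e : F ⧸ B', e * e = 1 := by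
    intro e
    obtain ⟨g, rfl⟩ := QuotientGroup.mk'_surjective B' e
    rw [← map_mul]
    exact (hπ _).mpr (hsq g g.2)
  have hEc : ∀ e e' : F ⧸ B', e * e' = e' * e := fun e e' => by
    calc e * e' = (e * e') * ((e' * e) * (e' * e)) := by rw [hE, mul_one]
      _ = e * (e' * e') * e * (e' * e) := by group
      _ = e' * e := by rw [hE e', mul_one, hE e, one_mul]
  -- squares of elements outside `B` are non-squares in `B`
  have hns : ∀ g ∈ F, g ∉ B → ∀ h : g * g ∈ B, (⟨g * g, h⟩ : B) ∉ sqh.range := by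
    rintro g hg hgB h ⟨w, hw⟩
    have hw' : (w : G) * w = g * g := congrArg Subtype.val hw
    refine hgB ?_
    have := hinv (g * (w : G)⁻¹) (F.mul_mem hg (F.inv_mem (hBF w.2))) (by
      calc g * (w : G)⁻¹ * (g * (w : G)⁻¹) = g * ((w : G)⁻¹ * g) * (w : G)⁻¹ := by group
        _ = g * (g * (w : G)⁻¹) * (w : G)⁻¹ := by rw [hcen _ (B.inv_mem w.2) g hg]
        _ = g * g * ((w : G) * w)⁻¹ := by group
        _ = 1 := by rw [hw', mul_inv_cancel])
    have := B.mul_mem this w.2
    rwa [inv_mul_cancel_right] at this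
  have hidx : sqh.range.index ≤ 2 := by
    have h1 : sqh.range.index = Nat.card sqh.ker := by
      have e1 := sqh.range.index_mul_card
      have e2 := sqh.ker.index_mul_card
      rw [Subgroup.index_ker] at e2
      rw [← e2, mul_comm (Nat.card sqh.range)] at e1
      exact Nat.eq_of_mul_eq_mul_right Nat.card_pos e1
    rw [h1]
    by_contra hlt
    push Not at hlt
    have hex : ∀ c : sqh.ker, ∃ d : sqh.ker, d ≠ 1 ∧ d ≠ c := by
      intro c
      by_contra hno
      push Not at hno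
      have : Nat.card sqh.ker ≤ 2 := by
        refine le_of_le_of_eq (Nat.card_le_card_of_surjective (fun b : Bool => if b then 1 else c) fun d => ?_) (by simp)
        by_cases hd : d = 1
        · exact ⟨true, by simp [hd]⟩
        · exact ⟨false, by simp [hno d hd]⟩
      omega
    obtain ⟨d, hd1, -⟩ := hex 1
    obtain ⟨d', hd'1, hd'd⟩ := hex d
    have hne : ∀ {c : sqh.ker}, c ≠ 1 → ((c : B) : G) ≠ 1 :=
      fun hc e => hc (Subtype.ext (Subtype.ext e))
    refine hd'd (Subtype.ext (Subtype.ext ?_))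
    exact huniq _ (hBF (d' : B).2) _ (hBF (d : B).2) (congrArg Subtype.val d'.2)
      (congrArg Subtype.val d.2) (hne hd'1) (hne hd1)
  -- commutators of independent elements
  have hcm : ∀ g h : F, π g ≠ 1 → π h ≠ 1 → π g ≠ π h →
      ((g * h * g⁻¹ * h⁻¹ : F) : G) ∈ B ∧ ((g * h * g⁻¹ * h⁻¹ : F) : G) ≠ 1 ∧
        ((g * h * g⁻¹ * h⁻¹ : F) : G) * ((g * h * g⁻¹ * h⁻¹ : F) : G) = 1 := by
    intro g h hg hh hgh
    have hgh' : π (g * h) ≠ 1 := by
      rw [map_mul]
      intro e
      exact hgh (by rw [eq_inv_of_mul_eq_one_left e]; exact inv_eq_of_mul_eq_one_right (hE _))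
    set c : F := g * h * g⁻¹ * h⁻¹ with hc
    have hcB : (c : G) ∈ B := (hπ c).mp (by
      rw [hc, map_mul, map_mul, map_mul, map_inv, map_inv, hEc (π g) (π h), mul_inv_cancel_right,
        mul_inv_cancel])
    have hgg := hsq (g : G) g.2
    have hhh := hsq (h : G) h.2
    refine ⟨hcB, ?_, ?_⟩
    · intro e
      have hcomm : (g : G) * h = h * g := by
        have e' : (g : G) * h * (g : G)⁻¹ * (h : G)⁻¹ = 1 := e
        rwa [mul_inv_eq_one, mul_inv_eq_iff_eq_mul] at e'
      have hn : ∀ k : F, π k ≠ 1 → (⟨(k : G) * k, hsq _ k.2⟩ : B) ∉ sqh.range :=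
        fun k hk => hns _ k.2 (fun hm => hk ((hπ k).mpr hm)) _
      have hidx2 : sqh.range.index = 2 := by
        refine le_antisymm hidx ?_
        by_contra hlt
        have : sqh.range.index = 1 := by
          have := Subgroup.index_ne_zero_of_finite (H := sqh.range)
          omega
        exact hn g hg (Subgroup.index_eq_one.mp this ▸ Subgroup.mem_top _)
      refine hn _ hgh' ?_
      have h2 := (Subgroup.mul_mem_iff_of_index_two hidx2 (a := (⟨(g : G) * g, hgg⟩ : B))
        (b := ⟨(h : G) * h, hhh⟩)).mpr (iff_of_false (hn g hg) (hn h hh))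
      convert h2 using 1
      refine Subtype.ext ?_
      show (g : G) * h * (g * h) = g * g * (h * h)
      calc (g : G) * h * (g * h) = g * (h * g) * h := by group
        _ = g * (g * h) * h := by rw [hcomm]
        _ = g * g * (h * h) := by group
    · have e : (g : G) * h * (g : G)⁻¹ = (c : G) * h := by
        show _ = ((g : G) * h * (g : G)⁻¹ * (h : G)⁻¹) * h
        rw [inv_mul_cancel_right]
      refine (mul_eq_right (b := (h : G))).mp ?_
      calc (c : G) * c * h = c * ((g : G) * h * (g : G)⁻¹) := by rw [e, mul_assoc]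
        _ = (g : G) * c * h * (g : G)⁻¹ := by rw [hcen _ hcB g g.2]; group
        _ = (g : G) * ((g : G) * h * (g : G)⁻¹) * (g : G)⁻¹ := by rw [e]; group
        _ = (g : G) * g * h * ((g : G) * g)⁻¹ := by group
        _ = h := by rw [← hcen _ hgg h h.2, mul_inv_cancel_right]
  have hcover : ∀ g h d : F, π g ≠ 1 → π h ≠ 1 → π g ≠ π h →
      π d = 1 ∨ π d = π g ∨ π d = π h ∨ π d = π g * π h := by
    intro g h d hg hh hgh
    by_contra hno
    push Not at hno
    obtain ⟨hd1, hdg, hdh, hdgh⟩ := hno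
    have hinvE : ∀ e : F ⧸ B', e⁻¹ = e := fun e => inv_eq_of_mul_eq_one_right (hE e)
    obtain ⟨hB1, hne1, hs1⟩ := hcm g h hg hh hgh
    obtain ⟨hB2, hne2, hs2⟩ := hcm g d hg hd1 (Ne.symm hdg)
    obtain ⟨-, hne3, -⟩ := hcm g (h * d) hg
      (by rw [map_mul]; intro e; exact hdh (by rw [eq_inv_of_mul_eq_one_right e, hinvE]))
      (by rw [map_mul]; intro e; exact hdgh (by rw [e, hEc (π h) (π d), mul_assoc, hE, mul_one]))
    refine hne3 ?_
    have heq := huniq _ (hBF hB1) _ (hBF hB2) hs1 hs2 hne1 hne2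
    show (g : G) * (h * d) * (g : G)⁻¹ * ((h : G) * d)⁻¹ = 1
    calc (g : G) * (h * d) * (g : G)⁻¹ * ((h : G) * d)⁻¹
        = ((g * h * g⁻¹ * h⁻¹ : F) : G) * (h * ((g * d * g⁻¹ * d⁻¹ : F) : G) * (h : G)⁻¹) := by
          simp only [Subgroup.coe_mul, Subgroup.coe_inv]; group
      _ = ((g * h * g⁻¹ * h⁻¹ : F) : G) * ((g * d * g⁻¹ * d⁻¹ : F) : G) := by
          rw [hcen _ hB2 h h.2, mul_inv_cancel_right]
      _ = 1 := by rw [← heq, hs1]
  -- the orbit of the class of `a`
  let cu : F →* F := MonoidHom.mk' (fun g => ⟨u * g * u⁻¹, hF g g.2⟩) fun g h => Subtype.ext (by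
    show u * ((g : G) * h) * u⁻¹ = u * g * u⁻¹ * (u * h * u⁻¹)
    group)
  let φ : F ⧸ B' →* F ⧸ B' := QuotientGroup.map B' B' cu fun g hg => by
    rw [Subgroup.mem_comap, Subgroup.mem_subgroupOf]
    exact hB _ (Subgroup.mem_subgroupOf.mp hg)
  have hφ : ∀ (i : ℕ) (g : F), φ^[i] (π g) = π ⟨u ^ i * g * (u ^ i)⁻¹, conj_pow_mem hF i g g.2⟩ := by
    intro i
    induction i with
    | zero => intro g; simp
    | succ i ih =>
      intro g
      rw [Function.iterate_succ_apply', ih]
      show π (cu _) = _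
      refine congrArg π (Subtype.ext ?_)
      show u * (u ^ i * g * (u ^ i)⁻¹) * u⁻¹ = u ^ (i + 1) * g * (u ^ (i + 1))⁻¹
      rw [pow_succ' u i]
      group
  have hper : ∀ e, Function.IsPeriodicPt φ (2 ^ i₀) e := by
    intro e
    obtain ⟨g, rfl⟩ := QuotientGroup.mk'_surjective B' e
    show φ^[2 ^ i₀] (π g) = π g
    rw [hφ]
    exact congrArg π (Subtype.ext (by simp [hu]))
  have hφinj : Function.Injective φ := by
    intro e e' h
    have h1 := hper e
    have h2 := hper e'
    obtain ⟨m, hm⟩ := Nat.exists_eq_succ_of_ne_zero (Nat.two_pow_pos i₀).ne'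
    rw [Function.IsPeriodicPt, Function.IsFixedPt, hm, Function.iterate_succ_apply, h] at h1
    rw [Function.IsPeriodicPt, Function.IsFixedPt, hm, Function.iterate_succ_apply] at h2
    exact h1.symm.trans h2
  have key : ∀ e, φ (φ e) = e := by
    intro e
    by_cases he : e = 1
    · rw [he, map_one, map_one]
    by_cases hfix : φ e = e
    · rw [hfix, hfix]
    obtain ⟨g, hg⟩ := QuotientGroup.mk'_surjective B' e
    obtain ⟨h, hh⟩ := QuotientGroup.mk'_surjective B' (φ e)
    obtain ⟨d, hd⟩ := QuotientGroup.mk'_surjective B' (φ (φ e))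
    have hφ1 : φ e ≠ 1 := fun h1 => he (hφinj (h1.trans (map_one φ).symm))
    rcases hcover g h d (hg ▸ he) (hh ▸ hφ1) (by rw [show π g = e from hg, show π h = φ e from hh]; exact Ne.symm hfix)
      with h1 | h1 | h1 | h1 <;>
      simp only [show π g = e from hg, show π h = φ e from hh, show π d = φ (φ e) from hd] at h1
    · exact absurd (hφinj (h1.trans (map_one φ).symm)) hφ1
    · exact h1
    · exact absurd (hφinj h1) hfix
    · exfalso
      refine hfix ?_
      have h3 : Function.IsPeriodicPt φ 3 e := by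
        show φ (φ (φ e)) = e
        rw [h1, map_mul, h1, hEc e, ← mul_assoc, hE, one_mul]
      have := h3.gcd (hper e)
      rwa [show Nat.gcd 3 (2 ^ i₀) = 1 from Nat.Coprime.pow_right _ (by norm_num)] at this
  have h2 := key (π ⟨a, haF⟩)
  rw [← Function.iterate_one φ, ← Function.iterate_add_apply, hφ] at h2
  rw [← mul_inv_eq_one, ← map_inv, ← map_mul] at h2
  exact (hπ _).mp h2

variable {Q : Type*} [CommGroup Q] {k : Type*} [Field k] {q : ℕ} {F : Form Q k q} {n : ℕ}

/-- An element of order four in `SL(2, 3)` is not a square. -/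
theorem IsPl.no_sqrt [Finite Q] {u h : MulAut Q} (hu : IsPl F n u) (hn : n = 2) (hq : q = 3)
    (hh : h ∈ F.aut) (hp : ∀ y ∈ invs (zz n u), h y ∈ invs (zz n u))
    (hsq : ∀ y ∈ invs (zz n u), h (h y) = u y) : False := by
  obtain ⟨a, ha, ha1⟩ := hu.exists_ne
  have hz : ∀ y, zz n u y = u (u y) := fun y => by
    rw [zz, hn, show (2 : ℕ) ^ (2 - 1) = 2 from rfl, pow_two, MulAut.mul_apply]
  have hza : u (u a) = a⁻¹ := (hz a).symm.trans (mem_invs.mp ha)
  have hord : ∀ m : ℕ, a ^ m = 1 → ((m : ℕ) : ZMod 3) = 0 := fun m hm => by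
    rw [ZMod.natCast_eq_zero_iff]
    have := orderOf_dvd_of_pow_eq_one hm
    rwa [F.orderOf_eq ha1, hq] at this
  set b := h a with hb
  have hbK := hp a ha
  have hua : u a = h b := (hsq a ha).symm
  by_cases hmem : b ∈ Subgroup.zpowers a
  · obtain ⟨i, hi⟩ := F.exists_pow hmem
    have hua2 : u a = a ^ (i * i) := by rw [hua, hi, map_pow, ← hb, hi, ← pow_mul]
    have h1 : a ^ (i * i * (i * i) + 1) = 1 := by
      rw [pow_succ, pow_mul, ← hua2, ← map_pow, ← hua2, hza, inv_mul_cancel]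
    have h2 := hord _ h1
    push_cast at h2
    revert h2
    generalize ((i : ℕ) : ZMod 3) = x
    revert x
    decide
  obtain ⟨i, j, hij⟩ := hu.span ha ha1 hbK hmem (hp b hbK)
  have hB : F.B a b ≠ 1 := hu.twist_ne ha ha1 hbK hmem
  have hBord : ∀ m : ℕ, F.B a b ^ m = 1 → ((m : ℕ) : ZMod 3) = 0 := fun m hm => by
    rw [ZMod.natCast_eq_zero_iff]
    haveI := Fact.mk F.prime
    have := orderOf_dvd_of_pow_eq_one hm
    rwa [orderOf_eq_prime (F.pow_q a b) hB, hq] at this
  have hi2 : ((i + 1 : ℕ) : ZMod 3) = 0 := hBord _ (by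
    have e := hh a b
    rw [← hb, hij, F.mul_right, F.pow_right, F.pow_right, F.self, one_pow, mul_one] at e
    rw [pow_succ]
    nth_rewrite 2 [← e]
    rw [← mul_pow, mul_comm, F.swap, one_pow])
  have hua2 : u a = a ^ i * b ^ j := hua.trans hij
  have hub : u b = b ^ i * (a ^ i * b ^ j) ^ j := by
    rw [← hsq b hbK, hij, map_mul, map_pow, map_pow, ← hb, hij]
  have hzab : a ^ (i * i + i * j * j + 1) * b ^ (j * i + i * j + j * j * j) = 1 := by
    have e : u (u a) = a ^ (i * i + i * j * j) * b ^ (j * i + i * j + j * j * j) := by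
      rw [hua2, map_mul, map_pow, map_pow, hua2, hub]
      simp only [mul_pow, ← pow_mul, pow_add]
      ac_rfl
    rw [hza] at e
    rw [pow_succ, mul_right_comm, ← e, inv_mul_cancel]
  have hbexp : (((j * i + i * j + j * j * j) : ℕ) : ZMod 3) = 0 := hBord _ (by
    have e := congrArg (F.B a) hzab
    rwa [F.mul_right, F.pow_right, F.pow_right, F.self, one_pow, one_mul, F.one_right] at e)
  obtain ⟨t, ht⟩ := (ZMod.natCast_eq_zero_iff _ 3).mp hbexp
  rw [ht, pow_mul, show b ^ 3 = 1 from hq ▸ F.exp b, one_pow, mul_one] at hzab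
  have haexp := hord _ hzab
  push_cast at hbexp haexp hi2
  clear ht
  revert hbexp haexp hi2
  generalize ((i : ℕ) : ZMod 3) = x
  generalize ((j : ℕ) : ZMod 3) = y
  revert x y
  decide

/-- The local step. -/
theorem local_lemma [Finite Q] (S A B : Subgroup (MulAut Q)) (hS : IsPGroup 2 S) (hSF : S ≤ F.aut)
    (hAS : A ≤ S) (hBA : B ≤ A) (hsq : ∀ a ∈ A, a * a ∈ B)
    (hcen : ∀ b ∈ B, ∀ a ∈ A, a * b = b * a) {u τ : MulAut Q} (huS : u ∈ S) (hτ : τ ∈ A)
    (huA : ∀ a ∈ A, u * a * u⁻¹ ∈ A) (huB : ∀ b ∈ B, u * b * u⁻¹ ∈ B) (hq : q + 1 = 2 ^ n)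
    (hu : IsPl F n u) (hu1 : zz n (τ * u) = 1 ∨ IsPl F n (τ * u))
    (hy : ∃ e ∈ A, (∀ a ∈ A, e * a = a * e) ∧ e * e = 1 ∧
      (zz n (e * τ * u⁻¹) = 1 ∨ IsPl F n (e * τ * u⁻¹))) :
    zz n (τ * u) * (zz n u)⁻¹ ∈ B := by
  classical
  haveI := finite_mulAut Q
  have h2n := hu.two
  set z := zz n u with hz
  have hττ := hsq τ hτ
  have hτS := hAS hτ
  -- elements preserving the plane commute with the involution
  have hinvol : ∀ g ∈ F.aut, g * g = 1 → g * z = z * g →
      g * u = u * g := by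
    intro g hg hgg hgz
    refine F.ext hu.sq (fun y hy => ?_) fun y hy => ?_
    · have hy' := mem_invs.mpr hy
      rcases hu.inv_or_fix hg hgg fun w hw => hu.pres_of_comm hgz hw with h | h
      · rw [MulAut.mul_apply, MulAut.mul_apply, h _ (hu.pres hy'), h y hy', map_inv]
      · rw [MulAut.mul_apply, MulAut.mul_apply, h _ (hu.pres hy'), h y hy']
    · have hgy : z (g y) = g y := by rw [← MulAut.mul_apply, ← hgz, MulAut.mul_apply, hy]
      rw [MulAut.mul_apply, MulAut.mul_apply, hu.fix hy, hu.fix hgy]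
  rcases Nat.lt_or_ge n 3 with hn | hn
  · -- the small case
    have hn2 : n = 2 := by omega
    have hzz : ∀ g : MulAut Q, zz n g = g * g := fun g => by
      rw [zz, hn2, show (2 : ℕ) ^ (2 - 1) = 2 from rfl, sq]
    have hN : τ * u = u * τ → zz n (τ * u) * z⁻¹ ∈ B := by
      intro hc
      rw [hz, hzz, hzz, show τ * u * (τ * u) = τ * (u * τ) * u by group, ← hc,
        show τ * (τ * u) * u * (u * u)⁻¹ = τ * τ by group]
      exact hττ
    have hu1S : τ * u ∈ S := S.mul_mem hτS huS
    rcases hu1 with h1 | h1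
    swap
    · rcases dichotomy S hS hSF hu h1 huS hu1S with e | ho
      · rw [← e, mul_inv_cancel]; exact one_mem _
      · refine hN ?_
        have := ho.comm hu h1
        rwa [← mul_assoc u τ u, mul_left_inj] at this
    rw [hzz] at h1
    set v := τ * u * τ⁻¹ with hvd
    have hv : IsPl F n v := hu.conj (hSF hτS)
    have hvS : v ∈ S := S.mul_mem (S.mul_mem hτS huS) (S.inv_mem hτS)
    rcases dichotomy S hS hSF hu hv huS hvS with e | ho
    · rw [hvd, zz_conj, eq_mul_inv_iff_mul_eq] at e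
      refine hN ?_
      have hgz : τ * u * z = z * (τ * u) := by
        rw [mul_assoc, ← IsPl.zz_comm (n := n) (u := u), ← mul_assoc, ← e, mul_assoc]
      have := hinvol _ (hSF hu1S) h1 hgz
      rwa [← mul_assoc u τ u, mul_left_inj] at this
    exfalso
    have hq3 : q = 3 := by rw [hn2] at hq; omega
    obtain ⟨e, heA, hec, hee, hy'⟩ := hy
    have heS := hAS heA
    have hvu : v * u = u * v := ho.comm hu hv
    have hτ2 : τ * τ = v⁻¹ * u⁻¹ := by
      rw [eq_comm, ← mul_inv_rev, inv_eq_iff_mul_eq_one, hvd]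
      calc u * (τ * u * τ⁻¹) * (τ * τ) = u * (τ * u * τ * u) * u⁻¹ := by group
        _ = u * (τ * u * (τ * u)) * u⁻¹ := by group
        _ = 1 := by rw [h1, mul_one, mul_inv_cancel]
    -- `e` preserves the plane
    have hez : e * z = z * e := by
      set w := e * u * e⁻¹ with hwd
      have hw : IsPl F n w := hu.conj (hSF heS)
      have hwS : w ∈ S := S.mul_mem (S.mul_mem heS huS) (S.inv_mem heS)
      rcases dichotomy S hS hSF hu hw huS hwS with e1 | ho1
      · rw [hwd, zz_conj, eq_mul_inv_iff_mul_eq] at e1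
        exact e1.symm
      exfalso
      rcases dichotomy S hS hSF hv hw hvS hwS with e1 | ho2
      · -- a square root on the plane
        rw [hvd, hwd, zz_conj, zz_conj] at e1
        set g := τ⁻¹ * e with hg
        have hgS : g ∈ S := S.mul_mem (S.inv_mem hτS) heS
        have hgz : g * z = z * g := by
          calc g * z = τ⁻¹ * (e * z * e⁻¹) * e := by rw [hg]; group
            _ = τ⁻¹ * (τ * z * τ⁻¹) * e := by rw [e1]
            _ = z * g := by rw [hg]; group
        refine hu.no_sqrt hn2 hq3 (hSF hgS) (fun y hy => hu.pres_of_comm hgz hy) fun y hy => ?_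
        have hgg : g * g = u * v := by
          have e2 : (τ * τ)⁻¹ = u * v := by rw [hτ2, mul_inv_rev, inv_inv, inv_inv]
          have hc : e * τ⁻¹ = τ⁻¹ * e := (show Commute e τ from hec τ hτ).inv_right.eq
          rw [← e2, hg]
          calc τ⁻¹ * e * (τ⁻¹ * e) = τ⁻¹ * (e * τ⁻¹) * e := by group
            _ = τ⁻¹ * τ⁻¹ * (e * e) := by rw [hc]; group
            _ = (τ * τ)⁻¹ := by rw [hee]; group
        rw [← MulAut.mul_apply, hgg, MulAut.mul_apply, ho y hy]
      -- the plane of `w` is in the span of the other two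
      let ψ : invs z →* Q :=
        MonoidHom.mk' (fun a => u (a : Q) * (a : Q)⁻¹) fun a b => by
          rw [Subgroup.coe_mul, map_mul, mul_inv, mul_mul_mul_comm]
      have hψ : ψ.range = invs z := by
        refine Subgroup.eq_of_le_of_card_ge ?_ ?_
        · rintro _ ⟨a, rfl⟩; exact hu.move _
        · refine (Nat.card_congr (MonoidHom.ofInjective (f := ψ) ?_).toEquiv).le
          refine (injective_iff_map_eq_one ψ).mpr fun a ha => Subtype.ext ?_
          have he : u (a : Q) = a := mul_inv_eq_one.mp ha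
          have := mem_invs.mp a.2
          rw [show z (a : Q) = a from IsPl.zz_fix he] at this
          exact F.eq_one_of_sq (mul_eq_one_iff_eq_inv.mpr this)
      obtain ⟨y, hy, hy1⟩ := hw.exists_ne
      refine hy1 (hw.nondeg hy fun x hx => ?_)
      have hya : e⁻¹ y ∈ invs z := by rwa [hwd, zz_conj, mem_invs_conj] at hy
      obtain ⟨b, hb⟩ : (e⁻¹ y)⁻¹ ∈ ψ.range := hψ.symm ▸ Subgroup.inv_mem _ hya
      change u (b : Q) * (b : Q)⁻¹ = (e⁻¹ y)⁻¹ at hb
      -- `y` is moved by `τ ^ 2`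
      set c := e (u (b : Q)) with hc
      have hd : (τ * τ) c * c⁻¹ = y := by
        have e1 : (τ * τ) (u (b : Q)) = b := by
          rw [hτ2, show v⁻¹ * u⁻¹ = u⁻¹ * v⁻¹ by rw [← mul_inv_rev, ← mul_inv_rev, hvu],
            MulAut.mul_apply]
          have : v⁻¹ (u (b : Q)) = u b := by
            conv_lhs => rw [← ho _ (hu.pres b.2)]
            rw [MulAut.inv_apply_self]
          rw [this, MulAut.inv_apply_self]
        have hb' : (b : Q) * (u (b : Q))⁻¹ = e⁻¹ y := by
          rw [← inv_inv (e⁻¹ y), ← hb, mul_inv_rev, inv_inv]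
        rw [hc, ← MulAut.mul_apply Q (τ * τ) e,
          show τ * τ * e = e * (τ * τ) from
            ((show Commute e τ from hec τ hτ).mul_right (hec τ hτ)).eq.symm,
          MulAut.mul_apply, e1, ← map_inv, ← map_mul, hb', MulAut.apply_inv_self]
      rw [← hd, hτ2, MulAut.mul_apply]
      set d := u⁻¹ c with hdd
      have hd1 : v⁻¹ d * d⁻¹ ∈ invs (zz n v) := by
        have := hv.move (v⁻¹ d)
        rw [MulAut.apply_inv_self] at this
        simpa [mul_inv_rev, mul_comm] using Subgroup.inv_mem _ this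
      have hd2 : d * c⁻¹ ∈ invs z := by
        have := hu.move (u⁻¹ c)
        rw [MulAut.apply_inv_self] at this
        simpa [hdd, mul_inv_rev, mul_comm] using Subgroup.inv_mem _ this
      rw [show v⁻¹ d * c⁻¹ = v⁻¹ d * d⁻¹ * (d * c⁻¹) by rw [mul_assoc, inv_mul_cancel_left],
        F.mul_left, ho2.perp hw hd1 hx, ho1.perp hw hd2 hx, one_mul]
    have heu : e * u = u * e := hinvol e (hSF heS) hee hez
    -- a plane element moving two planes
    have hzv : zz n v = τ * u * z * (τ * u)⁻¹ := by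
      rw [hvd, zz_conj, hz, mul_assoc τ u, ← IsPl.zz_comm (n := n) (u := u)]
      group
    have hinv' : (τ * u)⁻¹ = τ * u := inv_eq_of_mul_eq_one_right h1
    have hyy : zz n (e * τ * u⁻¹) = zz n v * z := by
      have hc1 : Commute e (τ * u⁻¹) :=
        (show Commute e τ from hec τ hτ).mul_right (show Commute e u from heu).inv_right
      have e3 : τ * u⁻¹ = τ * u * z := by
        have : u * z = u⁻¹ := by
          refine eq_inv_of_mul_eq_one_left ?_
          rw [hz, hzz, show u * (u * u) * u = u * u * (u * u) by group, ← hzz u]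
          exact hu.sq
        rw [mul_assoc, this]
      rw [hzz, hzv, hinv', mul_assoc e τ, hc1.symm.mul_mul_mul_comm, hee, one_mul, e3]
      group
    have hz1 : ∀ y ∈ invs z, zz n (e * τ * u⁻¹) y = y⁻¹ := fun y hy => by
      rw [hyy, MulAut.mul_apply, mem_invs.mp hy, map_inv, IsPl.zz_fix (ho y hy)]
    have hz2 : ∀ y ∈ invs (zz n v), zz n (e * τ * u⁻¹) y = y⁻¹ := fun y hy => by
      rw [hyy, MulAut.mul_apply, IsPl.zz_fix (ho.symm hu hv y hy), mem_invs.mp hy]
    rcases hy' with h2 | h2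
    · obtain ⟨y, hy, hy1⟩ := hu.exists_ne
      have := hz1 y hy
      rw [h2, MulAut.one_apply] at this
      exact hy1 (F.eq_one_of_sq (mul_eq_one_iff_eq_inv.mpr this))
    · refine ho.ne hu hv ((hu.eq_of_le h2 fun y hy => mem_invs.mpr (hz1 y hy)).trans ?_)
      exact (hv.eq_of_le h2 fun y hy => mem_invs.mpr (hz2 y hy)).symm
  · -- the large case
    let P : ℕ → MulAut Q := fun i => (τ * u) ^ 2 ^ i * (u ^ 2 ^ i)⁻¹
    have hP : ∀ i, P (i + 1) = P i * (u ^ 2 ^ i * P i * (u ^ 2 ^ i)⁻¹) := fun i => by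
      show (τ * u) ^ 2 ^ (i + 1) * (u ^ 2 ^ (i + 1))⁻¹ = _
      rw [pow_succ 2 i, mul_two, pow_add, pow_add]
      simp only [P]
      group
    set δ := τ⁻¹ * u * τ * u⁻¹ with hδ
    have hδA : δ ∈ A := by
      rw [hδ, show τ⁻¹ * u * τ * u⁻¹ = τ⁻¹ * (u * τ * u⁻¹) by group]
      exact A.mul_mem (A.inv_mem hτ) (huA τ hτ)
    -- the second difference
    have hdd : u ^ 2 * δ * (u ^ 2)⁻¹ * δ⁻¹ ∈ B := by
      set v := τ⁻¹ * u * τ with hvd
      have hδv : δ = v * u⁻¹ := hδ
      have hv : IsPl F n v := by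
        have := hu.conj (s := τ⁻¹) (hSF (S.inv_mem hτS))
        rwa [inv_inv] at this
      have hvS : v ∈ S := S.mul_mem (S.mul_mem (S.inv_mem hτS) huS) hτS
      rcases dichotomy S hS hSF hu hv huS hvS with e | ho
      swap
      · have hc : δ * u = u * δ := by
          rw [hδv, inv_mul_cancel_right, ← mul_assoc, ← ho.comm hu hv, mul_inv_cancel_right]
        rw [← ((show Commute δ u from hc).pow_right 2).eq, mul_inv_cancel_right, mul_inv_cancel]
        exact one_mem _
      let Fs : Subgroup (MulAut Q) :=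
        { carrier := {g | g ∈ A ∧ g * z = z * g ∧ ∀ y, z y = y → g y = y}
          one_mem' := ⟨A.one_mem, by rw [one_mul, mul_one], fun y _ => rfl⟩
          mul_mem' := fun {g g'} hg hg' => ⟨A.mul_mem hg.1 hg'.1,
            ((show Commute g z from hg.2.1).mul_left hg'.2.1).eq, fun y hy => by
              rw [MulAut.mul_apply, hg'.2.2 y hy, hg.2.2 y hy]⟩
          inv_mem' := fun {g} hg => ⟨A.inv_mem hg.1, (show Commute g z from hg.2.1).inv_left.eq,
            fun y hy => by
              conv_lhs => rw [← hg.2.2 y hy]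
              rw [MulAut.inv_apply_self]⟩ }
      have hzc : u * z = z * u := (IsPl.zz_comm (n := n) (u := u)).symm
      have hzv : v * z = z * v := by
        rw [hz, e]
        exact (IsPl.zz_comm (n := n) (u := v)).symm
      have hδF : δ ∈ Fs := by
        refine ⟨hδA, by rw [hδv]; exact ((show Commute v z from hzv).mul_left
          (show Commute u z from hzc).inv_left).eq, fun y hy => ?_⟩
        rw [hδv, MulAut.mul_apply]
        have : u⁻¹ y = y := by
          conv_lhs => rw [← hu.fix hy]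
          rw [MulAut.inv_apply_self]
        rw [this]
        exact hv.fix (by rw [← e]; exact hy)
      have := sq_conj_mem u (i₀ := n) (by
          rw [show 2 ^ n = 2 ^ (n - 1) * 2 by rw [← pow_succ, Nat.sub_add_cancel (by omega)], pow_mul,
            sq]
          exact hu.sq)
        Fs (B ⊓ Fs) inf_le_right (fun g hg => ⟨hsq g hg.1, Fs.mul_mem hg hg⟩)
        (fun b hb g hg => hcen b hb.1 g hg.1) ?_ ?_ ?_ δ hδF
      · exact this.1
      · -- one involution
        have huniq : ∀ g ∈ Fs, g * g = 1 → g ≠ 1 → g = z := by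
          intro g hg hgg hg1
          rcases hu.inv_or_fix (hSF (hAS hg.1)) hgg fun w hw => hu.pres_of_comm hg.2.1 hw with h | h
          · exact F.ext hu.sq (fun y hy => by rw [h y (mem_invs.mpr hy), hy])
              fun y hy => by rw [hg.2.2 y hy, hy]
          · exact absurd (F.ext hu.sq (fun y hy => by rw [h y (mem_invs.mpr hy), MulAut.one_apply])
              fun y hy => by rw [hg.2.2 y hy, MulAut.one_apply]) hg1
        exact fun g hg g' hg' hgg hgg' hg1 hg1' =>
          (huniq g hg hgg hg1).trans (huniq g' hg' hgg' hg1').symm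
      · rintro g ⟨hgA, hgz, hgf⟩
        refine ⟨huA g hgA, (((show Commute u z from hzc).mul_left hgz).mul_left
          (show Commute u z from hzc).inv_left).eq, fun y hy => ?_⟩
        have hy1 : u⁻¹ y = y := by
          conv_lhs => rw [← hu.fix hy]
          rw [MulAut.inv_apply_self]
        rw [MulAut.mul_apply, MulAut.mul_apply, hy1, hgf y hy, hu.fix hy]
      · rintro b ⟨hbB, hbA, hbz, hbf⟩
        refine ⟨huB b hbB, huA b hbA, (((show Commute u z from hzc).mul_left hbz).mul_left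
          (show Commute u z from hzc).inv_left).eq, fun y hy => ?_⟩
        have hy1 : u⁻¹ y = y := by
          conv_lhs => rw [← hu.fix hy]
          rw [MulAut.inv_apply_self]
        rw [MulAut.mul_apply, MulAut.mul_apply, hy1, hbf y hy, hu.fix hy]
    have hP1 : P 1 = τ * τ * δ := by
      show (τ * u) ^ 2 ^ 1 * (u ^ 2 ^ 1)⁻¹ = _
      rw [pow_one, sq, sq, hδ]
      group
    have hconjB : ∀ (i : ℕ), ∀ b ∈ B, u ^ i * b * (u ^ i)⁻¹ ∈ B := conj_pow_mem huB
    have hP1A : P 1 ∈ A := by rw [hP1]; exact A.mul_mem (A.mul_mem hτ hτ) hδA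
    have hPall : ∀ i, P (i + 2) ∈ B := by
      intro i
      induction i with
      | zero =>
        rw [hP 1, pow_one, hP1]
        rw [show τ * τ * δ * (u ^ 2 * (τ * τ * δ) * (u ^ 2)⁻¹) =
          τ * τ * (δ * (u ^ 2 * (τ * τ) * (u ^ 2)⁻¹)) * (u ^ 2 * δ * (u ^ 2)⁻¹ * δ⁻¹) * δ by group,
          hcen _ (hconjB 2 _ hττ) δ hδA]
        have e1 : ∀ b b' : MulAut Q, b ∈ B → b' ∈ B →
            τ * τ * (b * δ) * b' * δ = τ * τ * b * b' * (δ * δ) := fun b b' _ hb' => by
          rw [show τ * τ * (b * δ) * b' * δ = τ * τ * b * (δ * b') * δ by group, hcen b' hb' δ hδA]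
          group
        rw [e1 _ _ (hconjB 2 _ hττ) hdd]
        exact B.mul_mem (B.mul_mem (B.mul_mem hττ (hconjB 2 _ hττ)) hdd) (hsq δ hδA)
      | succ i ih =>
        rw [hP (i + 2)]
        exact B.mul_mem ih (hconjB _ _ ih)
    have := hPall (n - 3)
    rwa [show n - 3 + 2 = n - 1 by omega] at this

end CfsgLib.Gross
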