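import Cfsg.Agent.Lib.Gross.Main
import Cfsg.Agent.Lib.Gross.Local

/-!
In a soluble linear group in characteristic two without Jordan blocks of full size, the involutions of
`t x` and `x` differ by a central element, for `t` in a suitable `2`-subgroup fixing all characters.
-/

set_option autoImplicit false
set_option linter.style.haveILetI false
set_option linter.unusedSectionVars false

open Module CfsgLib.HallHigman

namespace CfsgLib.Gross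

theorem translate_mem {L : Type*} [Group L] {A : Subgroup L} {x t : L}
    (hxA : ∀ a ∈ A, x * a * x⁻¹ ∈ A) (ht : t ∈ A) :
    ∀ j : ℕ, (t * x) ^ j * (x ^ j)⁻¹ ∈ A := by
  intro j
  induction j with
  | zero => simp
  | succ j ih =>
    rw [show (t * x) ^ (j + 1) * (x ^ (j + 1))⁻¹ =
      t * (x * ((t * x) ^ j * (x ^ j)⁻¹) * x⁻¹) by rw [pow_succ', pow_succ' x]; group]
    exact A.mul_mem ht (hxA _ ih)

theorem isPGroup_sup_zpowers {L : Type*} [Group L] [Finite L] {p : ℕ} [Fact p.Prime] {P : Subgroup L}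
    (hP : IsPGroup p P) {x : L} (hx : ∃ i, x ^ p ^ i = 1) (hxP : ∀ a ∈ P, x * a * x⁻¹ ∈ P) :
    IsPGroup p (P ⊔ Subgroup.zpowers x : Subgroup L) := by
  refine hP.to_sup_of_normal_left' ?_ (Subgroup.zpowers_le.mpr
    (PrimaryParts.mem_normalizer_of_conj_mem hxP))
  obtain ⟨i, hi⟩ := hx
  rintro ⟨y, hy⟩
  obtain ⟨m, rfl⟩ := Subgroup.mem_zpowers_iff.mp hy
  refine ⟨i, Subtype.ext ?_⟩
  show (x ^ m) ^ p ^ i = 1
  rw [← zpow_natCast, ← zpow_mul, mul_comm m, zpow_mul, zpow_natCast, hi, one_zpow]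

variable {k : Type*} [Field k] [IsAlgClosed k] {V : Type*} [AddCommGroup V] [Module k V]
  [FiniteDimensional k V]
variable {L : Type*} [Group L] [Finite L] {σ : L →* Module.End k V} {N : Subgroup L} [hNn : N.Normal]
variable {U : Submodule k V}

/-- The commutator form on the quotient by the scalars. -/
noncomputable def pairing (h : IsCst σ N U) (a b : N ⧸ h.zsub.subgroupOf N) : k :=
  h.cm (a.out : N) (b.out : N)

theorem pairing_mk (h : IsCst σ N U) (hT : Tw σ N U) (a b : N) :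
    pairing h (QuotientGroup.mk a) (QuotientGroup.mk b) = h.cm (a : L) b := by
  set a' := (QuotientGroup.mk a : N ⧸ h.zsub.subgroupOf N).out
  set b' := (QuotientGroup.mk b : N ⧸ h.zsub.subgroupOf N).out
  have ea : (QuotientGroup.mk a' : N ⧸ h.zsub.subgroupOf N) = QuotientGroup.mk a := QuotientGroup.out_eq' _
  have eb : (QuotientGroup.mk b' : N ⧸ h.zsub.subgroupOf N) = QuotientGroup.mk b := QuotientGroup.out_eq' _
  show h.cm (a' : L) b' = _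
  rw [h.cm_congr hT a'.2 b' b eb]
  refine mul_left_cancel₀ (left_ne_zero_of_mul_eq_one (h.cm_swap hT a'.2 b.2)) ?_
  rw [h.cm_swap hT a'.2 b.2, h.cm_congr hT b.2 a' a ea, h.cm_swap hT a.2 b.2]

/-- The form of a constituent. -/
noncomputable def formOf (h : IsCst σ N U) (hT : Tw σ N U) {q : ℕ} (hq : q.Prime) (hq2 : q ≠ 2)
    (hpow : ∀ a ∈ N, ∀ c ∈ N, a ^ q * c = c * a ^ q) :
    letI : CommGroup (N ⧸ h.zsub.subgroupOf N) :=
      { (inferInstance : Group (N ⧸ h.zsub.subgroupOf N)) with mul_comm := h.mul_comm_quot hT }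
    Form (N ⧸ h.zsub.subgroupOf N) k q :=
  letI : CommGroup (N ⧸ h.zsub.subgroupOf N) :=
    { (inferInstance : Group (N ⧸ h.zsub.subgroupOf N)) with mul_comm := h.mul_comm_quot hT }
  { B := pairing h
    prime := hq
    odd := hq2
    exp := h.quot_exp hT hpow
    mul_left := fun a b c => by
      obtain ⟨a, rfl⟩ := QuotientGroup.mk'_surjective _ a
      obtain ⟨b, rfl⟩ := QuotientGroup.mk'_surjective _ b
      obtain ⟨c, rfl⟩ := QuotientGroup.mk'_surjective _ c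
      show pairing h (QuotientGroup.mk (a * b)) (QuotientGroup.mk c) = _
      rw [QuotientGroup.mk'_apply, QuotientGroup.mk'_apply, QuotientGroup.mk'_apply, pairing_mk h hT,
        pairing_mk h hT, pairing_mk h hT, Subgroup.coe_mul, h.cm_mul_left hT a.2 b.2 c.2]
    swap := fun a b => by
      obtain ⟨a, rfl⟩ := QuotientGroup.mk'_surjective _ a
      obtain ⟨b, rfl⟩ := QuotientGroup.mk'_surjective _ b
      rw [QuotientGroup.mk'_apply, QuotientGroup.mk'_apply, pairing_mk h hT, pairing_mk h hT,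
        h.cm_swap hT a.2 b.2]
    self := fun a => by
      obtain ⟨a, rfl⟩ := QuotientGroup.mk'_surjective _ a
      rw [QuotientGroup.mk'_apply, pairing_mk h hT, h.cm_self hT a.2] }

variable [CharP k 2] {q f : ℕ} [hqp : Fact q.Prime]

set_option maxHeartbeats 800000 in
/-- The step on one constituent, when the involution of `x` moves it. -/
theorem local_moved (hq2 : q ≠ 2) (hNq : IsPGroup q N)
    (hcent : ∀ a ∈ N, ∀ b ∈ N, ∀ c ∈ N, a * b * a⁻¹ * b⁻¹ * c = c * (a * b * a⁻¹ * b⁻¹))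
    (hpow : ∀ a ∈ N, ∀ c ∈ N, a ^ q * c = c * a ^ q) (hN : (Nat.card N : k) ≠ 0) (hf : 1 ≤ f)
    (hexp : ∀ g : L, (∃ i, g ^ 2 ^ i = 1) → g ^ 2 ^ f = 1)
    (hdeg : ∀ g : L, g ^ 2 ^ f = 1 → (σ g - 1) ^ (2 ^ f - 1) = 0) {P A B : Subgroup L}
    (hP : IsPGroup 2 P) (hAP : A ≤ P) (hAfix : A ≤ fixAll σ N) (hBA : B ≤ A)
    (hsq : ∀ a ∈ A, a * a ∈ B) (hcen : ∀ b ∈ B, ∀ a ∈ A, a * b = b * a) {x : L}
    (hx : ∃ i, x ^ 2 ^ i = 1) (hxP : ∀ a ∈ P, x * a * x⁻¹ ∈ P) (hxA : ∀ a ∈ A, x * a * x⁻¹ ∈ A)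
    (hxB : ∀ b ∈ B, x * b * x⁻¹ ∈ B) {t : L} (ht : t ∈ A) (h : IsCst σ N U) (hT : Tw σ N U)
    (hmove : x ^ 2 ^ (f - 1) ∉ h.qker hN hT) :
    ∃ b ∈ B, (t * x) ^ 2 ^ (f - 1) * (x ^ 2 ^ (f - 1))⁻¹ * b⁻¹ ∈ h.qker hN hT := by
  classical
  haveI : Fact (Nat.Prime 2) := ⟨Nat.prime_two⟩
  set R₀ := P ⊔ Subgroup.zpowers x with hR₀
  have hR₀p : IsPGroup 2 R₀ := isPGroup_sup_zpowers hP hx hxP
  have hR₀e : ∀ g ∈ R₀, g ^ 2 ^ f = 1 := fun g hg => hexp g (by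
    obtain ⟨i, hi⟩ := hR₀p ⟨g, hg⟩
    exact ⟨i, congrArg Subtype.val hi⟩)
  have hxR : x ∈ R₀ := Subgroup.mem_sup_right (Subgroup.mem_zpowers x)
  have htR : t ∈ R₀ := Subgroup.mem_sup_left (hAP ht)
  have hxf := hR₀e x hxR
  set S := stabU σ N U with hS
  have hzS : x ^ 2 ^ (f - 1) ∈ S := mem_fixAll.mp (involution_mem_fixAll hN hf hxf (hdeg x hxf)) U h
  obtain ⟨a, haf, hxaS, hqa, -⟩ := plane hq2 hNq hcent hf hxf (hdeg x hxf) h
    fun h' => hmove ((h.mem_qker hN hT).mpr ⟨hzS, h'⟩)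
  set n := f - a with hn
  set π := h.qact hN hT with hπ
  letI : CommGroup (N ⧸ h.zsub.subgroupOf N) :=
    { (inferInstance : Group (N ⧸ h.zsub.subgroupOf N)) with mul_comm := h.mul_comm_quot hT }
  set F := formOf h hT hqp.out hq2 hpow with hF
  haveI : Finite (N ⧸ h.zsub.subgroupOf N) := inferInstance
  have hπaut : ∀ s : S, π s ∈ F.aut := by
    intro s b c
    obtain ⟨b, rfl⟩ := QuotientGroup.mk'_surjective _ b
    obtain ⟨c, rfl⟩ := QuotientGroup.mk'_surjective _ c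
    show pairing h (π s (QuotientGroup.mk b)) (π s (QuotientGroup.mk c)) =
      pairing h (QuotientGroup.mk b) (QuotientGroup.mk c)
    rw [hπ, h.qact_apply, h.qact_apply, pairing_mk h hT, pairing_mk h hT, MulAut.conjNormal_apply,
      MulAut.conjNormal_apply, h.cm_conj hN hT s.2 b.2 c.2]
  -- plane elements
  have hpl : ∀ g : L, g ^ 2 ^ f = 1 → ∀ hgS : g ^ 2 ^ a ∈ S,
      zz n (π ⟨g ^ 2 ^ a, hgS⟩) = 1 ∨ IsPl F n (π ⟨g ^ 2 ^ a, hgS⟩) := by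
    intro g hgf hgS
    have hzg : g ^ 2 ^ (f - 1) = (g ^ 2 ^ a) ^ 2 ^ (n - 1) := by
      rw [← pow_mul, ← pow_add, show a + (n - 1) = f - 1 by omega]
    have hzgS : g ^ 2 ^ (f - 1) ∈ S := hzg ▸ pow_mem hgS _
    set v := π ⟨g ^ 2 ^ a, hgS⟩ with hv
    have hzz : zz n v = π ⟨g ^ 2 ^ (f - 1), hzgS⟩ := by
      rw [zz, hv, ← map_pow]
      exact congrArg π (Subtype.ext hzg.symm)
    refine or_iff_not_imp_left.mpr fun hne => ?_
    obtain ⟨a', ha', -, hqa', R, -, hgR, hcard, r, hr, r', hr', hrN, hr'N, hzr, hzr', ω, hω1, hω⟩ :=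
      plane hq2 hNq hcent hf hgf (hdeg g hgf) h
        fun h' => hne (hzz.trans ((h.qact_eq_one_iff hN hT _).mpr h'))
    obtain rfl : a' = a := by
      have := Nat.pow_right_injective (le_refl 2) (hqa'.symm.trans hqa)
      omega
    set mk := QuotientGroup.mk' (h.zsub.subgroupOf N) with hmk
    set Rb := (R.subgroupOf N).map mk with hRb
    set z := zz n v with hz
    have hzinv : ∀ (b : L) (hb : b ∈ N), g ^ 2 ^ (f - 1) * b * (g ^ 2 ^ (f - 1))⁻¹ * b ∈ h.zsub →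
        mk ⟨b, hb⟩ ∈ invs z := by
      intro b hb hbz
      rw [mem_invs, hzz, hπ, hmk, QuotientGroup.mk'_apply, h.qact_apply, ← mul_eq_one_iff_eq_inv,
        ← QuotientGroup.mk_mul, QuotientGroup.eq_one_iff, Subgroup.mem_subgroupOf, Subgroup.coe_mul,
        MulAut.conjNormal_apply]
      exact hbz
    set c := mk ⟨r, hrN⟩ with hc
    set d := mk ⟨r', hr'N⟩ with hd
    have hB : F.B c d ≠ 1 := by
      show pairing h (QuotientGroup.mk _) (QuotientGroup.mk _) ≠ 1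
      rw [pairing_mk h hT, h.cm_eq hT hrN hr'N hω]
      exact hω1
    have hcR : c ∈ Rb := ⟨⟨r, hrN⟩, Subgroup.mem_subgroupOf.mpr hr, rfl⟩
    have hdR : d ∈ Rb := ⟨⟨r', hr'N⟩, Subgroup.mem_subgroupOf.mpr hr', rfl⟩
    have hc1 : c ≠ 1 := fun e => hB (by rw [e, F.one_left])
    have hdc : d ∉ Subgroup.zpowers c := fun e => hB (by
      obtain ⟨i, hi⟩ := F.exists_pow e
      rw [hi, F.pow_right, F.self, one_pow])
    have hK : Subgroup.zpowers c ⊔ Subgroup.zpowers d = Rb := by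
      refine Subgroup.eq_of_le_of_card_ge
        (sup_le (Subgroup.zpowers_le.mpr hcR) (Subgroup.zpowers_le.mpr hdR)) ?_
      obtain ⟨j, -, hj⟩ := (Nat.dvd_prime_pow hqp.out).mp (hcard ▸
        Subgroup.card_dvd_of_le (sup_le (Subgroup.zpowers_le.mpr hcR) (Subgroup.zpowers_le.mpr hdR)))
      have hlt : Nat.card (Subgroup.zpowers c) <
          Nat.card (Subgroup.zpowers c ⊔ Subgroup.zpowers d : Subgroup _) := by
        refine Nat.lt_of_le_of_ne (Subgroup.card_le_of_le le_sup_left) fun e => hdc ?_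
        exact (Subgroup.eq_of_le_of_card_ge le_sup_left e.ge).ge
          (Subgroup.mem_sup_right (Subgroup.mem_zpowers d))
      rw [Nat.card_zpowers, F.orderOf_eq hc1, hj] at hlt
      rw [hcard, hj]
      refine Nat.pow_le_pow_right hqp.out.pos ?_
      have : 1 < j := (Nat.pow_lt_pow_iff_right hqp.out.one_lt).mp (by rwa [pow_one])
      omega
    have hRle : Rb ≤ invs z := hK ▸ sup_le (Subgroup.zpowers_le.mpr (hzinv r hrN hzr))
      (Subgroup.zpowers_le.mpr (hzinv r' hr'N hzr'))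
    have hmoveR : ∀ y, v y * y⁻¹ ∈ Rb := by
      intro y
      obtain ⟨b, rfl⟩ := QuotientGroup.mk'_surjective (h.zsub.subgroupOf N) y
      refine ⟨⟨_, N.mul_mem (hNn.conj_mem b b.2 (g ^ 2 ^ a')) (N.inv_mem b.2)⟩,
        Subgroup.mem_subgroupOf.mpr (hgR b b.2), ?_⟩
      show _ = π _ (QuotientGroup.mk b) * (QuotientGroup.mk b)⁻¹
      rw [hπ, h.qact_apply, ← QuotientGroup.mk_inv, ← QuotientGroup.mk_mul]
      exact congrArg QuotientGroup.mk (Subtype.ext (by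
        rw [Subgroup.coe_mul, Subgroup.coe_inv, MulAut.conjNormal_apply]))
    have hinvR : invs z ≤ Rb := by
      intro y hy
      have hpowR : ∀ i : ℕ, (v ^ i) y * y⁻¹ ∈ Rb := fun i => by
        induction i with
        | zero => simp
        | succ i ih =>
          rw [pow_succ', MulAut.mul_apply, show v ((v ^ i) y) * y⁻¹ =
            v ((v ^ i) y) * ((v ^ i) y)⁻¹ * ((v ^ i) y * y⁻¹) by rw [mul_assoc, inv_mul_cancel_left]]
          exact Rb.mul_mem (hmoveR _) ih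
      have h2 : z y * y⁻¹ ∈ Rb := hpowR _
      rw [mem_invs.mp hy] at h2
      obtain ⟨i, hi⟩ := hqp.out.odd_of_ne_two hq2
      have h3 : (y * y) ^ (i + 1) ∈ Rb := Rb.pow_mem (by simpa using Rb.inv_mem h2) _
      rwa [← sq, ← pow_mul, show 2 * (i + 1) = q + 1 by omega, pow_succ, F.exp, one_mul] at h3
    refine ⟨hπaut _, by omega, ?_, fun y => hRle (hmoveR y), ?_,
      ⟨c, hRle hcR, d, hRle hdR, hB⟩⟩
    · rw [zz, hv, ← map_pow, ← map_mul]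
      refine (congrArg π (Subtype.ext ?_)).trans (map_one π)
      show (g ^ 2 ^ a') ^ 2 ^ (n - 1) * (g ^ 2 ^ a') ^ 2 ^ (n - 1) = 1
      rw [← hzg, ← pow_add, ← two_mul, ← pow_succ', Nat.sub_add_cancel hf, hgf]
    · rw [← le_antisymm hRle hinvR]
      exact hcard
  -- the products
  set g := x ^ 2 ^ a with hg
  have hgR : g ∈ R₀ := R₀.pow_mem hxR _
  set τ := (t * x) ^ 2 ^ a * (x ^ 2 ^ a)⁻¹ with hτd
  have hτA : τ ∈ A := translate_mem hxA ht _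
  let ρ : ℕ → L := fun j => x ^ j * (x⁻¹ * (t * x⁻¹) ^ j * x)
  let τj : ℕ → L := fun j => (t * x) ^ j * (x ^ j)⁻¹
  let E : Subgroup L :=
    { carrier := {e | e ∈ A ∧ (∀ b ∈ A, e * b = b * e) ∧ e * e = 1}
      one_mem' := ⟨A.one_mem, fun b _ => by rw [one_mul, mul_one], one_mul 1⟩
      mul_mem' := fun {e e'} he he' => ⟨A.mul_mem he.1 he'.1,
        fun b hb => ((show Commute e b from he.2.1 b hb).mul_left (he'.2.1 b hb)).eq,
        by rw [(show Commute e' e from he'.2.1 e he.1).mul_mul_mul_comm, he.2.2, he'.2.2, one_mul]⟩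
      inv_mem' := fun {e} he => by
        rw [show e⁻¹ = e from inv_eq_of_mul_eq_one_right he.2.2]
        exact he }
  have hcommE : ∀ c ∈ A, ∀ d ∈ A, c * d * c⁻¹ * d⁻¹ ∈ E := by
    intro c hc d hd
    set w := c * d * c⁻¹ * d⁻¹ with hw
    have hwA : w ∈ A := A.mul_mem (A.mul_mem (A.mul_mem hc hd) (A.inv_mem hc)) (A.inv_mem hd)
    have hwB : w ∈ B := by
      rw [hw, show c * d * c⁻¹ * d⁻¹ = c * d * (c * d) * (d⁻¹ * (c * c)⁻¹) * d⁻¹ by group,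
        hcen _ (B.inv_mem (hsq c hc)) _ (A.inv_mem hd),
        show c * d * (c * d) * ((c * c)⁻¹ * d⁻¹) * d⁻¹ = c * d * (c * d) * (c * c)⁻¹ * (d * d)⁻¹ by group]
      exact B.mul_mem (B.mul_mem (hsq _ (A.mul_mem hc hd)) (B.inv_mem (hsq c hc))) (B.inv_mem (hsq d hd))
    refine ⟨hwA, fun b hb => (hcen w hwB b hb).symm, ?_⟩
    have e : c * d * c⁻¹ = w * d := by rw [hw]; group
    refine (mul_eq_right (b := d)).mp ?_
    calc w * w * d = w * (c * d * c⁻¹) := by rw [e, mul_assoc]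
      _ = c * w * d * c⁻¹ := by rw [hcen w hwB c hc]; group
      _ = c * (c * d * c⁻¹) * c⁻¹ := by rw [e]; group
      _ = c * c * d * (c * c)⁻¹ := by group
      _ = d := by rw [← hcen _ (hsq c hc) d hd, mul_inv_cancel_right]
  have hρ : ∀ j, ρ j * (τj j)⁻¹ ∈ E := by
    intro j
    induction j with
    | zero => simp [ρ, τj]
    | succ j ih =>
      set c := x ^ j * t * (x ^ j)⁻¹ with hc
      have hcA : c ∈ A := conj_pow_mem hxA j t ht
      have e1 : ρ (j + 1) = c * ρ j := by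
        show x ^ (j + 1) * (x⁻¹ * (t * x⁻¹) ^ (j + 1) * x) = _
        rw [pow_succ' (t * x⁻¹), hc]
        simp only [ρ]
        generalize (t * x⁻¹) ^ j = w
        rw [pow_succ x]
        group
      have e2 : τj (j + 1) = τj j * c := by
        show (t * x) ^ (j + 1) * (x ^ (j + 1))⁻¹ = _
        rw [pow_succ, pow_succ x, hc]
        simp only [τj]
        group
      have hτjA : τj j ∈ A := translate_mem hxA ht j
      rw [e1, e2, show c * ρ j * (τj j * c)⁻¹ =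
        c * (ρ j * (τj j)⁻¹) * (τj j * c⁻¹ * (τj j)⁻¹) by group, ← ih.2.1 c hcA,
        show ρ j * (τj j)⁻¹ * c * (τj j * c⁻¹ * (τj j)⁻¹) =
          ρ j * (τj j)⁻¹ * (c * τj j * c⁻¹ * (τj j)⁻¹) by group]
      exact E.mul_mem ih (hcommE c hcA _ hτjA)
  obtain ⟨e, he⟩ : ∃ e, e = ρ (2 ^ a) * τ⁻¹ := ⟨_, rfl⟩
  have heE : e ∈ E := he ▸ hρ (2 ^ a)
  have hfix : ∀ b ∈ A, b ∈ S := fun b hb => mem_fixAll.mp (hAfix hb) U h
  have h1S : (t * x) ^ 2 ^ a ∈ S := by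
    rw [show (t * x) ^ 2 ^ a = τ * g by rw [hτd, hg, inv_mul_cancel_right]]
    exact S.mul_mem (hfix τ hτA) hxaS
  set y := x ^ 2 ^ a * (x⁻¹ * (t * x⁻¹) * x) * (x ^ 2 ^ a)⁻¹ with hy
  have hyR : y ∈ R₀ := R₀.mul_mem (R₀.mul_mem hgR (R₀.mul_mem (R₀.mul_mem (R₀.inv_mem hxR)
    (R₀.mul_mem htR (R₀.inv_mem hxR))) hxR)) (R₀.inv_mem hgR)
  have hyA : y ^ 2 ^ a = e * τ * g⁻¹ := by
    have hc : (x⁻¹ * (t * x⁻¹) * x) ^ 2 ^ a = x⁻¹ * (t * x⁻¹) ^ 2 ^ a * x := by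
      have := conj_pow (i := 2 ^ a) (a := x⁻¹) (b := t * x⁻¹)
      rwa [inv_inv] at this
    rw [hy, conj_pow, hc, he, inv_mul_cancel_right]
  have hyS : y ^ 2 ^ a ∈ S := by
    rw [hyA]
    exact S.mul_mem (S.mul_mem (hfix e heE.1) (hfix τ hτA)) (S.inv_mem hxaS)
  set gS : S := ⟨g, hxaS⟩
  set tS : S := ⟨τ, hfix τ hτA⟩
  let eS : S := ⟨e, hfix e heE.1⟩
  have hu := (hpl x hxf hxaS).resolve_left fun h1 => hmove ((h.mem_qker hN hT).mpr ⟨hzS,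
    (h.qact_eq_one_iff hN hT ⟨_, hzS⟩).mp (h1 ▸ (by
      rw [zz, ← map_pow]
      refine congrArg π (Subtype.ext ?_)
      show x ^ 2 ^ (f - 1) = (x ^ 2 ^ a) ^ 2 ^ (n - 1)
      rw [← pow_mul, ← pow_add, show a + (n - 1) = f - 1 by omega]))⟩)
  have hu1 : zz n (π tS * π gS) = 1 ∨ IsPl F n (π tS * π gS) := by
    rw [← map_mul, show tS * gS = ⟨(t * x) ^ 2 ^ a, h1S⟩ from Subtype.ext (by
      show τ * g = _
      rw [hτd, hg, inv_mul_cancel_right])]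
    exact hpl _ (hR₀e _ (R₀.mul_mem htR hxR)) h1S
  have hy' : zz n (π eS * π tS * (π gS)⁻¹) = 1 ∨ IsPl F n (π eS * π tS * (π gS)⁻¹) := by
    rw [← map_inv, ← map_mul, ← map_mul,
      show eS * tS * gS⁻¹ = ⟨y ^ 2 ^ a, hyS⟩ from Subtype.ext hyA.symm]
    exact hpl y (hR₀e y hyR) hyS
  set R₁ := (A ⊔ Subgroup.zpowers g).subgroupOf S with hR₁
  have hR₁p : IsPGroup 2 R₁ := (hR₀p.to_le (sup_le (hAP.trans le_sup_left)
    (Subgroup.zpowers_le.mpr hgR))).comap_of_injective _ S.subtype_injective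
  have hmem : ∀ {b : S}, (b : L) ∈ A → b ∈ R₁ := fun hb =>
    Subgroup.mem_subgroupOf.mpr (Subgroup.mem_sup_left hb)
  have hgA : ∀ {C : Subgroup L}, (∀ b ∈ C, x * b * x⁻¹ ∈ C) →
      ∀ b ∈ (C.subgroupOf S).map π, π gS * b * (π gS)⁻¹ ∈ (C.subgroupOf S).map π := by
    rintro C hC _ ⟨b, hb, rfl⟩
    refine ⟨gS * b * gS⁻¹, ?_, by rw [map_mul, map_mul, map_inv]⟩
    exact Subgroup.mem_subgroupOf.mpr (conj_pow_mem hC _ _ (Subgroup.mem_subgroupOf.mp hb))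
  have key := local_lemma (F := F) (n := n) (R₁.map π) ((A.subgroupOf S).map π)
    ((B.subgroupOf S).map π) (hR₁p.map π) (by rintro _ ⟨s, -, rfl⟩; exact hπaut s)
    (Subgroup.map_mono fun b hb => hmem (Subgroup.mem_subgroupOf.mp hb))
    (Subgroup.map_mono fun b hb => hBA hb)
    (by
      rintro _ ⟨b, hb, rfl⟩
      exact ⟨b * b, hsq _ hb, map_mul π b b⟩)
    (by
      rintro _ ⟨b, hb, rfl⟩ _ ⟨c, hc, rfl⟩
      rw [← map_mul, ← map_mul]
      exact congrArg π (Subtype.ext (hcen _ hb _ hc)))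
    (u := π gS) (τ := π tS)
    (Subgroup.mem_map_of_mem π
      (Subgroup.mem_subgroupOf.mpr (Subgroup.mem_sup_right (Subgroup.mem_zpowers g))))
    (Subgroup.mem_map_of_mem π (Subgroup.mem_subgroupOf.mpr hτA)) (hgA hxA) (hgA hxB) hqa hu hu1
    ⟨π eS, Subgroup.mem_map_of_mem π (Subgroup.mem_subgroupOf.mpr heE.1), by
      rintro _ ⟨b, hb, rfl⟩
      rw [← map_mul, ← map_mul]
      exact congrArg π (Subtype.ext (heE.2.1 _ hb)), by
      rw [← map_mul, show eS * eS = 1 from Subtype.ext heE.2.2, map_one], hy'⟩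
  obtain ⟨b, hb, hbe⟩ := key
  refine ⟨b, hb, ?_⟩
  set W : S := (tS * gS) ^ 2 ^ (n - 1) * (gS ^ 2 ^ (n - 1))⁻¹ with hW
  have hWc : (W : L) = (t * x) ^ 2 ^ (f - 1) * (x ^ 2 ^ (f - 1))⁻¹ := by
    rw [hW, Subgroup.coe_mul, Subgroup.coe_inv, SubmonoidClass.coe_pow, SubmonoidClass.coe_pow,
      Subgroup.coe_mul]
    show (τ * g) ^ 2 ^ (n - 1) * (g ^ 2 ^ (n - 1))⁻¹ = _
    rw [hτd, hg, inv_mul_cancel_right, ← pow_mul, ← pow_mul, ← pow_add,
      show a + (n - 1) = f - 1 by omega]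
  refine ⟨W * b⁻¹, ?_, by rw [← hWc]; rfl⟩
  show π (W * b⁻¹) = 1
  rw [map_mul, map_inv, mul_inv_eq_one, hbe, hW, map_mul, map_inv, map_pow, map_pow, map_mul]
  rfl

/-- The step on one constituent. -/
theorem local_image (hq2 : q ≠ 2) (hNq : IsPGroup q N)
    (hcent : ∀ a ∈ N, ∀ b ∈ N, ∀ c ∈ N, a * b * a⁻¹ * b⁻¹ * c = c * (a * b * a⁻¹ * b⁻¹))
    (hpow : ∀ a ∈ N, ∀ c ∈ N, a ^ q * c = c * a ^ q) (hN : (Nat.card N : k) ≠ 0) (hf : 1 ≤ f)
    (hexp : ∀ g : L, (∃ i, g ^ 2 ^ i = 1) → g ^ 2 ^ f = 1)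
    (hdeg : ∀ g : L, g ^ 2 ^ f = 1 → (σ g - 1) ^ (2 ^ f - 1) = 0) {P A B : Subgroup L}
    (hP : IsPGroup 2 P) (hAP : A ≤ P) (hAfix : A ≤ fixAll σ N) (hBA : B ≤ A)
    (hsq : ∀ a ∈ A, a * a ∈ B) (hcen : ∀ b ∈ B, ∀ a ∈ A, a * b = b * a) {x : L}
    (hx : ∃ i, x ^ 2 ^ i = 1) (hxP : ∀ a ∈ P, x * a * x⁻¹ ∈ P) (hxA : ∀ a ∈ A, x * a * x⁻¹ ∈ A)
    (hxB : ∀ b ∈ B, x * b * x⁻¹ ∈ B) {t : L} (ht : t ∈ A) (h : IsCst σ N U) (hT : Tw σ N U) :
    ∃ b ∈ B, (t * x) ^ 2 ^ (f - 1) * (x ^ 2 ^ (f - 1))⁻¹ * b⁻¹ ∈ h.qker hN hT := by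
  haveI : Fact (Nat.Prime 2) := ⟨Nat.prime_two⟩
  by_cases h0 : x ^ 2 ^ (f - 1) ∈ h.qker hN hT
  swap
  · exact local_moved hq2 hNq hcent hpow hN hf hexp hdeg hP hAP hAfix hBA hsq hcen hx hxP hxA hxB
      ht h hT h0
  by_cases h1 : (t * x) ^ 2 ^ (f - 1) ∈ h.qker hN hT
  · exact ⟨1, B.one_mem, by rw [inv_one, mul_one]; exact mul_mem h1 (inv_mem h0)⟩
  have hconj : ∀ {C : Subgroup L}, t ∈ C → (∀ c ∈ C, x * c * x⁻¹ ∈ C) →
      ∀ c ∈ C, t * x * c * (t * x)⁻¹ ∈ C := fun {C} htC hC c hc => by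
    rw [show t * x * c * (t * x)⁻¹ = t * (x * c * x⁻¹) * t⁻¹ by group]
    exact C.mul_mem (C.mul_mem htC (hC c hc)) (C.inv_mem htC)
  have htx : ∃ i, (t * x) ^ 2 ^ i = 1 := by
    obtain ⟨i, hi⟩ := isPGroup_sup_zpowers hP hx hxP
      ⟨t * x, mul_mem (Subgroup.mem_sup_left (hAP ht)) (Subgroup.mem_sup_right (Subgroup.mem_zpowers x))⟩
    exact ⟨i, congrArg Subtype.val hi⟩
  obtain ⟨b, hb, hbq⟩ := local_moved hq2 hNq hcent hpow hN hf hexp hdeg hP hAP hAfix hBA hsq hcen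
    htx (hconj (hAP ht) hxP) (hconj ht hxA) (fun c hc => by
      rw [show t * x * c * (t * x)⁻¹ = t * (x * c * x⁻¹) * t⁻¹ by group, hcen _ (hxB c hc) t ht,
        mul_inv_cancel_right]
      exact hxB c hc) (A.inv_mem ht) h hT h1
  rw [inv_mul_cancel_left] at hbq
  refine ⟨b⁻¹, B.inv_mem hb, ?_⟩
  have hbS : b ∈ stabU σ N U := mem_fixAll.mp (hAfix (hBA hb)) U h
  have h2 := h.conj_qker hN hT (inv_mem hbS) (inv_mem hbq)
  simp only [mul_inv_rev, inv_inv] at h2 ⊢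
  convert h2 using 1
  group

/-- A `2`-element acting trivially on all the quotients by scalars is trivial. -/
theorem eq_one_of_qker [Group.IsSolvable L] (hinj : Function.Injective σ)
    (hO : Cfsg.pCore 2 L = ⊥) {c : L} (hc : ∃ i, c ^ 2 ^ i = 1)
    (hk : ∀ (q : ℕ) [Fact q.Prime], q ≠ 2 → ∀ (K : Subgroup L) [K.Normal] (hK : (Nat.card K : k) ≠ 0),
      IsPGroup q K →
      (∀ a ∈ K, ∀ b ∈ K, ∀ d ∈ K, a * b * a⁻¹ * b⁻¹ * d = d * (a * b * a⁻¹ * b⁻¹)) →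
      (∀ a ∈ K, ∀ d ∈ K, a ^ q * d = d * a ^ q) →
      ∀ (W : Submodule k V) (h : IsCst σ K W) (hT : Tw σ K W), c ∈ h.qker hK hT) : c = 1 := by
  haveI : Fact (Nat.Prime 2) := ⟨Nat.prime_two⟩
  rw [← Subgroup.mem_bot, ← hO]
  refine mem_pCore_of_centralizes hc fun ℓ hℓ v hv => ?_
  haveI := Fact.mk hℓ
  by_cases hℓ2 : ℓ = 2
  · subst hℓ2
    rw [hO, Subgroup.mem_bot] at hv
    rw [hv, mul_one, one_mul]
  obtain ⟨K, hKn, hKp, hcent, hpow, hcr⟩ := exists_crit_sub (H := L) ℓ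
  haveI := hKn
  obtain ⟨m, hm⟩ := hKp.exists_card_eq
  have hK : (Nat.card K : k) ≠ 0 := by
    rw [hm]
    exact nat_ne_zero_of_coprime (p := 2) (((Nat.coprime_primes hℓ Nat.prime_two).mpr hℓ2).pow_left _)
  have hT : ∀ W, IsCst σ K W → Tw σ K W := fun W h => h.tw_of_central hcent
  obtain ⟨i, hi⟩ := hc
  have hcop : (orderOf c).Coprime ℓ := ((Nat.coprime_primes Nat.prime_two hℓ).mpr (Ne.symm hℓ2)).pow_left i
    |>.coprime_dvd_left (orderOf_dvd_of_pow_eq_one hi)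
  exact hcr c hcop (centralizes_of_qker hinj hK hT (by rw [hm]; exact hcop.pow_right _)
    fun W h => hk ℓ hℓ2 K hK hKp hcent hpow W h (hT W h)) v hv

variable (σ) in
/-- The elements fixing all characters of the normal subgroups of order prime to the characteristic. -/
noncomputable def fixOdd : Subgroup L :=
  ⨅ K : {K : Subgroup L // K.Normal ∧ (Nat.card K : k) ≠ 0}, @fixAll k _ V _ _ L _ σ K.1 K.2.1

instance fixOdd_normal : (fixOdd σ).Normal :=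
  Subgroup.normal_iInf_normal fun K => @fixAll_normal k _ V _ _ L _ σ K.1 K.2.1

theorem fixOdd_le (hN : (Nat.card N : k) ≠ 0) : fixOdd σ ≤ fixAll σ N :=
  iInf_le (fun K : {K : Subgroup L // K.Normal ∧ (Nat.card K : k) ≠ 0} =>
    @fixAll k _ V _ _ L _ σ K.1 K.2.1) ⟨N, hNn, hN⟩

theorem involution_mem_fixOdd {x : L} (hf : 1 ≤ f) (hx : x ^ 2 ^ f = 1)
    (hdeg : (σ x - 1) ^ (2 ^ f - 1) = 0) : x ^ 2 ^ (f - 1) ∈ fixOdd σ :=
  Subgroup.mem_iInf.mpr fun K => @involution_mem_fixAll k _ _ V _ _ _ L _ _ σ K.1 K.2.1 _ K.2.2 x f hf hx hdeg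

/-- The step. -/
theorem chain_step [Group.IsSolvable L] (hinj : Function.Injective σ) (hO : Cfsg.pCore 2 L = ⊥)
    (hf : 1 ≤ f) (hexp : ∀ g : L, (∃ i, g ^ 2 ^ i = 1) → g ^ 2 ^ f = 1)
    (hdeg : ∀ g : L, g ^ 2 ^ f = 1 → (σ g - 1) ^ (2 ^ f - 1) = 0) {P A B : Subgroup L}
    (hP : IsPGroup 2 P) (hAP : A ≤ P) (hAfix : A ≤ fixOdd σ) (hBA : B ≤ A)
    (hsq : ∀ a ∈ A, a * a ∈ B) (hcen : ∀ b ∈ B, ∀ a ∈ A, a * b = b * a) {x : L}
    (hx : ∃ i, x ^ 2 ^ i = 1) (hxP : ∀ a ∈ P, x * a * x⁻¹ ∈ P) (hxA : ∀ a ∈ A, x * a * x⁻¹ ∈ A)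
    (hxB : ∀ b ∈ B, x * b * x⁻¹ ∈ B) {t : L} (ht : t ∈ A) :
    (∀ a ∈ A, (t * x) ^ 2 ^ (f - 1) * (x ^ 2 ^ (f - 1))⁻¹ * a =
      a * ((t * x) ^ 2 ^ (f - 1) * (x ^ 2 ^ (f - 1))⁻¹)) ∧
    (B = ⊥ → (t * x) ^ 2 ^ (f - 1) * (x ^ 2 ^ (f - 1))⁻¹ = 1) := by
  set w := (t * x) ^ 2 ^ (f - 1) * (x ^ 2 ^ (f - 1))⁻¹ with hw
  have hwA : w ∈ A := translate_mem hxA ht _
  have htwo : ∀ {c}, c ∈ A → ∃ i, c ^ 2 ^ i = 1 := fun {c} hc => by
    obtain ⟨i, hi⟩ := hP ⟨c, hAP hc⟩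
    exact ⟨i, congrArg Subtype.val hi⟩
  refine ⟨fun a ha => ?_, fun hB => ?_⟩
  · have h1 : w * a * w⁻¹ * a⁻¹ = 1 := by
      refine eq_one_of_qker hinj hO
        (htwo (A.mul_mem (A.mul_mem (A.mul_mem hwA ha) (A.inv_mem hwA)) (A.inv_mem ha))) ?_
      intro q _ hq2 K _ hK hKp hcent hpow W h hT
      have hAK : A ≤ fixAll σ K := hAfix.trans (fixOdd_le hK)
      obtain ⟨b, hb, hbq⟩ := local_image hq2 hKp hcent hpow hK hf hexp hdeg hP hAP hAK hBA hsq hcen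
        hx hxP hxA hxB ht h hT
      rw [show w * a * w⁻¹ * a⁻¹ = w * b⁻¹ * (b * a * b⁻¹) * (w * b⁻¹)⁻¹ * a⁻¹ by group,
        ← hcen b hb a ha, mul_inv_cancel_right,
        show w * b⁻¹ * a * (w * b⁻¹)⁻¹ * a⁻¹ = w * b⁻¹ * (a * (w * b⁻¹)⁻¹ * a⁻¹) by group]
      exact mul_mem hbq (h.conj_qker hK hT (mem_fixAll.mp (hAK ha) W h) (inv_mem hbq))
    rwa [mul_inv_eq_one, mul_inv_eq_iff_eq_mul] at h1
  · refine eq_one_of_qker hinj hO (htwo hwA) ?_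
    intro q _ hq2 K _ hK hKp hcent hpow W h hT
    obtain ⟨b, hb, hbq⟩ := local_image hq2 hKp hcent hpow hK hf hexp hdeg hP hAP
      (hAfix.trans (fixOdd_le hK)) hBA hsq hcen hx hxP hxA hxB ht h hT
    rw [hB, Subgroup.mem_bot] at hb
    rwa [hb, inv_one, mul_one] at hbq

end CfsgLib.Gross
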