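import Cfsg.Agent.Lib.Gross.Sympl
import Cfsg.Agent.Lib.HallHigman.Degree

/-!
The commutator form of a constituent, and elements fixing all but a space of dimension two: the degrees
of the constituents they move are small.
-/

set_option autoImplicit false
set_option linter.style.haveILetI false
set_option linter.unusedSectionVars false

open Module CfsgLib.HallHigman

namespace CfsgLib.Gross

variable {k : Type*} [Field k] {V : Type*} [AddCommGroup V] [Module k V]
variable {L : Type*} [Group L] {σ : L →* Module.End k V} {N : Subgroup L} {U : Submodule k V}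

/-- The commutator form. -/
noncomputable def IsCst.cm (_h : IsCst σ N U) (a b : L) : k :=
  Classical.epsilon fun ω : k => ∀ w ∈ U, σ a (σ b w) = ω • σ b (σ a w)

section basic

variable (h : IsCst σ N U) (hT : Tw σ N U) {a b c : L} (ha : a ∈ N) (hb : b ∈ N) (hc : c ∈ N)

include hT ha hb in
theorem IsCst.cm_spec : ∀ w ∈ U, σ a (σ b w) = h.cm a b • σ b (σ a w) :=
  Classical.epsilon_spec (p := fun ω : k => ∀ w ∈ U, σ a (σ b w) = ω • σ b (σ a w)) (hT a ha b hb)

include hT ha hb in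
theorem IsCst.cm_eq {ω : k} (hω : ∀ w ∈ U, σ a (σ b w) = ω • σ b (σ a w)) : h.cm a b = ω := by
  obtain ⟨w, hw, hw0⟩ := (Submodule.ne_bot_iff U).mp h.ne
  refine smul_left_injective k ?_ ((h.cm_spec hT ha hb w hw).symm.trans (hω w hw))
  exact fun e => hw0 (sigma_injective a (sigma_injective b (by rw [e, map_zero, map_zero])))

include hT ha in
theorem IsCst.cm_self : h.cm a a = 1 :=
  h.cm_eq hT ha ha fun w _ => by rw [one_smul]

include hT ha hb in
theorem IsCst.cm_swap : h.cm b a * h.cm a b = 1 := by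
  obtain ⟨w, hw, hw0⟩ := (Submodule.ne_bot_iff U).mp h.ne
  have h1 := h.cm_spec hT hb ha w hw
  rw [h.cm_spec hT ha hb w hw, smul_smul] at h1
  have hne : σ b (σ a w) ≠ 0 := fun e =>
    hw0 (sigma_injective a (sigma_injective b (by rw [e, map_zero, map_zero])))
  refine smul_left_injective k hne ?_
  show _ • σ b (σ a w) = (1 : k) • σ b (σ a w)
  rw [one_smul, ← h1]

include hT ha hb hc in
theorem IsCst.cm_mul_right : h.cm a (b * c) = h.cm a b * h.cm a c :=
  h.cm_eq hT ha (N.mul_mem hb hc) fun w hw => by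
    rw [sigma_mul_apply, sigma_mul_apply, h.cm_spec hT ha hb _ (h.inv c hc w hw),
      h.cm_spec hT ha hc w hw, map_smul, smul_smul]

include hT ha hb hc in
theorem IsCst.cm_mul_left : h.cm (a * b) c = h.cm a c * h.cm b c :=
  h.cm_eq hT (N.mul_mem ha hb) hc fun w hw => by
    rw [sigma_mul_apply, sigma_mul_apply, h.cm_spec hT hb hc w hw, map_smul,
      h.cm_spec hT ha hc _ (h.inv b hb w hw), smul_smul, mul_comm]

include hT ha in
theorem IsCst.cm_one_right : h.cm a 1 = 1 :=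
  h.cm_eq hT ha N.one_mem fun w _ => by rw [map_one, Module.End.one_apply, Module.End.one_apply, one_smul]

include hT ha hb in
theorem IsCst.cm_inv_right : h.cm a b⁻¹ * h.cm a b = 1 := by
  rw [← h.cm_mul_right hT ha (N.inv_mem hb) hb, inv_mul_cancel, h.cm_one_right hT ha]

include hT ha hb in
theorem IsCst.cm_pow_right (n : ℕ) : h.cm a (b ^ n) = h.cm a b ^ n := by
  induction n with
  | zero => rw [pow_zero, pow_zero, h.cm_one_right hT ha]
  | succ n ih => rw [pow_succ, pow_succ, h.cm_mul_right hT ha (N.pow_mem hb n) hb, ih]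

include hT ha in
theorem IsCst.cm_zsub_right {z : L} (hz : z ∈ h.zsub) : h.cm a z = 1 := by
  obtain ⟨hzN, c, hzc⟩ := hz
  exact h.cm_eq hT ha hzN fun w hw => by
    rw [hzc w hw, map_smul, hzc _ (h.inv a ha w hw), one_smul]

include hT ha in
theorem IsCst.cm_congr (x y : N)
    (e : (QuotientGroup.mk x : N ⧸ h.zsub.subgroupOf N) = QuotientGroup.mk y) :
    h.cm a x = h.cm a y := by
  have hz := Subgroup.mem_subgroupOf.mp (QuotientGroup.eq.mp e)
  rw [Subgroup.coe_mul, Subgroup.coe_inv] at hz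
  have := h.cm_mul_right hT ha x.2 hz.1
  rw [h.cm_zsub_right hT ha hz, mul_one, mul_inv_cancel_left] at this
  exact this.symm

include hT ha hb in
theorem IsCst.cm_comm : ∀ w ∈ U, σ (a * b * a⁻¹ * b⁻¹) w = h.cm a b • w := fun w hw => by
  rw [sigma_mul_apply, sigma_mul_apply, sigma_mul_apply,
    h.cm_spec hT ha hb _ (h.inv _ (N.inv_mem ha) _ (h.inv _ (N.inv_mem hb) w hw)),
    sigma_apply_inv, sigma_apply_inv]

include hT in
theorem IsCst.scal_of_cm [IsAlgClosed k] [FiniteDimensional k V] {g : L} (hg : g ∈ N)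
    (h1 : ∀ v ∈ N, h.cm g v = 1) : Scal σ U g := by
  by_contra hns
  obtain ⟨v, hv, ω, hω1, hω⟩ := h.exists_twist hT hg hns
  exact hω1 ((h.cm_eq hT hg hv hω).symm.trans (h1 v hv))

end basic

variable [hNn : N.Normal] [IsAlgClosed k] [FiniteDimensional k V] [Finite N]

theorem IsCst.cm_conj (h : IsCst σ N U) (hN : (Nat.card N : k) ≠ 0) (hT : Tw σ N U) {g a b : L}
    (hg : g ∈ stabU σ N U) (ha : a ∈ N) (hb : b ∈ N) :
    h.cm (g * a * g⁻¹) (g * b * g⁻¹) = h.cm a b := by
  have ha' := hNn.conj_mem a ha g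
  have hb' := hNn.conj_mem b hb g
  refine h.cm_eq hT ha' hb' fun w hw => ?_
  have h1 := h.conj_scal hN hT hg (h.comm_mem_zsub hT ha hb).1 (h.cm_comm hT ha hb)
    _ (h.inv _ hb' _ (h.inv _ ha' w hw))
  rw [← h1, ← sigma_mul_apply, ← sigma_mul_apply, ← sigma_mul_apply]
  congr 2
  group

theorem IsCst.qact_mk (h : IsCst σ N U) (hN : (Nat.card N : k) ≠ 0) (hT : Tw σ N U)
    (g : stabU σ N U) (a : L) (ha : a ∈ N) (ha' : (g : L) * a * (g : L)⁻¹ ∈ N) :
    h.qact hN hT g (QuotientGroup.mk (⟨a, ha⟩ : N)) =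
      QuotientGroup.mk (⟨(g : L) * a * (g : L)⁻¹, ha'⟩ : N) := by
  rw [h.qact_apply]
  exact congrArg QuotientGroup.mk (Subtype.ext (MulAut.conjNormal_apply _ _))

/-- The elements acting trivially on the quotient by the scalars. -/
noncomputable def IsCst.qker (h : IsCst σ N U) (hN : (Nat.card N : k) ≠ 0) (hT : Tw σ N U) :
    Subgroup L :=
  (h.qact hN hT).ker.map (stabU σ N U).subtype

theorem IsCst.mem_qker (h : IsCst σ N U) (hN : (Nat.card N : k) ≠ 0) (hT : Tw σ N U) {g : L} :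
    g ∈ h.qker hN hT ↔ g ∈ stabU σ N U ∧ ∀ v ∈ N, g * v * g⁻¹ * v⁻¹ ∈ h.zsub := by
  constructor
  · rintro ⟨g', hg', rfl⟩
    exact ⟨g'.2, (h.qact_eq_one_iff hN hT g').mp hg'⟩
  · rintro ⟨hg, hgv⟩
    exact ⟨⟨g, hg⟩, (h.qact_eq_one_iff hN hT ⟨g, hg⟩).mpr hgv, rfl⟩

theorem IsCst.conj_qker (h : IsCst σ N U) (hN : (Nat.card N : k) ≠ 0) (hT : Tw σ N U) {g y : L}
    (hy : y ∈ stabU σ N U) (hg : g ∈ h.qker hN hT) : y * g * y⁻¹ ∈ h.qker hN hT := by
  rw [h.mem_qker hN hT] at hg ⊢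
  obtain ⟨hgs, hgv⟩ := hg
  refine ⟨Subgroup.mul_mem _ (Subgroup.mul_mem _ hy hgs) (Subgroup.inv_mem _ hy), fun v hv => ?_⟩
  have h1 := h.conj_zsub hN hT hy (hgv (y⁻¹ * v * y) (conj_mem' y hv))
  convert h1 using 1
  group

/-- The range of `σ u⁻¹ - 1`. -/
theorem finrank_range_inv_le (u : L) :
    finrank k (LinearMap.range (σ u⁻¹ - 1)) ≤ finrank k (LinearMap.range (σ u - 1)) := by
  have he : σ u⁻¹ - 1 = (- σ u⁻¹) * (σ u - 1) := by
    rw [mul_sub, mul_one, neg_mul, ← map_mul, inv_mul_cancel, map_one]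
    abel
  rw [he, Module.End.mul_eq_comp, LinearMap.range_comp]
  exact Submodule.finrank_map_le _ _

theorem finrank_range_comm_le (v u : L) :
    finrank k (LinearMap.range (σ (v * u * v⁻¹ * u⁻¹) - 1)) ≤
      2 * finrank k (LinearMap.range (σ u - 1)) := by
  have he : σ (v * u * v⁻¹ * u⁻¹) - 1 = σ v * (σ u - 1) * σ (v⁻¹ * u⁻¹) + (σ u⁻¹ - 1) := by
    rw [mul_sub, mul_one, sub_mul, ← map_mul, ← map_mul, ← map_mul, mul_inv_cancel_left]
    rw [show v * u * (v⁻¹ * u⁻¹) = v * u * v⁻¹ * u⁻¹ by group]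
    abel
  have hle : LinearMap.range (σ (v * u * v⁻¹ * u⁻¹) - 1) ≤
      (LinearMap.range (σ u - 1)).map (σ v) ⊔ LinearMap.range (σ u⁻¹ - 1) := by
    rw [he]
    rintro _ ⟨w, rfl⟩
    rw [LinearMap.add_apply]
    exact Submodule.add_mem_sup ⟨_, ⟨_, rfl⟩, rfl⟩ ⟨w, rfl⟩
  refine (Submodule.finrank_mono hle).trans ((Submodule.finrank_add_le_finrank_add_finrank _ _).trans ?_)
  have h1 := Submodule.finrank_map_le (σ v) (LinearMap.range (σ u - 1))
  have h2 := finrank_range_inv_le (σ := σ) u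
  omega

set_option maxHeartbeats 800000 in
/-- A twisted element fixing all but four dimensions. -/
theorem twist_bound (h : IsCst σ N U) {g b : L} (hb : b ∈ N) {ω : k} (hω1 : ω ≠ 1)
    (hω : ∀ w ∈ U, σ g (σ b w) = ω • σ b (σ g w))
    (hR : finrank k (LinearMap.range (σ g - 1)) ≤ 4) :
    (ω * ω ≠ 1 → finrank k U ≤ 6) ∧ finrank k U ≤ 8 ∧
      (ω * ω = 1 → finrank k U = 8 → ∀ w ∈ U, σ g (σ g w) = w) := by
  set E := U ⊓ LinearMap.ker (σ g - 1) with hE
  have hEU : ∀ w ∈ E, w ∈ U := fun w hw => hw.1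
  have hEg : ∀ w ∈ E, σ g w = w := fun w hw => by
    have := LinearMap.mem_ker.mp hw.2
    rwa [LinearMap.sub_apply, Module.End.one_apply, sub_eq_zero] at this
  have hdim : finrank k U ≤ finrank k E + 4 := by
    have h1 := LinearMap.finrank_range_add_finrank_ker ((σ g - 1) ∘ₗ U.subtype)
    have h2 : finrank k (LinearMap.range ((σ g - 1) ∘ₗ U.subtype)) ≤ 4 :=
      (Submodule.finrank_mono (LinearMap.range_comp_le_range _ _)).trans hR
    have h3 : finrank k (LinearMap.ker ((σ g - 1) ∘ₗ U.subtype)) = finrank k E := by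
      rw [LinearMap.ker_comp, (Submodule.equivMapOfInjective U.subtype U.subtype_injective _).finrank_eq,
        Submodule.map_comap_subtype]
    omega
  -- two eigenspaces
  let φ : (E × E) →ₗ[k] U :=
    LinearMap.coprod ((E.subtype).codRestrict U fun w => hEU w w.2)
      ((σ b ∘ₗ E.subtype).codRestrict U fun w => h.inv b hb _ (hEU w w.2))
  have hφ : Function.Injective φ := by
    rw [← LinearMap.ker_eq_bot, Submodule.eq_bot_iff]
    rintro ⟨x, y⟩ hxy
    have h0 : (x : V) + σ b y = 0 := congrArg Subtype.val (LinearMap.mem_ker.mp hxy)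
    have h1 := congrArg (σ g) h0
    rw [map_add, hEg x x.2, hω y (hEU y y.2), hEg y y.2, map_zero] at h1
    have h2 : (ω - 1) • σ b (y : V) = 0 := by
      rw [sub_smul, one_smul, eq_neg_of_add_eq_zero_right h1, eq_neg_of_add_eq_zero_right h0, sub_self]
    have hy : (y : V) = 0 := sigma_injective (σ := σ) b (by
      rw [(smul_eq_zero.mp h2).resolve_left (sub_ne_zero.mpr hω1), map_zero])
    rw [hy, map_zero, add_zero] at h0
    exact Prod.ext (Subtype.ext h0) (Subtype.ext hy)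
  have h2 := LinearMap.finrank_le_finrank_of_injective hφ
  rw [Module.finrank_prod] at h2
  refine ⟨fun hω2 => ?_, by omega, fun hω2 hd => ?_⟩
  · -- three eigenspaces
    let ψ : ((E × E) × E) →ₗ[k] U :=
      LinearMap.coprod φ ((σ b ∘ₗ σ b ∘ₗ E.subtype).codRestrict U fun w =>
        h.inv b hb _ (h.inv b hb _ (hEU w w.2)))
    have hψ : Function.Injective ψ := by
      rw [← LinearMap.ker_eq_bot, Submodule.eq_bot_iff]
      rintro ⟨⟨x, y⟩, z⟩ hxyz
      have h0 : (x : V) + σ b y + σ b (σ b z) = 0 := congrArg Subtype.val (LinearMap.mem_ker.mp hxyz)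
      have e1 : σ g (σ b (y : V)) = ω • σ b y := by rw [hω y (hEU y y.2), hEg y y.2]
      have e2 : σ g (σ b (σ b (z : V))) = (ω * ω) • σ b (σ b z) := by
        rw [hω _ (h.inv b hb _ (hEU z z.2)), hω z (hEU z z.2), hEg z z.2, map_smul, smul_smul]
      have h1 := congrArg (σ g) h0
      rw [map_add, map_add, hEg x x.2, e1, e2, map_zero] at h1
      have h1' := congrArg (σ g) h1
      rw [map_add, map_add, hEg x x.2, map_smul, map_smul, e1, e2, map_zero, smul_smul, smul_smul] at h1'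
      have hA : (ω - 1) • σ b (y : V) + (ω * ω - 1) • σ b (σ b (z : V)) = 0 := by
        rw [show (0 : V) = ((x : V) + ω • σ b (y : V) + (ω * ω) • σ b (σ b (z : V))) -
          ((x : V) + σ b y + σ b (σ b z)) by rw [h1, h0, sub_self]]
        module
      have hB : (ω * ω - ω) • σ b (y : V) + (ω * ω * (ω * ω) - ω * ω) • σ b (σ b (z : V)) = 0 := by
        rw [show (0 : V) = ((x : V) + (ω * ω) • σ b (y : V) + (ω * ω * (ω * ω)) • σ b (σ b (z : V))) -
          ((x : V) + ω • σ b (y : V) + (ω * ω) • σ b (σ b (z : V))) by rw [h1', h1, sub_self]]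
        module
      have hC : (ω * (ω - 1) * (ω * ω - 1)) • σ b (σ b (z : V)) = 0 := by
        rw [show (0 : V) = ((ω * ω - ω) • σ b (y : V) + (ω * ω * (ω * ω) - ω * ω) • σ b (σ b (z : V))) -
          ω • ((ω - 1) • σ b (y : V) + (ω * ω - 1) • σ b (σ b (z : V))) by
            rw [hA, hB, smul_zero, sub_self]]
        module
      obtain ⟨w, hw, hw0⟩ := (Submodule.ne_bot_iff U).mp h.ne
      have hω0 : ω ≠ 0 := fun e => hw0 (sigma_injective b (sigma_injective g (by
        rw [hω w hw, e, zero_smul, map_zero, map_zero])))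
      have hz0 : (z : V) = 0 := sigma_injective (σ := σ) b (sigma_injective (σ := σ) b (by
        rw [(smul_eq_zero.mp hC).resolve_left (mul_ne_zero (mul_ne_zero hω0 (sub_ne_zero.mpr hω1))
          (sub_ne_zero.mpr hω2)), map_zero, map_zero]))
      rw [hz0, map_zero, map_zero, smul_zero, add_zero] at hA
      have hy0 : (y : V) = 0 := sigma_injective (σ := σ) b (by
        rw [(smul_eq_zero.mp hA).resolve_left (sub_ne_zero.mpr hω1), map_zero])
      rw [hz0, hy0, map_zero, map_zero, add_zero, add_zero] at h0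
      exact Prod.ext (Prod.ext (Subtype.ext h0) (Subtype.ext hy0)) (Subtype.ext hz0)
    have h3 := LinearMap.finrank_le_finrank_of_injective hψ
    rw [Module.finrank_prod, Module.finrank_prod] at h3
    omega
  · intro w hw
    have hsurj : LinearMap.range φ = ⊤ := Submodule.eq_top_of_finrank_eq (by
      rw [LinearMap.finrank_range_of_inj hφ, Module.finrank_prod]; omega)
    obtain ⟨⟨x, y⟩, hxy⟩ : (⟨w, hw⟩ : U) ∈ LinearMap.range φ := hsurj ▸ trivial
    have h0 : (x : V) + σ b y = w := congrArg Subtype.val hxy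
    rw [← h0]
    simp only [map_add, map_smul, hEg x x.2, hω y (hEU y y.2), hEg y y.2, smul_smul, hω2, one_smul]

/-- If all the commutators with `u` are involutions then `u` squares to the identity on the quotient. -/
theorem qact_sq (h : IsCst σ N U) (hN : (Nat.card N : k) ≠ 0) (hT : Tw σ N U) {u : L}
    (hu : u ∈ stabU σ N U) (hexp : ∀ x : N ⧸ h.zsub.subgroupOf N, x ^ 2 = 1)
    (hinv : ∀ v ∈ N, ∀ w ∈ U, σ (v * u * v⁻¹ * u⁻¹) (σ (v * u * v⁻¹ * u⁻¹) w) = w) :
    h.qact hN hT ⟨u, hu⟩ ^ 2 = 1 := by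
  have hgN : ∀ v ∈ N, v * u * v⁻¹ * u⁻¹ ∈ N := fun v hv => by
    rw [show v * u * v⁻¹ * u⁻¹ = v * (u * v⁻¹ * u⁻¹) by group]
    exact N.mul_mem hv (hNn.conj_mem _ (N.inv_mem hv) u)
  have hcom : ∀ v ∈ N, ∀ v' ∈ N, h.cm (v * u * v⁻¹ * u⁻¹) (v' * u * v'⁻¹ * u⁻¹) = 1 := by
    intro v hv v' hv'
    have hg := hgN v hv
    have hg' := hgN v' hv'
    set g := v * u * v⁻¹ * u⁻¹ with hgd
    set g' := v' * u * v'⁻¹ * u⁻¹ with hgd'
    refine h.cm_eq hT hg hg' fun w hw => ?_
    rw [one_smul]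
    have hv'U := h.inv _ hg' w hw
    set c := h.cm v g' with hcdef
    have hcg : ∀ w ∈ U, σ (v * g' * v⁻¹) w = c • σ g' w := by
      intro w hw
      rw [sigma_mul_apply, sigma_mul_apply, h.cm_spec hT hv hg' _ (h.inv _ (N.inv_mem hv) w hw),
        sigma_apply_inv]
    have hc0 : c ≠ 0 := left_ne_zero_of_mul_eq_one (h.cm_swap hT hg' hv)
    have hcA : ∀ w ∈ U, (c * c) • w = w := by
      intro w hw
      have h1 : σ (v * g' * v⁻¹) (σ (v * g' * v⁻¹) w) = w := by
        rw [← sigma_mul_apply, show v * g' * v⁻¹ * (v * g' * v⁻¹) = v * (g' * g') * v⁻¹ by group,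
          sigma_mul_apply, sigma_mul_apply, sigma_mul_apply,
          hinv v' hv' _ (h.inv _ (N.inv_mem hv) w hw), sigma_apply_inv]
      rw [hcg w hw, map_smul, hcg _ (h.inv _ hg' w hw), smul_smul, hinv v' hv' w hw] at h1
      exact h1
    have hprod : ∀ w ∈ U, σ (v * g' * v⁻¹) (σ g (σ (v * g' * v⁻¹) (σ g w))) = w := by
      intro w hw
      have e : v * v' * u * (v * v')⁻¹ * u⁻¹ = v * g' * v⁻¹ * g := by rw [hgd, hgd']; group
      have := hinv (v * v') (N.mul_mem hv hv') w hw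
      rw [e] at this
      simp only [sigma_mul_apply] at this ⊢
      exact this
    have h2 := hprod w hw
    have hwg := h.inv _ hg w hw
    have hwgg := h.inv _ hg _ (h.inv _ hg' _ hwg)
    rw [hcg _ hwg, map_smul, map_smul, hcg _ hwgg, smul_smul, hcA _ (h.inv _ hg' _ hwgg)] at h2
    have h3 := congrArg (fun x => σ g (σ g' x)) h2
    rw [hinv v' hv' _ (h.inv _ hg _ (h.inv _ hg' _ hwg)), hinv v hv _ (h.inv _ hg' _ hwg)] at h3
    exact h3.symm
  -- `u` fixes the commutators modulo the scalars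
  have hfix : ∀ v ∈ N, (u * (v * u * v⁻¹ * u⁻¹) * u⁻¹)⁻¹ * (v * u * v⁻¹ * u⁻¹) ∈ h.zsub := by
    intro v hv
    have hg := hgN v hv
    set g := v * u * v⁻¹ * u⁻¹ with hgd
    have hh := hNn.conj_mem g hg u
    refine ⟨N.mul_mem (N.inv_mem hh) hg, h.scal_of_cm hT (N.mul_mem (N.inv_mem hh) hg) fun t ht => ?_⟩
    have hgt := hgN t ht
    have e1 : h.cm (u * t * u⁻¹) (u * g * u⁻¹) = h.cm t g := h.cm_conj hN hT hu ht hg
    have e2 : h.cm (t * u * t⁻¹ * u⁻¹)⁻¹ (u * g * u⁻¹) = 1 := by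
      have hg2 := hcom t ht (u * v * u⁻¹) (hNn.conj_mem v hv u)
      rw [show u * v * u⁻¹ * u * (u * v * u⁻¹)⁻¹ * u⁻¹ = u * g * u⁻¹ by rw [hgd]; group] at hg2
      have h1 := h.cm_mul_left hT hgt (N.inv_mem hgt) hh
      rw [mul_inv_cancel, hg2, one_mul] at h1
      rw [← h1]
      exact h.cm_eq hT N.one_mem hh fun w _ => by
        rw [map_one, Module.End.one_apply, Module.End.one_apply, one_smul]
    rw [show u * t * u⁻¹ = (t * u * t⁻¹ * u⁻¹)⁻¹ * t by group,
      h.cm_mul_left hT (N.inv_mem hgt) ht hh, e2, one_mul] at e1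
    have hz : h.cm t ((u * g * u⁻¹)⁻¹ * g) = 1 := by
      rw [h.cm_mul_right hT ht (N.inv_mem hh) hg, ← e1]
      exact h.cm_inv_right hT ht hh
    have := h.cm_swap hT (N.mul_mem (N.inv_mem hh) hg) ht
    rwa [hz, one_mul] at this
  set T := h.qact hN hT ⟨u, hu⟩
  refine MulEquiv.ext fun y => ?_
  obtain ⟨⟨v, hv⟩, rfl⟩ := QuotientGroup.mk'_surjective (h.zsub.subgroupOf N) y
  rw [MulAut.one_apply, sq, MulAut.mul_apply]
  have hv' := hNn.conj_mem v hv u
  have hg := hgN v hv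
  set y : N ⧸ h.zsub.subgroupOf N := QuotientGroup.mk ⟨v, hv⟩ with hy
  set δ : N ⧸ h.zsub.subgroupOf N := QuotientGroup.mk (⟨v * u * v⁻¹ * u⁻¹, hg⟩ : N) with hδ
  have hTv : T y = δ⁻¹ * y := by
    rw [hy, hδ, ← QuotientGroup.mk_inv, ← QuotientGroup.mk_mul, h.qact_mk hN hT ⟨u, hu⟩ v hv hv']
    refine congrArg QuotientGroup.mk (Subtype.ext ?_)
    show u * v * u⁻¹ = (v * u * v⁻¹ * u⁻¹)⁻¹ * v
    group
  have hTδ : T δ = δ := by
    rw [hδ, h.qact_mk hN hT ⟨u, hu⟩ _ hg (hNn.conj_mem _ hg u)]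
    exact QuotientGroup.eq.mpr (Subgroup.mem_subgroupOf.mpr (hfix v hv))
  show T (T y) = y
  rw [hTv, map_mul, map_inv, hTδ, hTv, ← mul_assoc, ← sq, hexp, one_mul]

/-- On a plane over the field with three elements the twelfth power is trivial. -/
theorem qact_pow_twelve (h : IsCst σ N U) (hN : (Nat.card N : k) ≠ 0) (hT : Tw σ N U) {u : L}
    (hu : u ∈ stabU σ N U) (hd : finrank k U = 3) : h.qact hN hT ⟨u, hu⟩ ^ 12 = 1 := by
  classical
  haveI : Fact (Nat.Prime 3) := ⟨Nat.prime_three⟩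
  set Q := N ⧸ h.zsub.subgroupOf N
  have hQ : Nat.card Q = 9 := by rw [h.card_quotient hN hT, hd]; norm_num
  haveI : Finite Q := Nat.finite_of_card_ne_zero (by rw [hQ]; norm_num)
  letI : CommGroup Q := { (inferInstance : Group Q) with mul_comm := h.mul_comm_quot hT }
  -- an element commuting with a generating set is scalar
  have hgen : ∀ (a : N) (S : Set Q), Subgroup.closure S = ⊤ →
      (∀ s ∈ S, ∀ b : N, (QuotientGroup.mk b : Q) = s → h.cm a b = 1) →
      (QuotientGroup.mk a : Q) = 1 := by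
    intro a S hS hs
    refine (QuotientGroup.eq_one_iff a).mpr (Subgroup.mem_subgroupOf.mpr ⟨a.2, h.scal_of_cm hT a.2
      fun v hv => ?_⟩)
    have hmem : (QuotientGroup.mk (⟨v, hv⟩ : N) : Q) ∈ Subgroup.closure S := hS ▸ trivial
    suffices ∀ q ∈ Subgroup.closure S, ∀ b : N, (QuotientGroup.mk b : Q) = q → h.cm a b = 1 from
      this _ hmem ⟨v, hv⟩ rfl
    intro q hq
    induction hq using Subgroup.closure_induction with
    | mem q hq => exact hs q hq
    | one =>
      intro b hb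
      rw [h.cm_congr hT a.2 b 1 (hb.trans (QuotientGroup.mk_one _).symm)]
      exact h.cm_one_right hT a.2
    | mul p q _ _ ihp ihq =>
      intro b hb
      obtain ⟨b₁, rfl⟩ := QuotientGroup.mk'_surjective (h.zsub.subgroupOf N) p
      obtain ⟨b₂, rfl⟩ := QuotientGroup.mk'_surjective (h.zsub.subgroupOf N) q
      rw [h.cm_congr hT a.2 b (b₁ * b₂) (hb.trans (QuotientGroup.mk_mul _ b₁ b₂).symm), Subgroup.coe_mul,
        h.cm_mul_right hT a.2 b₁.2 b₂.2, ihp b₁ rfl, ihq b₂ rfl, one_mul]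
    | inv q _ ih =>
      intro b hb
      have h1 := ih b⁻¹ (by rw [QuotientGroup.mk_inv, hb, inv_inv])
      rw [Subgroup.coe_inv] at h1
      have h2 := h.cm_inv_right hT a.2 b.2
      rwa [h1, one_mul] at h2
  have hexp : ∀ x : Q, x ^ 3 = 1 := by
    intro x
    by_contra hx
    have h9 : orderOf x = 3 ^ (1 + 1) := by
      refine orderOf_eq_prime_pow (fun e => hx (by simpa using e)) ?_
      rw [show 3 ^ (1 + 1) = Nat.card Q by rw [hQ]; norm_num]
      exact pow_card_eq_one'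
    have htop : Subgroup.closure {x} = ⊤ := by
      rw [← Subgroup.zpowers_eq_closure]
      exact Subgroup.eq_top_of_card_eq _ (by rw [Nat.card_zpowers, h9, hQ]; norm_num)
    obtain ⟨a, rfl⟩ := QuotientGroup.mk'_surjective (h.zsub.subgroupOf N) x
    refine hx ?_
    rw [show QuotientGroup.mk' _ a = (1 : Q) from hgen a _ htop fun s hs b hb => ?_, one_pow]
    rw [Set.mem_singleton_iff] at hs
    rw [h.cm_congr hT a.2 b a (hb.trans hs), h.cm_self hT a.2]
  refine MulEquiv.ext fun y => ?_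
  obtain ⟨⟨a, ha⟩, rfl⟩ := QuotientGroup.mk'_surjective (h.zsub.subgroupOf N) y
  rw [MulAut.one_apply]
  set T := h.qact hN hT ⟨u, hu⟩ with hT'
  show (T ^ 12) (QuotientGroup.mk ⟨a, ha⟩) = QuotientGroup.mk (⟨a, ha⟩ : N)
  have hb := hNn.conj_mem a ha u
  set A : Q := QuotientGroup.mk ⟨a, ha⟩ with hA
  by_cases hA1 : A = 1
  · rw [hA1, map_one]
  have hTA : T A = QuotientGroup.mk (⟨u * a * u⁻¹, hb⟩ : N) := h.qact_mk hN hT ⟨u, hu⟩ a ha hb
  set B : Q := QuotientGroup.mk (⟨u * a * u⁻¹, hb⟩ : N) with hB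
  have hoA : orderOf A = 3 := orderOf_eq_prime (hexp A) hA1
  by_cases hBA : B ∈ Subgroup.zpowers A
  · rw [← mem_powers_iff_mem_zpowers, mem_powers_iff_mem_range_orderOf, hoA, Finset.mem_image] at hBA
    obtain ⟨i, hi, hiB⟩ := hBA
    rw [Finset.mem_range] at hi
    have hT2 : (T ^ 2) A = A := by
      rw [sq, MulAut.mul_apply, hTA, ← hiB, map_pow, hTA, ← hiB, ← pow_mul]
      interval_cases i
      · exact absurd (MulEquiv.map_eq_one_iff T |>.mp (hTA.trans (hiB.symm.trans (pow_zero A)))) hA1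
      · exact pow_one A
      · rw [show 2 * 2 = 3 + 1 from rfl, pow_succ, hexp, one_mul]
    calc (T ^ 12) A = (T ^ 2) ((T ^ 2) ((T ^ 2) ((T ^ 2) ((T ^ 2) ((T ^ 2) A))))) := by
          simp only [← MulAut.mul_apply, ← pow_add]
      _ = A := by simp only [hT2]
  have htop : Subgroup.closure {A, B} = ⊤ := by
    apply Subgroup.eq_top_of_card_eq
    rw [hQ]
    have hd1 : Nat.card (Subgroup.closure {A, B}) ∣ 3 ^ 2 := by
      rw [show 3 ^ 2 = Nat.card Q by rw [hQ]; norm_num]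
      exact Subgroup.card_subgroup_dvd_card _
    obtain ⟨j, hj, hj'⟩ := (Nat.dvd_prime_pow Nat.prime_three).mp hd1
    have hle : Subgroup.zpowers A ≤ Subgroup.closure {A, B} :=
      Subgroup.zpowers_le.mpr (Subgroup.subset_closure (by simp))
    have hlt : 3 < Nat.card (Subgroup.closure {A, B}) := by
      rcases lt_or_ge 3 (Nat.card (Subgroup.closure {A, B})) with hlt | hge
      · exact hlt
      · refine absurd ?_ hBA
        rw [Subgroup.eq_of_le_of_card_ge hle (by rw [Nat.card_zpowers, hoA]; exact hge)]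
        exact Subgroup.subset_closure (by simp)
    interval_cases j
    · omega
    · omega
    · rw [hj']; norm_num
  set ω := h.cm a (u * a * u⁻¹) with hω
  have hω1 : ω ≠ 1 := by
    intro e
    refine hA1 (hgen ⟨a, ha⟩ _ htop ?_)
    intro s hs b hb'
    rcases hs with rfl | hs
    · rw [h.cm_congr hT ha b ⟨a, ha⟩ hb', h.cm_self hT ha]
    · rw [Set.mem_singleton_iff] at hs
      rw [h.cm_congr hT ha b ⟨_, hb⟩ (hb'.trans hs)]
      exact e
  have hω3 : ω ^ 3 = 1 := by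
    have h3 : (QuotientGroup.mk ((⟨u * a * u⁻¹, hb⟩ : N) ^ 3) : Q) = QuotientGroup.mk 1 := by
      rw [QuotientGroup.mk_pow, hexp, QuotientGroup.mk_one]
    have := h.cm_congr hT ha _ _ h3
    rw [SubmonoidClass.coe_pow, h.cm_pow_right hT ha hb, Subgroup.coe_one, h.cm_one_right hT ha] at this
    exact this
  have hab : ∀ i j : ℕ, ∃ hm : a ^ i * (u * a * u⁻¹) ^ j ∈ N,
      (QuotientGroup.mk (⟨_, hm⟩ : N) : Q) = A ^ i * B ^ j := fun i j =>
    ⟨N.mul_mem (N.pow_mem ha i) (N.pow_mem hb j), by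
      rw [hA, hB, ← QuotientGroup.mk_pow, ← QuotientGroup.mk_pow, ← QuotientGroup.mk_mul]
      rfl⟩
  obtain ⟨i, hi, j, hj, hTB⟩ : ∃ i, i < 3 ∧ ∃ j, j < 3 ∧ T B = A ^ i * B ^ j := by
    have : T B ∈ Subgroup.closure {A, B} := htop ▸ trivial
    rw [Subgroup.mem_closure_pair] at this
    obtain ⟨m, n, hmn⟩ := this
    refine ⟨(m % 3).toNat, by omega, (n % 3).toNat, by omega, ?_⟩
    rw [← hmn, ← zpow_natCast, ← zpow_natCast, Int.toNat_of_nonneg (by omega),
      Int.toNat_of_nonneg (by omega)]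
    congr 1 <;> exact zpow_eq_zpow_emod' _ (hexp _)
  obtain ⟨hm, hmk⟩ := hab i j
  have h2b := hNn.conj_mem _ hb u
  have hcm : h.cm (u * a * u⁻¹) (a ^ i * (u * a * u⁻¹) ^ j) = ω := by
    have he : (QuotientGroup.mk (⟨_, hm⟩ : N) : Q) = QuotientGroup.mk (⟨_, h2b⟩ : N) := by
      rw [hmk, ← hTB, hB]
      exact h.qact_mk hN hT ⟨u, hu⟩ _ hb h2b
    rw [h.cm_congr hT hb ⟨_, hm⟩ ⟨_, h2b⟩ he, hω]
    exact h.cm_conj hN hT hu ha hb
  rw [h.cm_mul_right hT hb (N.pow_mem ha i) (N.pow_mem hb j), h.cm_pow_right hT hb ha,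
    h.cm_pow_right hT hb hb, h.cm_self hT hb, one_pow, mul_one] at hcm
  have hsw := h.cm_swap hT ha hb
  rw [← hω] at hsw
  have hωi : ω ^ (i + 1) = 1 := by
    rw [pow_succ]
    nth_rw 2 [← hcm]
    rw [← mul_pow, mul_comm ω, hsw, one_pow]
  have hi2 : i = 2 := by
    interval_cases i
    · exact absurd (by simpa using hωi) hω1
    · exfalso
      refine hω1 ?_
      have : ω ^ 3 = ω ^ (1 + 1) * ω := by ring
      rw [hω3, hωi, one_mul] at this
      exact this.symm
    · rfl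
  subst hi2
  have hmod : ∀ (x : Q) (m : ℕ), x ^ m = x ^ (m % 3) := fun x m => pow_eq_pow_mod m (hexp x)
  have hdbl : ∀ m c : ℕ, (T ^ m) A = A ^ c → (T ^ (m + m)) A = A ^ (c * c) := fun m c hc => by
    rw [pow_add, MulAut.mul_apply, hc, map_pow, hc, ← pow_mul]
  have h2 : (T ^ 2) A = A ^ 2 * B ^ j := by rw [sq, MulAut.mul_apply, hTA, hTB]
  interval_cases j
  · rw [pow_zero, mul_one] at h2
    have h4 := hdbl 2 2 h2
    rw [hmod A, pow_one] at h4
    calc (T ^ 12) A = (T ^ 4) ((T ^ 4) ((T ^ 4) A)) := by simp only [← MulAut.mul_apply, ← pow_add]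
      _ = A := by simp only [h4]
  · have h3 : (T ^ 3) A = A ^ 2 := by
      rw [show (3 : ℕ) = 1 + 2 from rfl, pow_add, MulAut.mul_apply, h2, pow_one, map_mul, map_pow,
        map_pow, hTA, hTB, pow_one, pow_one, mul_left_comm, ← pow_succ, hexp, mul_one]
    have h6 := hdbl 3 2 h3
    rw [hmod A, pow_one] at h6
    calc (T ^ 12) A = (T ^ 6) ((T ^ 6) A) := by simp only [← MulAut.mul_apply, ← pow_add]
      _ = A := by simp only [h6]
  · have h3 : (T ^ 3) A = A := by
      rw [show (3 : ℕ) = 1 + 2 from rfl, pow_add, MulAut.mul_apply, h2, pow_one, map_mul, map_pow,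
        map_pow, hTA, hTB, mul_pow, ← pow_mul, ← pow_mul, mul_left_comm, ← pow_add, hmod A (2 * 2),
        hmod B (2 + 2 * 2), pow_one, pow_zero, mul_one]
    calc (T ^ 12) A = (T ^ 3) ((T ^ 3) ((T ^ 3) ((T ^ 3) A))) := by
          simp only [← MulAut.mul_apply, ← pow_add]
      _ = A := by simp only [h3]

end CfsgLib.Gross
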