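import Cfsg.Agent.Lib.Gross.Cst
import Cfsg.Agent.Lib.HallHigman.Layer

/-!
A normal subgroup with scalar commutators on its constituents: stabilisers of characters, the induced
action on the quotient by the scalars, and automorphisms of small elementary abelian groups.
-/

set_option autoImplicit false
set_option linter.style.haveILetI false
set_option linter.unusedSectionVars false

open Module CfsgLib.HallHigman

namespace CfsgLib.Gross

variable {k : Type*} [Field k] {V : Type*} [AddCommGroup V] [Module k V]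
variable {L : Type*} [Group L] {σ : L →* Module.End k V} {N : Subgroup L} [hNn : N.Normal]
variable {U : Submodule k V}

theorem conj_mem' (g : L) {a : L} (ha : a ∈ N) : g⁻¹ * a * g ∈ N := by
  simpa using hNn.conj_mem a ha g⁻¹

theorem IsCst.translate (h : IsCst σ N U) (g : L) : IsCst σ N (U.map (σ g)) := by
  refine ⟨?_, ?_, fun U' hle hinv => ?_⟩
  · rintro a ha _ ⟨w, hw, rfl⟩
    refine ⟨σ (g⁻¹ * a * g) w, h.inv _ (conj_mem' g ha) w hw, ?_⟩
    rw [← sigma_mul_apply, ← sigma_mul_apply]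
    congr 2
    group
  · intro e
    obtain ⟨w, hw, hw0⟩ := (Submodule.ne_bot_iff U).mp h.ne
    have : σ g w ∈ U.map (σ g) := ⟨w, hw, rfl⟩
    rw [e, Submodule.mem_bot] at this
    exact hw0 (sigma_injective g (by rw [this, map_zero]))
  · have hle' : U'.comap (σ g) ≤ U := fun w hw => by
      obtain ⟨w', hw', he⟩ := hle hw
      exact sigma_injective g he ▸ hw'
    rcases h.min _ hle' (fun a ha w hw => by
      show σ g (σ a w) ∈ U'
      rw [show σ g (σ a w) = σ (g * a * g⁻¹) (σ g w) by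
        rw [← sigma_mul_apply, ← sigma_mul_apply]; congr 2; group]
      exact hinv _ (hNn.conj_mem a ha g) _ hw) with e | e
    · left
      rw [eq_bot_iff]
      intro w hw
      obtain ⟨w', -, rfl⟩ := hle hw
      have : w' ∈ U'.comap (σ g) := hw
      rw [e, Submodule.mem_bot] at this
      rw [this, map_zero]
      exact zero_mem _
    · right
      refine le_antisymm hle ?_
      rintro _ ⟨w, hw, rfl⟩
      rw [← e] at hw
      exact hw

theorem IsCst.chi_translate (h : IsCst σ N U) (g : L) {a : L} (ha : a ∈ N) :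
    chi σ (U.map (σ g)) a = chi σ U (g⁻¹ * a * g) := by
  let e1 : U ≃ₗ[k] (U.map (σ g)) := Submodule.equivMapOfInjective _ (sigma_injective g) U
  have e2 : (h.translate g).rep ⟨a, ha⟩ = e1.conj (h.rep ⟨g⁻¹ * a * g, conj_mem' g ha⟩) := by
    refine LinearMap.ext fun w => ?_
    obtain ⟨v, rfl⟩ := e1.surjective w
    rw [LinearEquiv.conj_apply_apply, LinearEquiv.symm_apply_apply]
    refine Subtype.ext ?_
    show σ a (σ g (v : V)) = σ g (σ (g⁻¹ * a * g) (v : V))
    rw [← sigma_mul_apply, ← sigma_mul_apply]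
    congr 2
    group
  rw [show chi σ (U.map (σ g)) a = _ from (h.translate g).chi_rep ⟨a, ha⟩, e2,
    LinearMap.trace_conj', ← h.chi_rep ⟨g⁻¹ * a * g, conj_mem' g ha⟩]

variable (σ N U) in
/-- The stabiliser of a character. -/
noncomputable def stabU : Subgroup L where
  carrier := {g | ∀ a ∈ N, chi σ U (g * a * g⁻¹) = chi σ U a}
  one_mem' := fun a _ => by simp
  mul_mem' := fun {g h} hg hh a ha => by
    rw [show g * h * a * (g * h)⁻¹ = g * (h * a * h⁻¹) * g⁻¹ by group,
      hg _ (hNn.conj_mem a ha h), hh a ha]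
  inv_mem' := fun {g} hg a ha => by
    have := hg _ (hNn.conj_mem a ha g⁻¹)
    rw [show g * (g⁻¹ * a * g⁻¹⁻¹) * g⁻¹ = a by group] at this
    exact this.symm

variable (σ N) in
/-- The stabiliser of all characters. -/
noncomputable def fixAll : Subgroup L :=
  ⨅ U : {U : Submodule k V // IsCst σ N U}, stabU σ N U.1

theorem mem_fixAll {g : L} : g ∈ fixAll σ N ↔ ∀ U, IsCst σ N U → g ∈ stabU σ N U := by
  rw [fixAll, Subgroup.mem_iInf]
  exact ⟨fun h U hU => h ⟨U, hU⟩, fun h U => h _ U.2⟩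

instance fixAll_normal : (fixAll σ N).Normal := by
  refine ⟨fun g hg h => mem_fixAll.mpr fun U hU a ha => ?_⟩
  have h1 := mem_fixAll.mp hg _ (hU.translate h⁻¹) (h⁻¹ * a * h) (conj_mem' h ha)
  rw [hU.chi_translate h⁻¹ (hNn.conj_mem _ (conj_mem' h ha) g),
    hU.chi_translate h⁻¹ (conj_mem' h ha)] at h1
  convert h1 using 2 <;> group

variable [IsAlgClosed k] [FiniteDimensional k V] [Finite N]

theorem IsCst.conj_scal (h : IsCst σ N U) (hN : (Nat.card N : k) ≠ 0) (hT : Tw σ N U) {g a : L}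
    (hg : g ∈ stabU σ N U) (ha : a ∈ N) {c : k} (hc : ∀ w ∈ U, σ a w = c • w) :
    ∀ w ∈ U, σ (g * a * g⁻¹) w = c • w := by
  have h1 : chi σ U (g * a * g⁻¹) = c * (finrank k U : k) := by rw [hg a ha, chi_of_scal hc]
  obtain ⟨c', hc'⟩ := (h.scal_iff hN hT (hNn.conj_mem a ha g)).mpr (by
    rw [h1]
    exact mul_ne_zero (Scal.ne_zero h.ne hc) (h.finrank_ne_zero hN))
  rw [chi_of_scal hc'] at h1
  rwa [mul_right_cancel₀ (h.finrank_ne_zero hN) h1] at hc'

theorem IsCst.conj_zsub (h : IsCst σ N U) (hN : (Nat.card N : k) ≠ 0) (hT : Tw σ N U) {g a : L}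
    (hg : g ∈ stabU σ N U) (ha : a ∈ h.zsub) : g * a * g⁻¹ ∈ h.zsub := by
  obtain ⟨ha', c, hc⟩ := ha
  exact ⟨hNn.conj_mem a ha' g, c, h.conj_scal hN hT hg ha' hc⟩

theorem IsCst.comm_trivial (h : IsCst σ N U) (hN : (Nat.card N : k) ≠ 0) (hT : Tw σ N U) {g a : L}
    (hg : g ∈ stabU σ N U) (ha : a ∈ h.zsub) : ∀ w ∈ U, σ (g * a * g⁻¹ * a⁻¹) w = w := by
  obtain ⟨ha', c, hc⟩ := ha
  intro w hw
  rw [sigma_mul_apply, Scal.inv_apply h.ne hc w hw, map_smul, h.conj_scal hN hT hg ha' hc w hw,
    smul_smul, inv_mul_cancel₀ (Scal.ne_zero h.ne hc), one_smul]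

/-- An element trivial on every constituent acts trivially. -/
theorem eq_one_of_trivial (hN : (Nat.card N : k) ≠ 0) {a : L} (ha : a ∈ N)
    (h : ∀ U, IsCst σ N U → ∀ w ∈ U, σ a w = w) : σ a = 1 := by
  classical
  let N₀ : Subgroup L :=
    { carrier := {b | b ∈ N ∧ ∀ U, IsCst σ N U → ∀ w ∈ U, σ b w = w}
      one_mem' := ⟨N.one_mem, fun U _ w _ => by rw [map_one]; rfl⟩
      mul_mem' := fun {b c} hb hc => ⟨N.mul_mem hb.1 hc.1, fun U hU w hw => by
        rw [sigma_mul_apply, hc.2 U hU w hw, hb.2 U hU w hw]⟩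
      inv_mem' := fun {b} hb => ⟨N.inv_mem hb.1, fun U hU w hw => by
        conv_lhs => rw [← hb.2 U hU w hw]
        rw [sigma_inv_apply]⟩ }
  have hle : N₀ ≤ N := fun _ hb => hb.1
  have hcard : (Nat.card N₀ : k) ≠ 0 := fun e => hN (by
    obtain ⟨m, hm⟩ := Subgroup.card_dvd_of_le hle
    rw [hm, Nat.cast_mul, e, zero_mul])
  haveI : Finite N₀ := Finite.of_injective (Subgroup.inclusion hle) (Subgroup.inclusion_injective hle)
  letI := Fintype.ofFinite N₀
  set e : Module.End k V := ∑ b : N₀, σ b with he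
  have heb : ∀ b : N₀, e * σ b = e := fun b => by
    rw [he, Finset.sum_mul]
    exact Fintype.sum_equiv (Equiv.mulRight b) _ _ fun c => by
      rw [← map_mul]; rfl
  have hnorm : ∀ g ∈ N, ∀ b ∈ N₀, g * b * g⁻¹ ∈ N₀ := by
    rintro g hg b ⟨hb, hb'⟩
    refine ⟨hNn.conj_mem b hb g, fun U hU w hw => ?_⟩
    rw [sigma_mul_apply, sigma_mul_apply, hb' U hU _ (hU.inv _ (N.inv_mem hg) w hw), sigma_apply_inv]
  have hker : LinearMap.ker e = ⊥ := by
    by_contra hne
    have hinv : ∀ g ∈ N, ∀ w ∈ LinearMap.ker e, σ g w ∈ LinearMap.ker e := by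
      intro g hg w hw
      rw [LinearMap.mem_ker] at hw ⊢
      have : e * σ g = σ g * e := by
        rw [he, Finset.sum_mul, Finset.mul_sum]
        let E : N₀ ≃ N₀ :=
          { toFun := fun b => ⟨g⁻¹ * b * g, by
              simpa using hnorm g⁻¹ (N.inv_mem hg) b b.2⟩
            invFun := fun b => ⟨g * b * g⁻¹, hnorm g hg b b.2⟩
            left_inv := fun b => Subtype.ext (by simp [mul_assoc])
            right_inv := fun b => Subtype.ext (by simp [mul_assoc]) }
        refine Fintype.sum_equiv E _ _ fun b => ?_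
        rw [← map_mul, ← map_mul]
        congr 1
        show (b : L) * g = g * (g⁻¹ * b * g)
        group
      rw [← Module.End.mul_apply, this, Module.End.mul_apply, hw, map_zero]
    obtain ⟨U, hUle, hU⟩ := exists_isCst_le N hne hinv
    obtain ⟨w, hw, hw0⟩ := (Submodule.ne_bot_iff U).mp hU.ne
    have h1 : e w = (Nat.card N₀ : k) • w := by
      rw [he, LinearMap.sum_apply, Finset.sum_congr rfl fun b _ => b.2.2 U hU w hw, Finset.sum_const,
        Finset.card_univ, Nat.card_eq_fintype_card, Nat.cast_smul_eq_nsmul]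
    rw [LinearMap.mem_ker.mp (hUle hw)] at h1
    exact hw0 ((smul_eq_zero.mp h1.symm).resolve_left hcard)
  refine LinearMap.ext fun w => LinearMap.ker_eq_bot.mp hker ?_
  rw [Module.End.one_apply, ← Module.End.mul_apply]
  exact LinearMap.congr_fun (heb ⟨a, ha, h⟩) w

/-- The action on the quotient by the scalars. -/
noncomputable def IsCst.qact (h : IsCst σ N U) (hN : (Nat.card N : k) ≠ 0) (hT : Tw σ N U) :
    stabU σ N U →* MulAut (N ⧸ h.zsub.subgroupOf N) :=
  MonoidHom.mk'
    (fun g => QuotientGroup.congr _ _ (MulAut.conjNormal (g : L)) (by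
      refine le_antisymm ?_ ?_
      · rintro _ ⟨a, ha, rfl⟩
        rw [Subgroup.mem_subgroupOf]
        show ((MulAut.conjNormal (g : L)) a : L) ∈ h.zsub
        rw [MulAut.conjNormal_apply]
        exact h.conj_zsub hN hT g.2 (Subgroup.mem_subgroupOf.mp ha)
      · intro a ha
        refine ⟨(MulAut.conjNormal (g : L)⁻¹) a, ?_, ?_⟩
        · rw [SetLike.mem_coe, Subgroup.mem_subgroupOf, MulAut.conjNormal_apply]
          exact h.conj_zsub hN hT (inv_mem g.2) (Subgroup.mem_subgroupOf.mp ha)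
        · show MulAut.conjNormal (g : L) (MulAut.conjNormal (g : L)⁻¹ a) = a
          rw [← MulAut.mul_apply, ← map_mul, mul_inv_cancel, map_one]
          rfl))
    (fun g g' => MulEquiv.ext fun x => by
      obtain ⟨a, rfl⟩ := QuotientGroup.mk'_surjective (h.zsub.subgroupOf N) x
      show QuotientGroup.mk' _ (MulAut.conjNormal ((g * g' : stabU σ N U) : L) a) = _
      rw [Subgroup.coe_mul, map_mul]
      rfl)

theorem IsCst.qact_apply (h : IsCst σ N U) (hN : (Nat.card N : k) ≠ 0) (hT : Tw σ N U)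
    (g : stabU σ N U) (a : N) :
    h.qact hN hT g (QuotientGroup.mk a) = QuotientGroup.mk (MulAut.conjNormal (g : L) a) := rfl

theorem IsCst.qact_eq_one_iff (h : IsCst σ N U) (hN : (Nat.card N : k) ≠ 0) (hT : Tw σ N U)
    (g : stabU σ N U) :
    h.qact hN hT g = 1 ↔ ∀ a ∈ N, (g : L) * a * (g : L)⁻¹ * a⁻¹ ∈ h.zsub := by
  constructor
  · intro e a ha
    have h1 := congrArg (fun f : MulAut _ => f (QuotientGroup.mk (⟨a, ha⟩ : N))) e
    simp only [h.qact_apply, MulAut.one_apply] at h1
    have h2 := Subgroup.mem_subgroupOf.mp (QuotientGroup.eq_iff_div_mem.mp h1)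
    rw [Subgroup.coe_div, MulAut.conjNormal_apply, div_eq_mul_inv] at h2
    exact h2
  · intro hh
    refine MulEquiv.ext fun x => ?_
    obtain ⟨a, rfl⟩ := QuotientGroup.mk'_surjective (h.zsub.subgroupOf N) x
    rw [QuotientGroup.mk'_apply, h.qact_apply, MulAut.one_apply, QuotientGroup.eq_iff_div_mem,
      Subgroup.mem_subgroupOf, Subgroup.coe_div, MulAut.conjNormal_apply, div_eq_mul_inv]
    exact hh a a.2

theorem IsCst.mul_comm_quot (h : IsCst σ N U) (hT : Tw σ N U) (x y : N ⧸ h.zsub.subgroupOf N) :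
    x * y = y * x := by
  obtain ⟨a, rfl⟩ := QuotientGroup.mk'_surjective (h.zsub.subgroupOf N) x
  obtain ⟨b, rfl⟩ := QuotientGroup.mk'_surjective (h.zsub.subgroupOf N) y
  rw [← map_mul, ← map_mul, QuotientGroup.mk'_apply, QuotientGroup.mk'_apply,
    QuotientGroup.eq_iff_div_mem, Subgroup.mem_subgroupOf]
  have := h.comm_mem_zsub hT a.2 b.2
  simpa [div_eq_mul_inv, mul_assoc] using this

theorem no_cube {l r n : ℕ} (hl : l.Prime) (hr : r.Prime) (hr2 : r ≠ 2) (hrl : r ≠ l)
    (hcard : l ^ n ∈ ({1, 4, 16, 9, 25} : Finset ℕ))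
    (h : r ^ 3 ∣ ∏ i : Fin n, (l ^ n - l ^ (i : ℕ))) : False := by
  simp only [Finset.mem_insert, Finset.mem_singleton] at hcard
  have hn4 : n ≤ 4 := by
    by_contra hn5
    have h32 : 2 ^ 5 ≤ l ^ n :=
      (Nat.pow_le_pow_left hl.two_le 5).trans (Nat.pow_le_pow_right hl.pos (by omega))
    omega
  rcases Nat.eq_zero_or_pos n with h0 | hn0
  · subst h0
    rw [Fin.prod_univ_zero, Nat.dvd_one] at h
    exact hr.ne_one ((pow_eq_one_iff.mp h).resolve_right (by norm_num))
  have hl25 : l ≤ 25 := by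
    have : l ^ 1 ≤ l ^ n := Nat.pow_le_pow_right hl.pos hn0
    rw [pow_one] at this
    omega
  have hcases : (l = 2 ∧ n = 2) ∨ (l = 2 ∧ n = 4) ∨ (l = 3 ∧ n = 2) ∨ (l = 5 ∧ n = 2) := by
    interval_cases n <;> interval_cases l <;> first | omega | (norm_num at hl) | (norm_num at hcard)
  rcases hcases with ⟨rfl, rfl⟩ | ⟨rfl, rfl⟩ | ⟨rfl, rfl⟩ | ⟨rfl, rfl⟩
  all_goals
    simp only [Fin.prod_univ_succ, Fin.prod_univ_zero, Fin.val_zero, Fin.val_succ] at h
    norm_num at h
    have hle : r ^ 3 ≤ 20160 := (Nat.le_of_dvd (by norm_num) h).trans (by norm_num)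
    have hr27 : r ≤ 27 := by
      by_contra hc
      have : 28 ^ 3 ≤ r ^ 3 := Nat.pow_le_pow_left (by omega) 3
      omega
    interval_cases r <;> first | omega | (norm_num at hr) | (norm_num at h)

/-- A `r`-group of automorphisms of a group of type `(l, …, l)` of small order is abelian. -/
theorem commute_of_small {Q : Type*} [Group Q] [Finite Q] (hcomm : ∀ x y : Q, x * y = y * x) {l : ℕ}
    [Fact l.Prime] (hexp : ∀ x : Q, x ^ l = 1) (hcard : Nat.card Q ∈ ({1, 4, 16, 9, 25} : Finset ℕ))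
    {r : ℕ} [hr : Fact r.Prime] (hr2 : r ≠ 2) (hrl : r ≠ l) {A : Type*} [Group A] [Finite A]
    (hA : IsPGroup r A) (f : A →* MulAut Q) (a b : A) : f a * f b = f b * f a := by
  classical
  letI : CommGroup Q := { ‹Group Q› with mul_comm := hcomm }
  letI : Module (ZMod l) (Additive Q) :=
    AddCommGroup.zmodModule (n := l) (G := Additive Q) fun v =>
      Additive.toMul.injective (hexp (Additive.toMul v))
  haveI : Finite (Additive Q) := inferInstanceAs (Finite Q)
  haveI : FiniteDimensional (ZMod l) (Additive Q) := Module.Finite.of_finite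
  set n := finrank (ZMod l) (Additive Q) with hn
  have hQn : Nat.card Q = l ^ n := by
    have := Module.natCard_eq_pow_finrank (K := ZMod l) (V := Additive Q)
    rw [Nat.card_zmod] at this
    exact (Nat.card_congr Additive.ofMul).trans this
  set b' := Module.finBasis (ZMod l) (Additive Q)
  let Φ : MulAut Q →* (Matrix (Fin n) (Fin n) (ZMod l))ˣ :=
    (((LinearMap.toMatrixAlgEquiv b').toMulEquiv.toMonoidHom).comp
      (endOfAut (p := l) (MonoidHom.id (MulAut Q)))).toHomUnits
  have hΦ : Function.Injective Φ := by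
    intro φ ψ e
    refine MulEquiv.ext fun x => ?_
    have h1 := congrArg (fun M : (Matrix (Fin n) (Fin n) (ZMod l))ˣ =>
      (M : Matrix (Fin n) (Fin n) (ZMod l))) e
    have h2 := (LinearMap.toMatrixAlgEquiv b').injective h1
    exact Additive.ofMul.injective (LinearMap.congr_fun h2 (Additive.ofMul x))
  set I := (Φ.comp f).range
  have hIp : IsPGroup r I := hA.of_surjective _ (Φ.comp f).rangeRestrict_surjective
  obtain ⟨m, hm⟩ := IsPGroup.iff_card.mp hIp
  have hdvd : r ^ m ∣ ∏ i : Fin n, (l ^ n - l ^ (i : ℕ)) := by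
    have := Subgroup.card_subgroup_dvd_card I
    rw [hm, Matrix.card_GL_field] at this
    simpa [ZMod.card] using this
  have hl : l.Prime := Fact.out
  have hm2 : m ≤ 2 := by
    by_contra h3
    rw [hQn] at hcard
    exact no_cube hl hr.out hr2 hrl hcard ((pow_dvd_pow r (by omega : 3 ≤ m)).trans hdvd)
  have hIc : ∀ x y : I, x * y = y * x := by
    rcases Nat.lt_or_ge m 2 with h | h
    · interval_cases m
      · haveI : Subsingleton I := (Nat.card_eq_one_iff_unique.mp (by simpa using hm)).1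
        exact fun x y => Subsingleton.elim _ _
      · haveI : IsCyclic I := isCyclic_of_prime_card (by simpa using hm)
        exact fun x y => IsCyclic.commutative.is_comm.comm x y
    · have hm' : m = 2 := by omega
      exact fun x y => IsPGroup.commutative_of_card_eq_prime_sq (by rw [hm, hm']) x y
  apply hΦ
  rw [map_mul, map_mul]
  exact congrArg Subtype.val (hIc ⟨_, a, rfl⟩ ⟨_, b, rfl⟩)

end CfsgLib.Gross
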