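import Cfsg.Agent.Lib.Gross.Fixed
import Cfsg.Agent.Lib.Gross.Sympl

/-!
An element of order `2 ^ e` without a full Jordan block in characteristic two, acting on the
constituents of a normal subgroup of odd prime power order: the critical case is a plane.
-/

set_option autoImplicit false
set_option linter.style.haveILetI false
set_option linter.unusedSectionVars false

open Module CfsgLib.HallHigman

namespace CfsgLib.Gross

theorem exponent_eq_one {q j n : ℕ} (hq : q.Prime) (hq2 : q ≠ 2) (hn : 2 ≤ n)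
    (h : q ^ j + 1 = 2 ^ n) : j = 1 := by
  have hq3 : 3 ≤ q := by have := hq.two_le; omega
  have hqodd : q % 2 = 1 := Nat.odd_iff.mp (hq.odd_of_ne_two hq2)
  have h4 : 4 ∣ 2 ^ n := pow_dvd_pow 2 hn
  rcases Nat.even_or_odd j with ⟨i, hi⟩ | hj
  · exfalso
    have hmod : q ^ j % 4 = 1 := by
      rw [hi, ← two_mul, pow_mul, Nat.pow_mod]
      have : q ^ 2 % 4 = 1 := by
        rw [Nat.pow_mod]
        have : q % 4 = 1 ∨ q % 4 = 3 := by omega
        rcases this with e | e <;> rw [e]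
      rw [this, one_pow]; norm_num
    rw [← h] at h4
    omega
  · set T : ℤ := ∑ i ∈ Finset.range j, (-(q : ℤ)) ^ i with hT
    have h1 : T * (-(q : ℤ) - 1) = (-(q : ℤ)) ^ j - 1 := geom_sum_mul _ _
    rw [hj.neg_pow] at h1
    have h2 : T * ((q : ℤ) + 1) = (2 : ℤ) ^ n := by
      have hc : ((q ^ j + 1 : ℕ) : ℤ) = ((2 ^ n : ℕ) : ℤ) := congrArg Nat.cast h
      push_cast at hc
      rw [← hc]
      linarith
    have hTodd : (T : ZMod 2) = 1 := by
      rw [hT, Int.cast_sum]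
      have hq1 : ((-(q : ℤ) : ℤ) : ZMod 2) = 1 := by
        rw [Int.cast_neg, ZMod.neg_eq_self_mod_two, Int.cast_natCast, ← ZMod.natCast_mod, hqodd,
          Nat.cast_one]
      simp only [Int.cast_pow, hq1, one_pow, Finset.sum_const, Finset.card_range, nsmul_eq_mul,
        mul_one]
      rw [← ZMod.natCast_mod, Nat.odd_iff.mp hj, Nat.cast_one]
    have hdvd : T.natAbs ∣ 2 ^ n := by
      have : T ∣ (2 : ℤ) ^ n := ⟨_, h2.symm⟩
      simpa [Int.natAbs_pow] using Int.natAbs_dvd_natAbs.mpr this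
    obtain ⟨m, -, hm⟩ := (Nat.dvd_prime_pow Nat.prime_two).mp hdvd
    have hm0 : m = 0 := by
      by_contra hne
      have : ((T.natAbs : ℤ) : ZMod 2) = 0 := by
        rw [Int.cast_natCast, hm, Nat.cast_pow, show ((2 : ℕ) : ZMod 2) = 0 from by decide,
          zero_pow hne]
      rcases Int.natAbs_eq T with e | e <;> rw [e] at hTodd
      · rw [this] at hTodd; exact zero_ne_one hTodd
      · rw [Int.cast_neg, this, neg_zero] at hTodd; exact zero_ne_one hTodd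
    rw [hm0, pow_zero] at hm
    have hT1 : T = 1 ∨ T = -1 := by omega
    have hlt : (0 : ℤ) < 2 ^ n := by positivity
    have hT' : T = 1 := by
      rcases hT1 with e | e
      · exact e
      · rw [e] at h2; linarith [show (0 : ℤ) ≤ (q : ℤ) from Int.natCast_nonneg q]
    rw [hT', one_mul] at h2
    have h3 : q ^ j = q ^ 1 := by
      have : ((q + 1 : ℕ) : ℤ) = ((2 ^ n : ℕ) : ℤ) := by push_cast; exact h2
      have := Nat.cast_injective this
      rw [pow_one]; omega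
    exact Nat.pow_right_injective hq.two_le h3

variable {k : Type*} [Field k] [IsAlgClosed k] {V : Type*} [AddCommGroup V] [Module k V]
  [FiniteDimensional k V]
variable {L : Type*} [Group L] [Finite L] {σ : L →* Module.End k V} {N : Subgroup L} [hNn : N.Normal]
variable {U : Submodule k V}

theorem orderOf_dvd_two_pow {x : L} {e : ℕ} (hx : x ^ 2 ^ e = 1) {i : ℕ} {S : Subgroup L}
    {a : ℕ} (hae : a ≤ e) (hi : ¬ 2 ^ a ∣ i) (hmem : x ^ i ∈ S) : x ^ 2 ^ (a - 1) ∈ S := by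
  haveI : Fact (Nat.Prime 2) := ⟨Nat.prime_two⟩
  obtain ⟨j, hj⟩ := exists_mul_modEq (p := 2) hae hi
  have : x ^ 2 ^ (a - 1) = x ^ (i * j) :=
    pow_eq_pow_iff_modEq.mpr (hj.symm.of_dvd (orderOf_dvd_of_pow_eq_one hx))
  rw [this, pow_mul]
  exact S.pow_mem hmem j

/-- Translates by the powers outside the stabiliser are independent. -/
theorem sum_translates (h : IsCst σ N U) (hN : (Nat.card N : k) ≠ 0) (x : L) (P : ℕ)
    (hd : ∀ i, 0 < i → i < P → x ^ i ∉ stabU σ N U) (hP : 0 < P) {w : V} (hw : w ∈ U)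
    (h0 : ∑ i ∈ Finset.range P, (σ x ^ i) w = 0) : w = 0 := by
  have key : ∀ i j, i < j → j < P →
      ∃ a ∈ N, chi σ (U.map (σ (x ^ i))) a ≠ chi σ (U.map (σ (x ^ j))) a := by
    intro i j hij hj
    by_contra hno
    push Not at hno
    refine hd (j - i) (by omega) (by omega) ?_
    refine inv_inv (x ^ (j - i)) ▸ Subgroup.inv_mem (stabU σ N U) ?_
    intro a ha
    have h1 := hno (x ^ i * a * (x ^ i)⁻¹) (hNn.conj_mem a ha _)
    rw [h.chi_translate _ (hNn.conj_mem a ha _), h.chi_translate _ (hNn.conj_mem a ha _),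
      show (x ^ i)⁻¹ * (x ^ i * a * (x ^ i)⁻¹) * x ^ i = a by group] at h1
    rw [h1]
    congr 1
    rw [show x ^ j = x ^ i * x ^ (j - i) by rw [← pow_add, Nat.add_sub_cancel' hij.le]]
    group
  have h1 := eq_zero_of_sum_zero hN (Finset.range P) (fun i => U.map (σ (x ^ i)))
    (fun i _ => h.translate _) (fun i hi j hj hne => by
      rw [Finset.mem_range] at hi hj
      rcases Nat.lt_or_gt_of_ne hne with hlt | hgt
      · exact key i j hlt hj
      · obtain ⟨a, ha, hane⟩ := key j i hgt hi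
        exact ⟨a, ha, hane.symm⟩)
    (fun i => (σ x ^ i) w) (fun i _ => ⟨w, hw, by rw [map_pow]⟩) h0 0 (Finset.mem_range.mpr hP)
  simpa using h1

variable [CharP k 2]

/-- Without a full Jordan block the involution fixes every constituent. -/
theorem involution_mem_fixAll (hN : (Nat.card N : k) ≠ 0) {x : L} {e : ℕ} (he : 1 ≤ e)
    (hxe : x ^ 2 ^ e = 1) (hdeg : (σ x - 1) ^ (2 ^ e - 1) = 0) :
    x ^ 2 ^ (e - 1) ∈ fixAll σ N := by
  haveI : Fact (Nat.Prime 2) := ⟨Nat.prime_two⟩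
  refine mem_fixAll.mpr fun U h => ?_
  by_contra hz
  obtain ⟨w, hw, hw0⟩ := (Submodule.ne_bot_iff U).mp h.ne
  haveI : Nontrivial V := ⟨w, 0, hw0⟩
  haveI : CharP (Module.End k V) 2 := charP_end 2 V
  rw [sub_one_pow_eq_geom] at hdeg
  refine hw0 (sum_translates h hN x (2 ^ e) (fun i hi hiP hmem => hz ?_) (Nat.two_pow_pos e) hw ?_)
  · exact orderOf_dvd_two_pow hxe le_rfl (fun hdvd => absurd (Nat.le_of_dvd hi hdvd) (by omega)) hmem
  · rw [← LinearMap.sum_apply, hdeg, LinearMap.zero_apply]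

/-- The critical case: `x ^ 2 ^ a` moves a plane only. -/
theorem plane {q : ℕ} [hqp : Fact q.Prime] (hq2 : q ≠ 2) (hNq : IsPGroup q N)
    (hcent : ∀ a ∈ N, ∀ b ∈ N, ∀ c ∈ N, a * b * a⁻¹ * b⁻¹ * c = c * (a * b * a⁻¹ * b⁻¹))
    {x : L} {e : ℕ} (he : 1 ≤ e) (hxe : x ^ 2 ^ e = 1) (hdeg : (σ x - 1) ^ (2 ^ e - 1) = 0)
    (h : IsCst σ N U)
    (hmove : ¬ ∀ v ∈ N, x ^ 2 ^ (e - 1) * v * (x ^ 2 ^ (e - 1))⁻¹ * v⁻¹ ∈ h.zsub) :
    ∃ a, a + 2 ≤ e ∧ x ^ 2 ^ a ∈ stabU σ N U ∧ q + 1 = 2 ^ (e - a) ∧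
      ∃ R : Subgroup L, h.zsub ≤ R ∧
        (∀ v ∈ N, x ^ 2 ^ a * v * (x ^ 2 ^ a)⁻¹ * v⁻¹ ∈ R) ∧
        Nat.card ((R.subgroupOf N).map (QuotientGroup.mk' (h.zsub.subgroupOf N))) = q ^ 2 ∧
        ∃ r ∈ R, ∃ r' ∈ R, r ∈ N ∧ r' ∈ N ∧
          x ^ 2 ^ (e - 1) * r * (x ^ 2 ^ (e - 1))⁻¹ * r ∈ h.zsub ∧
          x ^ 2 ^ (e - 1) * r' * (x ^ 2 ^ (e - 1))⁻¹ * r' ∈ h.zsub ∧
          ∃ ω : k, ω ≠ 1 ∧ ∀ w ∈ U, σ r (σ r' w) = ω • σ r' (σ r w) := by
  classical
  haveI : Fact (Nat.Prime 2) := ⟨Nat.prime_two⟩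
  obtain ⟨m, hm⟩ := hNq.exists_card_eq
  have hN : (Nat.card N : k) ≠ 0 := by
    rw [hm]
    exact nat_ne_zero_of_coprime (p := 2) (((Nat.coprime_primes hqp.out Nat.prime_two).mpr hq2).pow_left _)
  have hT : ∀ {W : Submodule k V}, IsCst σ N W → Tw σ N W := fun hW => hW.tw_of_central hcent
  obtain ⟨w₀, hw₀, hw₀ne⟩ := (Submodule.ne_bot_iff U).mp h.ne
  haveI : Nontrivial V := ⟨w₀, 0, hw₀ne⟩
  haveI : CharP (Module.End k V) 2 := charP_end 2 V
  set z := x ^ 2 ^ (e - 1) with hz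
  have hzS : z ∈ stabU σ N U := mem_fixAll.mp (involution_mem_fixAll hN he hxe hdeg) U h
  have hex : ∃ i, x ^ 2 ^ i ∈ stabU σ N U := ⟨e - 1, hzS⟩
  set a := Nat.find hex with ha
  have hga : x ^ 2 ^ a ∈ stabU σ N U := Nat.find_spec hex
  have hae : a ≤ e - 1 := Nat.find_min' hex hzS
  set g := x ^ 2 ^ a with hg
  set n := e - a with hn
  have hgP : g ^ 2 ^ n = 1 := by rw [hg, ← pow_mul, ← pow_add, hn, Nat.add_sub_cancel' (by omega), hxe]
  have hgz : g ^ 2 ^ (n - 1) = z := by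
    rw [hg, hz, ← pow_mul, ← pow_add]; congr 2; omega
  -- an invariant copy
  obtain ⟨U', -, h', hchi', hgU'⟩ := exists_fixed (p := 2) h hN (hT h) (le_top (a := U)) g
    (fun _ _ => trivial) hgP (fun b hb => hNn.conj_mem b hb g) hga
  have hT' := hT h'
  have hzsub : h'.zsub = h.zsub := by
    ext b
    rw [h'.mem_zsub, h.mem_zsub]
    refine and_congr_right fun hb => ?_
    rw [h'.scal_iff hN hT' hb, h.scal_iff hN (hT h) hb, hchi' b hb]
  have hgS' : g ∈ stabU σ N U' := fun b hb => by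
    rw [hchi' _ (hNn.conj_mem b hb g), hchi' b hb]; exact hga b hb
  have hzS' : z ∈ stabU σ N U' := hgz ▸ Subgroup.pow_mem _ hgS' _
  -- no full block on the copy
  have hsum : ∀ w ∈ U', ((σ g - 1) ^ ((2 : ℕ) ^ n - 1)) w = 0 := by
    intro w₁ hw₁
    have hinvk : ∀ i : ℕ, ∀ w ∈ U', ((σ g - 1) ^ i) w ∈ U' := by
      intro i
      induction i with
      | zero => exact fun w hw => hw
      | succ i ih =>
        intro w hw
        rw [pow_succ', Module.End.mul_apply, LinearMap.sub_apply, Module.End.one_apply]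
        exact U'.sub_mem (hgU' _ (ih w hw)) (ih w hw)
    refine sum_translates h' hN x (2 ^ a) (fun i hi hiP hmem => ?_) (Nat.two_pow_pos a)
      (hinvk _ w₁ hw₁) ?_
    · have hmem' : x ^ i ∈ stabU σ N U := fun b hb => by
        rw [← hchi' _ (hNn.conj_mem b hb _), ← hchi' b hb]; exact hmem b hb
      have ha0 : a ≠ 0 := by intro e0; rw [e0, pow_zero] at hiP; omega
      exact Nat.find_min hex (show a - 1 < a by omega)
        (orderOf_dvd_two_pow hxe (by omega) (fun hdvd => absurd (Nat.le_of_dvd hi hdvd) (by omega)) hmem')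
    · rw [← LinearMap.sum_apply, ← sub_one_pow_eq_geom, hg, map_pow,
        ← sub_one_pow_prime_pow, ← pow_mul, ← Module.End.mul_apply, ← pow_add]
      have : 2 ^ a - 1 + 2 ^ a * (2 ^ n - 1) = 2 ^ e - 1 := by
        rw [Nat.mul_sub, mul_one, ← pow_add, show a + n = e by omega]
        have h1 : 2 ^ a ≤ 2 ^ e := Nat.pow_le_pow_right (by norm_num) (by omega)
        have h2 := Nat.two_pow_pos a
        omega
      rw [this, hdeg, LinearMap.zero_apply]
  have hn2 : 2 ≤ n := by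
    by_contra hlt
    have hn1 : n = 1 := by omega
    rw [hn1, show (2 : ℕ) ^ 1 - 1 = 1 from rfl] at hsum
    refine hmove fun v hv => hzsub ▸ ⟨N.mul_mem (hNn.conj_mem v hv z) (N.inv_mem hv), 1, fun w hw => ?_⟩
    have hfix : ∀ w ∈ U', σ z w = w := fun w hw => by
      have := hsum w hw
      rw [pow_one, LinearMap.sub_apply, Module.End.one_apply, sub_eq_zero] at this
      rwa [← hgz, hn1, Nat.sub_self, pow_zero, pow_one]
    have hfix' : ∀ w ∈ U', σ z⁻¹ w = w := fun w hw => by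
      conv_lhs => rw [← hfix w hw]
      rw [sigma_inv_apply]
    have hw' := h'.inv _ (N.inv_mem hv) w hw
    rw [one_smul, sigma_mul_apply, sigma_mul_apply, sigma_mul_apply, hfix' _ hw', sigma_apply_inv,
      hfix w hw]
  -- the two eigen subgroups of the involution
  set Q := N ⧸ h'.zsub.subgroupOf N
  letI : CommGroup Q := { (inferInstance : Group Q) with mul_comm := h'.mul_comm_quot hT' }
  set f : MulAut Q := h'.qact hN hT' ⟨z, hzS'⟩ with hf
  have hf2 : ∀ y, f (f y) = y := by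
    intro y
    rw [hf, ← MulAut.mul_apply, ← map_mul]
    have : (⟨z, hzS'⟩ * ⟨z, hzS'⟩ : stabU σ N U') = 1 := Subtype.ext (by
      show z * z = 1
      rw [hz, ← pow_add, ← two_mul, ← pow_succ', Nat.sub_add_cancel he, hxe])
    rw [this, map_one, MulAut.one_apply]
  let mk : N →* Q := QuotientGroup.mk' _
  let Rq : Subgroup Q := (f.toMonoidHom * MonoidHom.id Q).ker
  let Cq : Subgroup Q := (f.toMonoidHom * (MonoidHom.id Q)⁻¹).ker
  have hRq : ∀ {y}, y ∈ Rq ↔ f y = y⁻¹ := fun {y} => by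
    show f y * y = 1 ↔ _
    rw [mul_eq_one_iff_eq_inv]
  have hCq : ∀ {y}, y ∈ Cq ↔ f y = y := fun {y} => by
    show f y * y⁻¹ = 1 ↔ _
    rw [mul_inv_eq_one]
  set R : Subgroup L := (Rq.comap mk).map N.subtype with hR
  set C : Subgroup L := (Cq.comap mk).map N.subtype with hC
  have hRN : R ≤ N := Subgroup.map_subtype_le _
  have hCN : C ≤ N := Subgroup.map_subtype_le _
  have hmemR : ∀ {b : L} (hb : b ∈ N), b ∈ R ↔ f (mk ⟨b, hb⟩) = (mk ⟨b, hb⟩)⁻¹ := by
    intro b hb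
    rw [hR, ← hRq]
    constructor
    · rintro ⟨b', hb', e'⟩
      rwa [show (⟨b, hb⟩ : N) = b' from Subtype.ext e'.symm]
    · exact fun h1 => ⟨⟨b, hb⟩, h1, rfl⟩
  have hmemC : ∀ {b : L} (hb : b ∈ N), b ∈ C ↔ f (mk ⟨b, hb⟩) = mk ⟨b, hb⟩ := by
    intro b hb
    rw [hC, ← hCq]
    constructor
    · rintro ⟨b', hb', e'⟩
      rwa [show (⟨b, hb⟩ : N) = b' from Subtype.ext e'.symm]
    · exact fun h1 => ⟨⟨b, hb⟩, h1, rfl⟩
  have hzR : ∀ {r : L}, r ∈ R → z * r * z⁻¹ * r ∈ h'.zsub := by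
    intro r hr
    have h1 := (hmemR (hRN hr)).mp hr
    rw [← mul_eq_one_iff_eq_inv] at h1
    have h2 : mk (MulAut.conjNormal z ⟨r, hRN hr⟩ * ⟨r, hRN hr⟩) = 1 := by
      rw [map_mul]; exact h1
    have h3 := Subgroup.mem_subgroupOf.mp ((QuotientGroup.eq_one_iff _).mp h2)
    rwa [Subgroup.coe_mul, MulAut.conjNormal_apply] at h3
  have hzC : ∀ {c : L}, c ∈ C → z * c * z⁻¹ * c⁻¹ ∈ h'.zsub := by
    intro c hc
    have h1 := (hmemC (hCN hc)).mp hc
    rw [← mul_inv_eq_one] at h1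
    have h2 : mk (MulAut.conjNormal z ⟨c, hCN hc⟩ * (⟨c, hCN hc⟩)⁻¹) = 1 := by
      rw [map_mul, map_inv]; exact h1
    have h3 := Subgroup.mem_subgroupOf.mp ((QuotientGroup.eq_one_iff _).mp h2)
    rwa [Subgroup.coe_mul, Subgroup.coe_inv, MulAut.conjNormal_apply] at h3
  have hzR' : h'.zsub ≤ R := fun b hb => by
    rw [hmemR hb.1, show mk ⟨b, hb.1⟩ = 1 from (QuotientGroup.eq_one_iff _).mpr
      (Subgroup.mem_subgroupOf.mpr hb), map_one, inv_one]
  have hQodd : ∀ y : Q, y ^ 2 = 1 → y = 1 := by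
    intro y hy
    obtain ⟨j, hj⟩ := hNq.to_quotient (h'.zsub.subgroupOf N) y
    exact orderOf_eq_one_iff.mp (Nat.eq_one_of_dvd_coprimes
      (((Nat.coprime_primes Nat.prime_two hqp.out).mpr (Ne.symm hq2)).pow_right j)
      (orderOf_dvd_of_pow_eq_one hy) (orderOf_dvd_of_pow_eq_one hj))
  have hdec : ∀ {b : L}, b ∈ N → ∃ r ∈ R, ∃ c ∈ C, b = r * c := by
    intro b hb
    obtain ⟨j, hj⟩ := hNq.to_quotient (h'.zsub.subgroupOf N) (mk ⟨b, hb⟩)
    have hodd : Odd (q ^ j) := (hqp.out.odd_of_ne_two hq2).pow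
    obtain ⟨i, hi⟩ := hodd
    set y := mk ⟨b, hb⟩ ^ (i + 1) with hy
    have hy2 : mk ⟨b, hb⟩ = y * y := by
      rw [hy, ← pow_add, show i + 1 + (i + 1) = q ^ j + 1 by omega, pow_succ, hj, one_mul]
    obtain ⟨r, hr⟩ := QuotientGroup.mk'_surjective (h'.zsub.subgroupOf N) (y * (f y)⁻¹)
    have hrR : (r : L) ∈ R := (hmemR r.2).mpr (by
      rw [show mk ⟨r, r.2⟩ = y * (f y)⁻¹ from hr, map_mul, map_inv, hf2, mul_inv_rev, inv_inv])
    refine ⟨r, hrR, (r : L)⁻¹ * b, (hmemC (N.mul_mem (N.inv_mem r.2) hb)).mpr ?_, by group⟩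
    rw [show mk ⟨(r : L)⁻¹ * b, _⟩ = (mk r)⁻¹ * mk ⟨b, hb⟩ from map_mul mk r⁻¹ ⟨b, hb⟩ |>.trans (by
      rw [map_inv]), show mk r = y * (f y)⁻¹ from hr, hy2]
    rw [show (y * (f y)⁻¹)⁻¹ * (y * y) = f y * y by
      rw [mul_inv_rev, inv_inv]; rw [mul_assoc, inv_mul_cancel_left], map_mul, hf2, mul_comm]
  have hRC : ∀ r ∈ R, ∀ c ∈ C, ∀ w ∈ U', σ r (σ c w) = σ c (σ r w) := by
    intro r hr c hc
    obtain ⟨ω, hω⟩ := hT' r (hRN hr) c (hCN hc)
    have hsc : ∀ w ∈ U', σ (r * c * r⁻¹ * c⁻¹) w = ω • w := by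
      intro w hw
      rw [sigma_mul_apply, sigma_mul_apply, sigma_mul_apply,
        hω _ (h'.inv _ (N.inv_mem (hRN hr)) _ (h'.inv _ (N.inv_mem (hCN hc)) w hw)),
        sigma_apply_inv, sigma_apply_inv]
    have hsc' := h'.conj_scal hN hT' hzS' (h'.comm_mem_zsub hT' (hRN hr) (hCN hc)).1 hsc
    obtain ⟨s₁, hs₁⟩ := (hzR hr).2
    obtain ⟨s₂, hs₂⟩ := (hzC hc).2
    have er : ∀ w ∈ U', σ (z * r * z⁻¹) w = s₁ • σ r⁻¹ w := fun w hw => by
      rw [← hs₁ _ (h'.inv _ (N.inv_mem (hRN hr)) w hw), ← sigma_mul_apply]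
      congr 2; group
    have ec : ∀ w ∈ U', σ (z * c * z⁻¹) w = s₂ • σ c w := fun w hw => by
      rw [← hs₂ _ (h'.inv _ (hCN hc) w hw), ← sigma_mul_apply]
      congr 2; group
    have hs₁0 := Scal.ne_zero h'.ne hs₁
    have hs₂0 := Scal.ne_zero h'.ne hs₂
    have h1 : ∀ w ∈ U', σ r⁻¹ (σ c w) = ω • σ c (σ r⁻¹ w) := by
      intro w hw
      have hcw := h'.inv _ (hCN hc) w hw
      have hrw := h'.inv _ (N.inv_mem (hRN hr)) w hw
      have e2 := hsc' _ (h'.inv _ (hNn.conj_mem c (hCN hc) z) _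
        (h'.inv _ (hNn.conj_mem r (hRN hr) z) w hw))
      rw [← sigma_mul_apply, ← sigma_mul_apply,
        show z * (r * c * r⁻¹ * c⁻¹) * z⁻¹ * (z * c * z⁻¹) * (z * r * z⁻¹) =
          (z * r * z⁻¹) * (z * c * z⁻¹) by group, sigma_mul_apply (z * r * z⁻¹) (z * c * z⁻¹),
        ec w hw, er _ (U'.smul_mem _ hcw), er w hw, ec _ (U'.smul_mem _ hrw), map_smul, map_smul,
        smul_comm ω, smul_comm ω, smul_comm s₁ s₂] at e2
      exact smul_right_injective _ hs₁0 (smul_right_injective _ hs₂0 e2)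
    obtain ⟨w, hw, hw0⟩ := (Submodule.ne_bot_iff U').mp h'.ne
    have hrc : σ r (σ c w) ∈ U' := h'.inv _ (hRN hr) _ (h'.inv _ (hCN hc) w hw)
    have hrw := h'.inv _ (hRN hr) w hw
    -- `ω² = 1`
    have h2 := h1 _ hrw
    rw [sigma_inv_apply] at h2
    have h3 := congrArg (σ r) h2
    rw [sigma_apply_inv, map_smul, hω w hw, smul_smul] at h3
    have hne : σ c (σ r w) ≠ 0 := fun e0 => hw0 (sigma_injective r (sigma_injective c (by
      rw [e0, map_zero, map_zero])))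
    have hω2 : ω * ω = 1 := by
      by_contra hne'
      have : (1 - ω * ω) • σ c (σ r w) = 0 := by rw [sub_smul, one_smul, ← h3, sub_self]
      exact hne ((smul_eq_zero.mp this).resolve_left (sub_ne_zero.mpr (Ne.symm hne')))
    have hω1 : ω = 1 := by
      have hsq : (ω - 1) ^ 2 = 0 := by rw [sub_pow_char, one_pow, sq, hω2, sub_self]
      exact sub_eq_zero.mp (pow_eq_zero_iff (two_ne_zero) |>.mp hsq)
    intro w' hw'
    rw [hω w' hw', hω1, one_smul]
  -- scalars on a constituent of `R`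
  have hscal : ∀ {W : Submodule k V}, W ≤ U' → W ≠ ⊥ → (∀ r ∈ R, ∀ w ∈ W, σ r w ∈ W) →
      ∀ r ∈ R, Scal σ W r → Scal σ U' r := by
    intro W hWU hW hWR r hr hs
    by_contra hns
    obtain ⟨b, hb, ω, hω1, hω⟩ := h'.exists_twist hT' (hRN hr) hns
    obtain ⟨r₁, hr₁, c₁, hc₁, rfl⟩ := hdec hb
    obtain ⟨ω', hω'⟩ := hT' r (hRN hr) r₁ (hRN hr₁)
    have hωω : ω' = ω := by
      obtain ⟨w, hw, hw0⟩ := (Submodule.ne_bot_iff U').mp h'.ne
      have h1 := hω w hw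
      rw [sigma_mul_apply, sigma_mul_apply, hω' _ (h'.inv _ (hCN hc₁) w hw), hRC r hr c₁ hc₁ w hw] at h1
      refine smul_left_injective k (fun e0 => ?_) h1
      exact hw0 (sigma_injective r (sigma_injective c₁ (sigma_injective r₁ (by
        simp only [map_zero]; exact e0))))
    obtain ⟨c, hc⟩ := hs
    obtain ⟨w, hw, hw0⟩ := (Submodule.ne_bot_iff W).mp hW
    have h2 := hω' w (hWU hw)
    rw [hc _ (hWR r₁ hr₁ w hw), hc w hw, map_smul, hωω] at h2
    refine hω1 ?_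
    have hc0 := Scal.ne_zero hW hc
    have hne : c • σ r₁ w ≠ 0 := fun e0 => hw0 (sigma_injective r₁ (by
      rw [(smul_eq_zero.mp e0).resolve_left hc0, map_zero]))
    exact (smul_left_injective k hne (h2.symm.trans (one_smul k _).symm))
  -- conjugation by `g`
  have hgz' : ∀ b : L, g * (z * b * z⁻¹) * g⁻¹ = z * (g * b * g⁻¹) * z⁻¹ := by
    intro b
    have hcm : g * z = z * g := by rw [← hgz, ← pow_succ', ← pow_succ]
    calc g * (z * b * z⁻¹) * g⁻¹ = (g * z) * b * (g * z)⁻¹ := by group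
      _ = _ := by rw [hcm]; group
  have hgR : ∀ r ∈ R, g * r * g⁻¹ ∈ R := by
    intro r hr
    have hm := hNn.conj_mem r (hRN hr) g
    rw [hmemR hm, ← mul_eq_one_iff_eq_inv]
    have h1 := h'.conj_zsub hN hT' hgS' (hzR hr)
    have h2 : mk (MulAut.conjNormal z ⟨g * r * g⁻¹, hm⟩ * ⟨g * r * g⁻¹, hm⟩) = 1 := by
      refine (QuotientGroup.eq_one_iff _).mpr (Subgroup.mem_subgroupOf.mpr ?_)
      rw [Subgroup.coe_mul, MulAut.conjNormal_apply]
      rw [show g * (z * r * z⁻¹ * r) * g⁻¹ = g * (z * r * z⁻¹) * g⁻¹ * (g * r * g⁻¹) by group, hgz'] at h1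
      exact h1
    rwa [map_mul] at h2
  have hgC : ∀ c ∈ C, g * c * g⁻¹ ∈ C := by
    intro c hc
    have hm := hNn.conj_mem c (hCN hc) g
    rw [hmemC hm, ← mul_inv_eq_one]
    have h1 := h'.conj_zsub hN hT' hgS' (hzC hc)
    have h2 : mk (MulAut.conjNormal z ⟨g * c * g⁻¹, hm⟩ * (⟨g * c * g⁻¹, hm⟩)⁻¹) = 1 := by
      refine (QuotientGroup.eq_one_iff _).mpr (Subgroup.mem_subgroupOf.mpr ?_)
      rw [Subgroup.coe_mul, Subgroup.coe_inv, MulAut.conjNormal_apply]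
      rw [show g * (z * c * z⁻¹ * c⁻¹) * g⁻¹ = g * (z * c * z⁻¹) * g⁻¹ * (g * c * g⁻¹)⁻¹ by group,
        hgz'] at h1
      exact h1
    rwa [map_mul, map_inv] at h2
  haveI : Finite R := inferInstance
  have hgpow : ∀ i : ℕ, ∀ r ∈ R, g ^ i * r * (g ^ i)⁻¹ ∈ R := by
    intro i
    induction i with
    | zero => intro r hr; simpa using hr
    | succ i ih =>
      intro r hr
      rw [pow_succ' g, show g * g ^ i * r * (g * g ^ i)⁻¹ = g * (g ^ i * r * (g ^ i)⁻¹) * g⁻¹ by group]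
      exact hgR _ (ih r hr)
  have hgR' : ∀ r ∈ R, g⁻¹ * r * g ∈ R := by
    intro r hr
    have := hgpow (2 ^ n - 1) r hr
    rwa [show g ^ (2 ^ n - 1) = g⁻¹ from (inv_eq_of_mul_eq_one_right
      (by rw [← pow_succ', Nat.sub_add_cancel (Nat.two_pow_pos n), hgP])).symm, inv_inv] at this
  -- a constituent of `R`
  obtain ⟨W₀, hW₀le, hW₀⟩ := exists_isCst_le R h'.ne (fun r hr w hw => h'.inv r (hRN hr) w hw)
  obtain ⟨jR, hjR⟩ := (hNq.to_le hRN).exists_card_eq
  have hRcard : (Nat.card R : k) ≠ 0 := by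
    rw [hjR]
    exact nat_ne_zero_of_coprime (p := 2) (((Nat.coprime_primes hqp.out Nat.prime_two).mpr hq2).pow_left _)
  have hTR : ∀ {W : Submodule k V}, W ≤ U' → Tw σ R W := fun hW => hT'.mono hRN hW
  have hchiR : ∀ r ∈ R, chi σ W₀ (g * r * g⁻¹) = chi σ W₀ r := by
    intro r hr
    by_cases hs : Scal σ W₀ r
    · obtain ⟨c, hc⟩ := hscal hW₀le hW₀.ne hW₀.inv r hr hs
      have hc' := h'.conj_scal hN hT' hgS' (hRN hr) hc
      rw [chi_of_scal (fun w hw => hc w (hW₀le hw)), chi_of_scal (fun w hw => hc' w (hW₀le hw))]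
    · rw [hW₀.chi_eq_zero (hTR hW₀le) hr hs, hW₀.chi_eq_zero (hTR hW₀le) (hgR r hr)]
      intro hs'
      obtain ⟨c, hc⟩ := hscal hW₀le hW₀.ne hW₀.inv _ (hgR r hr) hs'
      have hc' := h'.conj_scal hN hT' (Subgroup.inv_mem _ hgS') (hNn.conj_mem r (hRN hr) g) hc
      rw [show g⁻¹ * (g * r * g⁻¹) * g⁻¹⁻¹ = r by group] at hc'
      exact hs ⟨c, fun w hw => hc' w (hW₀le hw)⟩
  obtain ⟨U₀, hU₀le, hU₀, -, hgU₀⟩ := exists_fixed (p := 2) hW₀ hRcard (hTR hW₀le) hW₀le g hgU' hgP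
    hgR hchiR
  have hscal₀ : ∀ r ∈ R, Scal σ U₀ r → Scal σ U' r := hscal hU₀le hU₀.ne hU₀.inv
  letI := Fintype.ofFinite R
  haveI : Nontrivial U₀ := Submodule.nontrivial_iff_ne_bot.mpr hU₀.ne
  haveI : CharP (Module.End k U₀) 2 := charP_end 2 U₀
  let τ : MulAut R := MulEquiv.ofBijective
    (MonoidHom.mk' (fun r : R => (⟨g * r * g⁻¹, hgR r r.2⟩ : R)) fun r r' => Subtype.ext (by
      show g * ((r : L) * r') * g⁻¹ = g * r * g⁻¹ * (g * r' * g⁻¹)
      group))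
    (Finite.injective_iff_bijective.mp fun r r' e => Subtype.ext (by
      have := congrArg Subtype.val e
      exact (MulAut.conj g).injective this))
  have hτ : ∀ (i : ℕ) (r : R), (((τ ^ i) r : R) : L) = g ^ i * r * (g ^ i)⁻¹ := by
    intro i
    induction i with
    | zero => intro r; simp
    | succ i ih =>
      intro r
      rw [pow_succ', MulAut.mul_apply]
      show g * (((τ ^ i) r : R) : L) * g⁻¹ = _
      rw [ih, pow_succ' g]
      group
  set u₀ : Module.End k U₀ := (σ g).restrict hgU₀ with hu₀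
  have hu₀pow : ∀ (i : ℕ) (w : U₀), (((u₀ ^ i) w : U₀) : V) = σ (g ^ i) w := by
    intro i
    induction i with
    | zero => intro w; simp
    | succ i ih =>
      intro w
      rw [pow_succ', Module.End.mul_apply, pow_succ' g, sigma_mul_apply, ← ih]
      rfl
  have hu₀sub : ∀ (i : ℕ) (w : U₀), ((((u₀ - 1) ^ i) w : U₀) : V) = ((σ g - 1) ^ i) w := by
    intro i
    induction i with
    | zero => intro w; rfl
    | succ i ih =>
      intro w
      rw [pow_succ', pow_succ', Module.End.mul_apply, Module.End.mul_apply, ← ih]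
      rfl
  have hsP : (u₀ - 1) ^ (2 ^ n - 1) = 0 := LinearMap.ext fun w => Subtype.ext (by
    rw [hu₀sub]; exact hsum _ (hU₀le w.2))
  have hexs : ∃ s, (u₀ - 1) ^ s = 0 := ⟨_, hsP⟩
  set s := Nat.find hexs
  have hsle : s ≤ 2 ^ n - 1 := Nat.find_min' hexs hsP
  have hs1 : 1 ≤ s := by
    rcases Nat.eq_zero_or_pos s with e0 | e0
    · have h0 := Nat.find_spec hexs
      rw [show Nat.find hexs = 0 from e0, pow_zero] at h0
      exact absurd h0 one_ne_zero
    · exact e0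
  have hfree : ∀ (i : ℕ) (r : R), 0 < i → i < 2 ^ n → (τ ^ i) r = r →
      ∃ c : k, hU₀.rep r = c • LinearMap.id := by
    intro i r hi hiP hfix
    have h1 : g ^ i ∈ Subgroup.centralizer ({(r : L)} : Set L) := by
      rw [Subgroup.mem_centralizer_singleton_iff]
      exact mul_inv_eq_iff_eq_mul.mp ((hτ i r).symm.trans (congrArg Subtype.val hfix))
    have h2 := orderOf_dvd_two_pow hgP le_rfl
      (fun hdvd => absurd (Nat.le_of_dvd hi hdvd) (by omega)) h1
    rw [hgz, Subgroup.mem_centralizer_singleton_iff] at h2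
    have hRi := (hmemR (hRN r.2)).mp r.2
    have hfix' : f (mk ⟨r, hRN r.2⟩) = mk ⟨r, hRN r.2⟩ := by
      show h'.qact hN hT' ⟨z, hzS'⟩ (QuotientGroup.mk _) = _
      rw [h'.qact_apply]
      refine congrArg mk (Subtype.ext ?_)
      rw [MulAut.conjNormal_apply]
      exact mul_inv_eq_iff_eq_mul.mpr h2
    have h3 := hQodd _ (by rw [sq, ← mul_eq_one_iff_eq_inv.mpr (hfix'.symm.trans hRi)])
    obtain ⟨-, c, hc⟩ := Subgroup.mem_subgroupOf.mp ((QuotientGroup.eq_one_iff _).mp h3)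
    exact ⟨c, LinearMap.ext fun w => Subtype.ext (hc w (hU₀le w.2))⟩
  have hrel : ∀ r, u₀ * hU₀.rep r = hU₀.rep (τ r) * u₀ := fun r => LinearMap.ext fun w => Subtype.ext (by
    show σ g (σ (r : L) (w : V)) = σ (g * r * g⁻¹) (σ g (w : V))
    rw [← sigma_mul_apply, ← sigma_mul_apply]
    congr 2
    group)
  have hb := bound hU₀.isIrr (card_ne_zero hRcard) τ u₀ n
    (LinearMap.ext fun w => Subtype.ext (by rw [hu₀pow, hgP, map_one]; rfl))
    (MulEquiv.ext fun r => Subtype.ext (by rw [hτ, hgP]; simp)) hrel hfree s (Nat.find_spec hexs)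
    (Nat.find_min hexs (show s - 1 < s by omega))
  -- a non-scalar element of `R`
  have hRns : ∃ r ∈ R, ¬ Scal σ U' r := by
    by_contra hno
    push Not at hno
    refine hmove fun v hv => hzsub ▸ ?_
    obtain ⟨r, hr, c, hc, rfl⟩ := hdec hv
    have hrz : r ∈ h'.zsub := ⟨hRN hr, hno r hr⟩
    have h1 := h'.zsub.mul_mem (h'.zsub.mul_mem (h'.conj_zsub hN hT' hzS' hrz) (hzC hc))
      (h'.zsub.inv_mem hrz)
    rwa [show z * r * z⁻¹ * (z * c * z⁻¹ * c⁻¹) * r⁻¹ = z * (r * c) * z⁻¹ * (r * c)⁻¹ by group] at h1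
  have hd1 : finrank k U₀ ≠ 1 := by
    intro hd
    obtain ⟨r, hr, hns⟩ := hRns
    obtain ⟨w, hw, hspan⟩ := finrank_eq_one_iff'.mp hd
    obtain ⟨c, hc⟩ := hspan (hU₀.rep ⟨r, hr⟩ w)
    refine hns (hscal₀ r hr ⟨c, fun v hv => ?_⟩)
    obtain ⟨d, hd'⟩ := hspan ⟨v, hv⟩
    have : hU₀.rep ⟨r, hr⟩ ⟨v, hv⟩ = c • ⟨v, hv⟩ := by rw [← hd', map_smul, ← hc, smul_comm]
    exact congrArg Subtype.val this
  obtain ⟨hlo, htop⟩ := hb.resolve_left hd1
  have hs : s = 2 ^ n - 1 := by omega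
  have hd : finrank k U₀ = 2 ^ n - 1 := (htop (by rw [hs]; exact Nat.sub_add_cancel (Nat.two_pow_pos n))).trans hs
  obtain ⟨j, hj⟩ := irr_pgroup_finrank (q := q) _ R rfl (hNq.to_le hRN) hU₀.rep hU₀.isIrr
  have h4 : 4 ≤ 2 ^ n := Nat.pow_le_pow_right (n := 2) (by norm_num) hn2
  have hj1 : j = 1 := exponent_eq_one hqp.out hq2 hn2
    (by rw [← hj, hd]; exact Nat.sub_add_cancel (Nat.two_pow_pos n))
  rw [hj1, pow_one] at hj
  have hq : q + 1 = 2 ^ n := by rw [← hj, hd]; exact Nat.sub_add_cancel (Nat.two_pow_pos n)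
  -- `g` centralises `C` modulo scalars
  have hne₀ : ∃ w ∈ U₀, ((σ g - 1) ^ ((2 : ℕ) ^ n - 2)) w ≠ 0 := by
    by_contra hno
    push Not at hno
    refine Nat.find_min hexs (show 2 ^ n - 2 < s by omega) (LinearMap.ext fun w => Subtype.ext ?_)
    rw [hu₀sub]
    exact hno _ w.2
  have hcom : ∀ c ∈ C, ∀ w ∈ U₀, σ g (σ c w) = σ c (σ g w) := by
    intro c hc w hw
    exact intw_commute (p := 2) hU₀ g (by omega) hgP hgR' hgU₀ hgU' hsum hne₀ (σ c ∘ₗ U₀.subtype)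
      (fun r v => (hRC r r.2 c hc v (hU₀le v.2)).symm)
      (fun v => h'.inv c (hCN hc) _ (hU₀le v.2)) ⟨w, hw⟩
  have hcomU : ∀ c ∈ C, ∀ w ∈ U', σ g (σ c w) = σ c (σ g w) := by
    let Wc : Submodule k V :=
      { carrier := {w | w ∈ U' ∧ ∀ c ∈ C, σ g (σ c w) = σ c (σ g w)}
        zero_mem' := ⟨U'.zero_mem, fun c _ => by simp⟩
        add_mem' := fun {v w} hv hw => ⟨U'.add_mem hv.1 hw.1, fun c hc => by
          simp only [map_add]; rw [hv.2 c hc, hw.2 c hc]⟩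
        smul_mem' := fun t {w} hw => ⟨U'.smul_mem t hw.1, fun c hc => by
          simp only [map_smul]; rw [hw.2 c hc]⟩ }
    let X : Submodule k V := ⨆ c : C, U₀.map (σ (c : L))
    have hXW : X ≤ Wc := by
      refine iSup_le fun c => ?_
      rintro _ ⟨w, hw, rfl⟩
      refine ⟨h'.inv _ (hCN c.2) _ (hU₀le hw), fun d hd => ?_⟩
      rw [← sigma_mul_apply d, hcom _ (C.mul_mem hd c.2) w hw, sigma_mul_apply, hcom _ c.2 w hw]
    have hXinv : ∀ v ∈ N, ∀ w ∈ X, σ v w ∈ X := by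
      intro v hv w hw
      obtain ⟨r, hr, c, hc, rfl⟩ := hdec hv
      have hle : X ≤ X.comap (σ (r * c)) := by
        refine iSup_le fun d => ?_
        rintro _ ⟨w, hw, rfl⟩
        show σ (r * c) (σ (d : L) w) ∈ X
        rw [sigma_mul_apply, ← sigma_mul_apply c, hRC r hr _ (C.mul_mem hc d.2) w (hU₀le hw)]
        exact Submodule.mem_iSup_of_mem ⟨_, C.mul_mem hc d.2⟩ ⟨_, hU₀.inv r hr w hw, rfl⟩
      exact hle hw
    have hXU : X ≤ U' := hXW.trans fun w hw => hw.1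
    have hXne : X ≠ ⊥ := by
      intro e0
      obtain ⟨w, hw, hw0⟩ := (Submodule.ne_bot_iff U₀).mp hU₀.ne
      have : σ ((1 : C) : L) w ∈ X := Submodule.mem_iSup_of_mem 1 ⟨w, hw, rfl⟩
      rw [e0, Submodule.mem_bot, Subgroup.coe_one, map_one] at this
      exact hw0 this
    intro c hc w hw
    rw [← (h'.min X hXU hXinv).resolve_left hXne] at hw
    exact (hXW hw).2 c hc
  refine ⟨a, by omega, hga, hq, R, hzsub ▸ hzR', fun v hv => ?_, ?_, ?_⟩
  · obtain ⟨r, hr, c, hc, rfl⟩ := hdec hv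
    have hcz : g * c * g⁻¹ * c⁻¹ ∈ h'.zsub := by
      refine ⟨N.mul_mem (hNn.conj_mem c (hCN hc) g) (N.inv_mem (hCN hc)), 1, fun w hw => ?_⟩
      have hw' := h'.inv _ (N.inv_mem (hCN hc)) w hw
      have hgi := inv_invariant hgP (Nat.two_pow_pos n) hgU' _ hw'
      rw [one_smul, sigma_mul_apply, sigma_mul_apply, sigma_mul_apply, hcomU c hc _ hgi,
        sigma_apply_inv, sigma_apply_inv]
    have hcz' : r * (g * c * g⁻¹ * c⁻¹) * r⁻¹ ∈ h'.zsub := by
      have hmem : (⟨_, N.mul_mem (hNn.conj_mem c (hCN hc) g) (N.inv_mem (hCN hc))⟩ : N) ∈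
        h'.zsub.subgroupOf N := Subgroup.mem_subgroupOf.mpr hcz
      exact Subgroup.mem_subgroupOf.mp
        ((inferInstance : (h'.zsub.subgroupOf N).Normal).conj_mem _ hmem ⟨r, hRN hr⟩)
    rw [show g * (r * c) * g⁻¹ * (r * c)⁻¹ =
      g * r * g⁻¹ * r⁻¹ * (r * (g * c * g⁻¹ * c⁻¹) * r⁻¹) by group]
    exact R.mul_mem (R.mul_mem (hgR r hr) (R.inv_mem hr)) (hzR' hcz')
  · have hcardR := hU₀.card_quotient hRcard (hTR hU₀le)
    rw [hj] at hcardR
    have hker : ((mk.comp (Subgroup.inclusion hRN)).ker : Subgroup R) = hU₀.zsub.subgroupOf R := by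
      ext r
      rw [MonoidHom.mem_ker, MonoidHom.comp_apply, QuotientGroup.mk'_apply, QuotientGroup.eq_one_iff,
        Subgroup.mem_subgroupOf, Subgroup.mem_subgroupOf]
      exact ⟨fun ⟨_, c, hc⟩ => ⟨r.2, c, fun w hw => hc w (hU₀le hw)⟩,
        fun ⟨_, hs⟩ => ⟨hRN r.2, hscal₀ r r.2 hs⟩⟩
    suffices hgoal : Nat.card ((R.subgroupOf N).map (QuotientGroup.mk' (h'.zsub.subgroupOf N))) = q ^ 2 by
      have key : ∀ (Z : Subgroup L), Z = h'.zsub → ∀ [(Z.subgroupOf N).Normal],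
          Nat.card ((R.subgroupOf N).map (QuotientGroup.mk' (Z.subgroupOf N))) = q ^ 2 := by
        rintro Z rfl
        exact hgoal
      exact key _ hzsub.symm
    rw [← hcardR, ← Nat.card_congr (QuotientGroup.quotientMulEquivOfEq hker).toEquiv,
      Nat.card_congr (QuotientGroup.quotientKerEquivRange (mk.comp (Subgroup.inclusion hRN))).toEquiv]
    congr 2
    rw [MonoidHom.range_comp, Subgroup.inclusion_range]
  · obtain ⟨r, hr, hns⟩ := hRns
    have hns' : ¬ Scal σ U₀ r := fun hs => hns (hscal₀ r hr hs)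
    obtain ⟨r', hr', ω, hω1, hω⟩ := hU₀.exists_twist (hTR hU₀le) hr hns'
    obtain ⟨ω', hω'⟩ := hT h r (hRN hr) r' (hRN hr')
    refine ⟨r, hr, r', hr', hRN hr, hRN hr', hzsub ▸ hzR hr, hzsub ▸ hzR hr', ω', ?_, hω'⟩
    intro e1
    -- the commutator is trivial on `U`, hence on `U'`
    have hcN : r * r' * r⁻¹ * r'⁻¹ ∈ N := (h.comm_mem_zsub (hT h) (hRN hr) (hRN hr')).1
    have hc1 : ∀ w ∈ U, σ (r * r' * r⁻¹ * r'⁻¹) w = (1 : k) • w := fun w hw => by
      rw [sigma_mul_apply, sigma_mul_apply, sigma_mul_apply,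
        hω' _ (h.inv _ (N.inv_mem (hRN hr)) _ (h.inv _ (N.inv_mem (hRN hr')) w hw)), e1,
        sigma_apply_inv, sigma_apply_inv]
    obtain ⟨c, hc⟩ := (h'.scal_iff hN hT' hcN).mpr (by
      rw [hchi' _ hcN, chi_of_scal hc1, one_mul]; exact h.finrank_ne_zero hN)
    obtain ⟨w, hw, hw0⟩ := (Submodule.ne_bot_iff U₀).mp hU₀.ne
    have h1 := hc _ (h'.inv _ (hRN hr') _ (h'.inv _ (hRN hr) w (hU₀le hw)))
    rw [← sigma_mul_apply r', ← sigma_mul_apply,
      show r * r' * r⁻¹ * r'⁻¹ * (r' * r) = r * r' by group, sigma_mul_apply, sigma_mul_apply,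
      hω w hw] at h1
    have hne : σ r' (σ r w) ≠ 0 := fun e0 => hw0 (sigma_injective r (sigma_injective r' (by
      rw [e0, map_zero, map_zero])))
    have hωc : ω = c := smul_left_injective k hne h1
    have hfc : (c : k) * (finrank k U' : k) = (finrank k U : k) := by
      rw [← chi_of_scal hc, hchi' _ hcN, chi_of_scal hc1, one_mul]
    have hfd : (finrank k U' : k) = (finrank k U : k) := by
      have h2 := hchi' 1 N.one_mem
      rwa [chi_of_scal (c := 1) (fun w _ => by rw [map_one, one_smul]; rfl),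
        chi_of_scal (c := 1) (fun w _ => by rw [map_one, one_smul]; rfl), one_mul, one_mul] at h2
    rw [hfd] at hfc
    exact hω1 (hωc.trans ((mul_eq_right₀ (h.finrank_ne_zero hN)).mp hfc))

end CfsgLib.Gross
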