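import Cfsg.Agent.Lib.Gross.Comm
import Cfsg.Agent.Lib.Gross.Plane
import Cfsg.Agent.Lib.FpfPQ.Reduce
import Cfsg.Agent.Lib.Elem.PrimaryParts
import Cfsg.Agent.Lib.Critical.Basic
import Cfsg.Agent.Lib.Critical.Detect
import Cfsg.Agent.Lib.Coprime.Action
import Cfsg.Agent.Lib.PSolvable.Core
import Cfsg.Agent.Lib.Signalizer.Setup

/-!
A soluble linear group in odd characteristic `q` with `q + 1` a power of two, with an element of order
`q + 1` moving a plane only: the derived subgroup of the odd subgroup moved by its involution lies in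
the `q`-core.
-/

set_option autoImplicit false
set_option linter.style.haveILetI false
set_option linter.unusedSectionVars false

open Module CfsgLib.HallHigman
open scoped commutatorElement

namespace CfsgLib.Gross

universe uL uV uk

/-- A commutator subgroup lies in a subgroup which the first factor normalises. -/
theorem commutator_le_of_conj {G : Type*} [Group G] {Y A S : Subgroup G} (hA : A ≤ S)
    (hY : ∀ y ∈ Y, ∀ s ∈ S, y * s * y⁻¹ ∈ S) : ⁅Y, A⁆ ≤ S :=
  Subgroup.commutator_le.mpr fun y hy a ha => by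
    rw [commutatorElement_def]
    exact S.mul_mem (hY y hy a (hA ha)) (S.inv_mem (hA ha))

/-- A critical subgroup of a core. -/
theorem exists_crit_sub {H : Type*} [Group H] [Finite H] (ℓ : ℕ) [Fact ℓ.Prime] :
    ∃ K : Subgroup H, K.Normal ∧ IsPGroup ℓ K ∧
      (∀ a ∈ K, ∀ b ∈ K, ∀ c ∈ K, a * b * a⁻¹ * b⁻¹ * c = c * (a * b * a⁻¹ * b⁻¹)) ∧
      (∀ a ∈ K, ∀ c ∈ K, a ^ ℓ * c = c * a ^ ℓ) ∧
      ∀ c : H, (orderOf c).Coprime ℓ → (∀ v ∈ K, c * v = v * c) →
        ∀ v ∈ Cfsg.pCore ℓ H, c * v = v * c := by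
  classical
  set P := Cfsg.pCore ℓ H with hP
  haveI hPn : P.Normal := Fitting.pCore_normal ℓ
  have hPp : IsPGroup ℓ P := Fitting.pCore_isPGroup ℓ
  obtain ⟨K, hKc, hKp, hKcomm, hKcent⟩ := Critical.exists_isCrit hPp
  haveI := hKc
  refine ⟨K.map P.subtype, ConjAct.normal_of_characteristic_of_normal, (hPp.to_subgroup K).map _, ?_, ?_, ?_⟩
  · rintro _ ⟨a, ha, rfl⟩ _ ⟨b, hb, rfl⟩ _ ⟨c, hc, rfl⟩
    have h1 := (Subgroup.mem_inf.mp
      (hKcomm (Subgroup.commutator_mem_commutator ha (Subgroup.mem_top b)))).2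
    have h2 := Subgroup.mem_centralizer_iff.mp h1 c hc
    rw [commutatorElement_def] at h2
    exact (congrArg Subtype.val h2).symm
  · rintro _ ⟨a, ha, rfl⟩ _ ⟨c, hc, rfl⟩
    have h2 := Subgroup.mem_centralizer_iff.mp (Subgroup.mem_inf.mp (hKp a ha)).2 c hc
    exact (congrArg Subtype.val h2).symm
  · intro c hc hcK v hv
    have h1 : MulAut.conjNormal (H := P) c = 1 := by
      refine Critical.mulAut_eq_one hPp K hKcent _ ?_ fun x hx => Subtype.ext ?_
      · exact hc.coprime_dvd_left (orderOf_map_dvd (MulAut.conjNormal (H := P)) c)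
      · rw [MulAut.conjNormal_apply]
        exact mul_inv_eq_of_eq_mul (hcK x ⟨x, hx, rfl⟩)
    have h2 := congrArg (fun φ : MulAut P => ((φ ⟨v, hv⟩ : P) : H)) h1
    simp only [MulAut.conjNormal_apply, MulAut.one_apply] at h2
    exact mul_inv_eq_iff_eq_mul.mp h2

section general

variable {k : Type uk} [Field k] [IsAlgClosed k] {V : Type uV} [AddCommGroup V] [Module k V]
  [FiniteDimensional k V]
variable {L : Type uL} [Group L] [Finite L] {σ : L →* Module.End k V} {N : Subgroup L} [hNn : N.Normal]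

/-- Elements fixing all characters centralise the scalars. -/
theorem commute_zsub (hinj : Function.Injective σ) (hN : (Nat.card N : k) ≠ 0)
    (hT : ∀ U, IsCst σ N U → Tw σ N U) {c v : L} (hc : c ∈ fixAll σ N) (hvN : v ∈ N)
    (hv : ∀ U, ∀ h : IsCst σ N U, v ∈ h.zsub) : c * v = v * c := by
  have h1 : σ (c * v * c⁻¹ * v⁻¹) = 1 := eq_one_of_trivial hN
    (N.mul_mem (hNn.conj_mem v hvN c) (N.inv_mem hvN))
    fun U h => h.comm_trivial hN (hT U h) (mem_fixAll.mp hc U h) (hv U h)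
  have h2 : c * v * c⁻¹ * v⁻¹ = 1 := hinj (by rw [h1, map_one])
  rwa [mul_inv_eq_one, mul_inv_eq_iff_eq_mul] at h2

/-- An element of coprime order acting trivially on all the quotients by scalars is central. -/
theorem centralizes_of_qker (hinj : Function.Injective σ) (hN : (Nat.card N : k) ≠ 0)
    (hT : ∀ U, IsCst σ N U → Tw σ N U) {c : L} (hcop : (orderOf c).Coprime (Nat.card N))
    (hc : ∀ U, ∀ h : IsCst σ N U, c ∈ h.qker hN (hT U h)) : ∀ v ∈ N, c * v = v * c := by
  intro v hv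
  have hcf : c ∈ fixAll σ N :=
    mem_fixAll.mpr fun U h => ((h.mem_qker hN (hT U h)).mp (hc U h)).1
  set d := c * v * c⁻¹ * v⁻¹ with hd
  have hdN : d ∈ N := N.mul_mem (hNn.conj_mem v hv c) (N.inv_mem hv)
  have hdc : c * d = d * c := commute_zsub hinj hN hT hcf hdN fun U h =>
    ((h.mem_qker hN (hT U h)).mp (hc U h)).2 v hv
  have h1 := Coprime.pow_conj_eq (a := c) (k := v) (d := d) (by rw [hd]; group) hdc (orderOf c)
  rw [pow_orderOf_eq_one, one_mul, inv_one, mul_one] at h1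
  have h2 : d = 1 := orderOf_eq_one_iff.mp (Nat.eq_one_of_dvd_coprimes hcop
    (orderOf_dvd_of_pow_eq_one (right_eq_mul.mp h1)) (N.orderOf_dvd_natCard hdN))
  rw [hd, mul_inv_eq_one, mul_inv_eq_iff_eq_mul] at h2
  exact h2

variable {u : L} {f : ℕ}

/-- The involution fixes every character. -/
theorem involution_mem_fixAll' (hN : (Nat.card N : k) ≠ 0) (hf : 2 ≤ f) (hu : u ^ 2 ^ f = 1)
    (hR : finrank k (LinearMap.range (σ u - 1)) ≤ 2) : u ^ 2 ^ (f - 1) ∈ fixAll σ N := by
  classical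
  haveI : Fact (Nat.Prime 2) := ⟨Nat.prime_two⟩
  refine mem_fixAll.mpr fun U h => ?_
  by_contra hz
  obtain ⟨w, hw, hw0⟩ := (Submodule.ne_bot_iff U).mp h.ne
  have h4 : 4 ≤ 2 ^ f := Nat.pow_le_pow_right (n := 2) (by norm_num) hf
  have hd : ∀ i, 0 < i → i < 4 → u ^ i ∉ stabU σ N U := fun i hi hi4 hmem =>
    hz (orderOf_dvd_two_pow hu le_rfl
      (fun hdvd => absurd (Nat.le_of_dvd hi hdvd) (by omega)) hmem)
  have key : ∀ i ∈ Finset.range 4, ∀ j ∈ Finset.range 4, i ≠ j →
      ∃ a ∈ N, chi σ (U.map (σ (u ^ i))) a ≠ chi σ (U.map (σ (u ^ j))) a := by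
    intro i hi j hj hij
    rw [Finset.mem_range] at hi hj
    by_contra hno
    push Not at hno
    have hmem : (u ^ i)⁻¹ * u ^ j ∈ stabU σ N U := by
      intro a ha
      have h1 := hno (u ^ j * a * (u ^ j)⁻¹) (hNn.conj_mem a ha _)
      rw [h.chi_translate _ (hNn.conj_mem a ha _), h.chi_translate _ (hNn.conj_mem a ha _),
        show (u ^ j)⁻¹ * (u ^ j * a * (u ^ j)⁻¹) * u ^ j = a by group] at h1
      rw [← h1]
      congr 1
      group
    rcases Nat.lt_or_gt_of_ne hij with hlt | hlt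
    · refine hd (j - i) (by omega) (by omega) ?_
      rwa [pow_sub u hlt.le, ← Commute.inv_left (Commute.pow_pow_self u i j)]
    · refine hd (i - j) (by omega) (by omega) ?_
      have := Subgroup.inv_mem _ hmem
      rwa [mul_inv_rev, inv_inv, Commute.inv_left (Commute.pow_pow_self u j i), ← pow_sub u hlt.le]
        at this
  let v : Fin 3 → V := fun i => (σ u - 1) (σ (u ^ (i : ℕ)) w)
  have hv : LinearIndependent k v := by
    rw [Fintype.linearIndependent_iff]
    intro c hc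
    rw [Fin.sum_univ_three] at hc
    simp only [v, Fin.val_zero, Fin.val_one, Fin.val_two, LinearMap.sub_apply, Module.End.one_apply,
      ← sigma_mul_apply, ← pow_succ'] at hc
    let co : ℕ → k := fun i => if i = 0 then -c 0 else if i = 1 then c 0 - c 1 else
      if i = 2 then c 1 - c 2 else c 2
    have h0 : ∑ i ∈ Finset.range 4, co i • σ (u ^ i) w = 0 := by
      rw [Finset.sum_range_succ, Finset.sum_range_succ, Finset.sum_range_succ, Finset.sum_range_one]
      simp only [co, one_ne_zero, OfNat.ofNat_ne_zero, OfNat.ofNat_ne_one, if_true, if_false,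
        show (3 : ℕ) ≠ 2 from by norm_num]
      rw [← hc]
      module
    have h1 := eq_zero_of_sum_zero hN (Finset.range 4) (fun i => U.map (σ (u ^ i)))
      (fun i _ => h.translate _) key (fun i => co i • σ (u ^ i) w)
      (fun i _ => Submodule.smul_mem _ _ ⟨w, hw, rfl⟩) h0
    have h2 : ∀ i, i < 4 → co i = 0 := fun i hi => by
      refine (smul_eq_zero.mp (h1 i (Finset.mem_range.mpr hi))).resolve_right fun e => hw0 ?_
      exact sigma_injective (σ := σ) (u ^ i) (by rw [e, map_zero])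
    have e0 : c 0 = 0 := neg_eq_zero.mp (by simpa [co] using h2 0 (by norm_num))
    have e1 : c 1 = 0 := by simpa [co, e0] using h2 1 (by norm_num)
    have e2 : c 2 = 0 := by simpa [co] using h2 3 (by norm_num)
    intro i
    fin_cases i <;> assumption
  have hle : Submodule.span k (Set.range v) ≤ LinearMap.range (σ u - 1) :=
    Submodule.span_le.mpr (by rintro _ ⟨i, rfl⟩; exact ⟨_, rfl⟩)
  have := Submodule.finrank_mono hle
  rw [finrank_span_eq_card hv, Fintype.card_fin] at this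
  omega

variable {U : Submodule k V} {ℓ : ℕ}

/-- The quotient by the scalars has exponent `ℓ`. -/
theorem IsCst.quot_exp (h : IsCst σ N U) (hT : Tw σ N U)
    (hpow : ∀ a ∈ N, ∀ c ∈ N, a ^ ℓ * c = c * a ^ ℓ) (x : N ⧸ h.zsub.subgroupOf N) : x ^ ℓ = 1 := by
  obtain ⟨⟨a, ha⟩, rfl⟩ := QuotientGroup.mk'_surjective (h.zsub.subgroupOf N) x
  rw [← map_pow]
  refine (QuotientGroup.eq_one_iff _).mpr (Subgroup.mem_subgroupOf.mpr ⟨N.pow_mem ha ℓ,
    h.scal_of_cm hT (N.pow_mem ha ℓ) fun v hv => ?_⟩)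
  exact h.cm_eq hT (N.pow_mem ha ℓ) hv fun w _ => by
    rw [one_smul, ← sigma_mul_apply, hpow a ha v hv, sigma_mul_apply]

/-- The degrees of the constituents on which the involution is not scalar. -/
theorem degree_cases [hℓ : Fact ℓ.Prime] (h : IsCst σ N U) (hN : (Nat.card N : k) ≠ 0)
    (hT : Tw σ N U) (hNℓ : IsPGroup ℓ N) (hpow : ℓ = 2 → ∀ a ∈ N, ∀ c ∈ N, a ^ ℓ * c = c * a ^ ℓ)
    (hf : 2 ≤ f) (hu : u ^ 2 ^ f = 1) (hR : finrank k (LinearMap.range (σ u - 1)) ≤ 2) :
    u ^ 2 ^ (f - 1) ∈ h.qker hN hT ∨ finrank k U = 2 ∨ finrank k U = 4 ∨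
      ((finrank k U = 3 ∨ finrank k U = 5) ∧ u ∈ stabU σ N U) := by
  classical
  have hzS : u ^ 2 ^ (f - 1) ∈ stabU σ N U :=
    mem_fixAll.mp (involution_mem_fixAll' hN hf hu hR) U h
  obtain ⟨j, hj⟩ := irr_pgroup_finrank (q := ℓ) _ N rfl hNℓ h.rep h.isIrr
  have htriv : finrank k U = 1 → u ^ 2 ^ (f - 1) ∈ h.qker hN hT := by
    intro h1
    rw [h.mem_qker hN hT]
    refine ⟨hzS, fun v hv => ⟨N.mul_mem (hNn.conj_mem v hv _) (N.inv_mem hv), ?_⟩⟩
    set g := u ^ 2 ^ (f - 1) * v * (u ^ 2 ^ (f - 1))⁻¹ * v⁻¹ with hg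
    have hgN : g ∈ N := N.mul_mem (hNn.conj_mem v hv _) (N.inv_mem hv)
    obtain ⟨w, hw, hspan⟩ := finrank_eq_one_iff'.mp h1
    obtain ⟨c, hc⟩ := hspan (h.rep ⟨g, hgN⟩ w)
    refine ⟨c, fun x hx => ?_⟩
    obtain ⟨d, hd⟩ := hspan ⟨x, hx⟩
    have : h.rep ⟨g, hgN⟩ ⟨x, hx⟩ = c • (⟨x, hx⟩ : U) := by rw [← hd, map_smul, ← hc, smul_comm]
    exact congrArg Subtype.val this
  by_cases huS : u ∈ stabU σ N U
  swap
  · -- the translates are independent
    have hle : finrank k U ≤ 2 := by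
      obtain ⟨a, ha, hne⟩ : ∃ a ∈ N, chi σ (U.map (σ u)) a ≠ chi σ U a := by
        by_contra hno
        push Not at hno
        refine huS fun a ha => ?_
        have h1 := hno (u * a * u⁻¹) (hNn.conj_mem a ha u)
        rw [h.chi_translate _ (hNn.conj_mem a ha u), show u⁻¹ * (u * a * u⁻¹) * u = a by group] at h1
        exact h1.symm
      have hinjU : Function.Injective ((σ u - 1) ∘ₗ U.subtype) := by
        rw [← LinearMap.ker_eq_bot, Submodule.eq_bot_iff]
        rintro ⟨w, hw⟩ hw'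
        rw [LinearMap.mem_ker, LinearMap.comp_apply, LinearMap.sub_apply, Module.End.one_apply,
          sub_eq_zero] at hw'
        exact Subtype.ext (eq_zero_of_sum_eq h hN {()} (fun _ => U.map (σ u))
          (fun _ _ => h.translate u) (fun _ _ => ⟨a, ha, hne⟩) hw (fun _ => w)
          (fun _ _ => ⟨w, hw, hw'⟩) (by simp))
      calc finrank k U = finrank k (LinearMap.range ((σ u - 1) ∘ₗ U.subtype)) :=
            (LinearMap.finrank_range_of_inj hinjU).symm
        _ ≤ _ := (Submodule.finrank_mono (LinearMap.range_comp_le_range _ _)).trans hR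
    have hpos : 0 < finrank k U :=
      (Nat.pos_of_ne_zero fun e => h.ne (Submodule.finrank_eq_zero.mp e))
    rcases (show finrank k U = 1 ∨ finrank k U = 2 by omega) with e | e
    · exact Or.inl (htriv e)
    · exact Or.inr (Or.inl e)
  by_cases hall : ∀ v ∈ N, v * u * v⁻¹ * u⁻¹ ∈ h.zsub
  · left
    have hu' : u ∈ h.qker hN hT := by
      rw [h.mem_qker hN hT]
      refine ⟨huS, fun v hv => ?_⟩
      convert h.zsub.inv_mem (hall v hv) using 1
      group
    exact Subgroup.pow_mem _ hu' _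
  push Not at hall
  obtain ⟨v₀, hv₀, hv₀z⟩ := hall
  have hgN : ∀ v ∈ N, v * u * v⁻¹ * u⁻¹ ∈ N := fun v hv => by
    rw [show v * u * v⁻¹ * u⁻¹ = v * (u * v⁻¹ * u⁻¹) by group]
    exact N.mul_mem hv (hNn.conj_mem _ (N.inv_mem hv) u)
  have hR4 : ∀ v : L, finrank k (LinearMap.range (σ (v * u * v⁻¹ * u⁻¹) - 1)) ≤ 4 := fun v =>
    (finrank_range_comm_le v u).trans (by omega)
  -- a twisted partner and the order of its scalar
  have hpart : ∀ v ∈ N, v * u * v⁻¹ * u⁻¹ ∉ h.zsub → ∃ b ∈ N, ∃ ω : k, ω ≠ 1 ∧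
      (ℓ ≠ 2 → ω * ω ≠ 1) ∧
      ∀ w ∈ U, σ (v * u * v⁻¹ * u⁻¹) (σ b w) = ω • σ b (σ (v * u * v⁻¹ * u⁻¹) w) := by
    intro v hv hvz
    obtain ⟨b, hb, ω, hω1, hω⟩ := h.exists_twist hT (hgN v hv) fun hs => hvz ⟨hgN v hv, hs⟩
    refine ⟨b, hb, ω, hω1, fun hℓ2 hsq => hω1 ?_, hω⟩
    obtain ⟨i, hi⟩ := hNℓ ⟨b, hb⟩
    have hbi : b ^ ℓ ^ i = 1 := congrArg Subtype.val hi
    have h1 := h.cm_pow_right hT (hgN v hv) hb (ℓ ^ i)
    rw [hbi, h.cm_one_right hT (hgN v hv), h.cm_eq hT (hgN v hv) hb hω] at h1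
    obtain ⟨t, ht⟩ := (hℓ.out.odd_of_ne_two hℓ2).pow (n := i)
    rw [ht, pow_succ, pow_mul, sq, hsq, one_pow, one_mul] at h1
    exact h1.symm
  obtain ⟨b, hb, ω, hω1, hω2, hω⟩ := hpart v₀ hv₀ hv₀z
  obtain ⟨b6, b8, -⟩ := twist_bound h hb hω1 hω (hR4 v₀)
  by_cases hℓ2 : ℓ = 2
  · subst hℓ2
    have hj3 : j ≤ 3 := by
      by_contra hlt
      have : 2 ^ 4 ≤ 2 ^ j := Nat.pow_le_pow_right (by norm_num) (by omega)
      omega
    interval_cases j
    · exact Or.inl (htriv hj)
    · exact Or.inr (Or.inl hj)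
    · exact Or.inr (Or.inr (Or.inl hj))
    · left
      have hd8 : finrank k U = 8 := hj
      have hinv : ∀ v ∈ N, ∀ w ∈ U, σ (v * u * v⁻¹ * u⁻¹) (σ (v * u * v⁻¹ * u⁻¹) w) = w := by
        intro v hv
        by_cases hvz : v * u * v⁻¹ * u⁻¹ ∈ h.zsub
        · obtain ⟨-, c, hc⟩ := hvz
          have hc1 : c = 1 := by
            by_contra hne
            have hinjU : Function.Injective ((σ (v * u * v⁻¹ * u⁻¹) - 1) ∘ₗ U.subtype) := by
              rw [← LinearMap.ker_eq_bot, Submodule.eq_bot_iff]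
              rintro ⟨w, hw⟩ hw'
              rw [LinearMap.mem_ker, LinearMap.comp_apply, LinearMap.sub_apply, Module.End.one_apply,
                Submodule.subtype_apply, hc w hw, sub_eq_zero] at hw'
              refine Subtype.ext (by_contra fun hw0 => hne ?_)
              exact smul_left_injective k hw0 (hw'.trans (one_smul k w).symm)
            have := (Submodule.finrank_mono (LinearMap.range_comp_le_range U.subtype
              (σ (v * u * v⁻¹ * u⁻¹) - 1))).trans (hR4 v)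
            rw [LinearMap.finrank_range_of_inj hinjU, hd8] at this
            omega
          intro w hw
          rw [hc w hw, hc1, one_smul, hc w hw, hc1, one_smul]
        · obtain ⟨b', hb', ω', hω1', -, hω'⟩ := hpart v hv hvz
          obtain ⟨c6, -, c8⟩ := twist_bound h hb' hω1' hω' (hR4 v)
          refine c8 ?_ hd8
          by_contra hne
          have := c6 hne
          omega
      have h2 := qact_sq h hN hT huS (h.quot_exp hT (hpow rfl)) hinv
      have h3 : h.qact hN hT ⟨u, huS⟩ ^ 2 ^ (f - 1) = 1 := by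
        rw [show f - 1 = f - 2 + 1 by omega, pow_succ', pow_mul, h2, one_pow]
      rw [← map_pow] at h3
      exact ⟨_, h3, rfl⟩
  · have := b6 (hω2 hℓ2)
    rcases Nat.lt_or_ge j 2 with hlt | hge
    · interval_cases j
      · exact Or.inl (htriv hj)
      · rw [pow_one] at hj
        have h3 : 3 ≤ ℓ := by have := hℓ.out.two_le; omega
        refine Or.inr (Or.inr (Or.inr ⟨?_, huS⟩))
        have h46 : ℓ ≠ 4 ∧ ℓ ≠ 6 :=
          ⟨fun e => by rw [e] at hℓ; exact absurd hℓ.out (by norm_num),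
            fun e => by rw [e] at hℓ; exact absurd hℓ.out (by norm_num)⟩
        omega
    · exfalso
      have h9 : 3 ^ 2 ≤ ℓ ^ j :=
        (Nat.pow_le_pow_left (by have := hℓ.out.two_le; omega) 2).trans
          (Nat.pow_le_pow_right hℓ.out.pos hge)
      omega

/-- The order condition in the case of the characteristic of the moved subgroup. -/
theorem involution_mem_qker {q : ℕ} [hℓ : Fact ℓ.Prime] (h : IsCst σ N U)
    (hN : (Nat.card N : k) ≠ 0) (hT : Tw σ N U) (hNℓ : IsPGroup ℓ N) (hℓ2 : ℓ ≠ 2) (hℓq : ℓ ≠ q)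
    (hq : q + 1 = 2 ^ f) {g : ℕ} (hℓg : ℓ + 1 = 2 ^ g) (hf : 2 ≤ f) (hu : u ^ 2 ^ f = 1)
    (hR : finrank k (LinearMap.range (σ u - 1)) ≤ 2) : u ^ 2 ^ (f - 1) ∈ h.qker hN hT := by
  obtain ⟨j, hj⟩ := irr_pgroup_finrank (q := ℓ) _ N rfl hNℓ h.rep h.isIrr
  have hodd : finrank k U % 2 = 1 :=
    hj ▸ Nat.odd_iff.mp (hℓ.out.odd_of_ne_two hℓ2).pow
  rcases degree_cases h hN hT hNℓ (fun e => absurd e hℓ2) hf hu hR with hA | hA | hA | ⟨hA, huS⟩
  · exact hA
  · omega
  · omega
  have hℓd : ℓ = finrank k U := by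
    have hdd : (finrank k U).Prime := by rcases hA with e | e <;> rw [e] <;> norm_num
    rw [hj] at hdd ⊢
    rw [(Nat.Prime.eq_one_of_pow hdd), pow_one]
  have hd3 : finrank k U = 3 := by
    rcases hA with e | e
    · exact e
    · exfalso
      have hg3 : g ≤ 3 := by
        by_contra hlt
        have : 2 ^ 4 ≤ 2 ^ g := Nat.pow_le_pow_right (by norm_num) (by omega)
        omega
      interval_cases g <;> omega
  have hf3 : 3 ≤ f := by
    by_contra hlt
    have : f = 2 := by omega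
    subst this
    omega
  have h1 := qact_pow_twelve h hN hT huS hd3
  have h2 : h.qact hN hT ⟨u, huS⟩ ^ 2 ^ f = 1 := by
    rw [← map_pow, show (⟨u, huS⟩ : stabU σ N U) ^ 2 ^ f = 1 from Subtype.ext hu, map_one]
  have h4 : h.qact hN hT ⟨u, huS⟩ ^ 4 = 1 := by
    refine orderOf_dvd_iff_pow_eq_one.mp ((Nat.dvd_gcd (orderOf_dvd_of_pow_eq_one h1)
      (orderOf_dvd_of_pow_eq_one h2)).trans (dvd_of_eq ?_))
    obtain ⟨m, rfl⟩ : ∃ m, f = m + 2 := ⟨f - 2, by omega⟩
    rw [pow_add, show (12 : ℕ) = 3 * 4 from rfl, show (2 : ℕ) ^ 2 = 4 from rfl, Nat.gcd_mul_right,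
      ((Nat.coprime_primes Nat.prime_three Nat.prime_two).mpr (by norm_num)).pow_right m, one_mul]
  have h3 : h.qact hN hT ⟨u, huS⟩ ^ 2 ^ (f - 1) = 1 := by
    rw [show f - 1 = 2 + (f - 3) by omega, pow_add, pow_mul, show (2 : ℕ) ^ 2 = 4 from rfl, h4,
      one_pow]
  rw [← map_pow] at h3
  exact ⟨_, h3, rfl⟩

/-- A nonzero fixed vector of a group of `q`-power order in characteristic `q`. -/
theorem exists_fixed_vector {q : ℕ} [Fact q.Prime] [CharP k q] [Nontrivial V] (P : Subgroup L)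
    (hP : IsPGroup q P) : ∃ v : V, v ≠ 0 ∧ ∀ g ∈ P, σ g v = v := by
  classical
  obtain ⟨w, hw0⟩ := exists_ne (0 : V)
  have hchar : ∀ v : V, q • v = 0 := fun v => by
    rw [← Nat.cast_smul_eq_nsmul k, CharP.cast_eq_zero, zero_smul]
  letI : Module (ZMod q) V := AddCommGroup.zmodModule (n := q) (G := V) hchar
  let A : Submodule (ZMod q) V := Submodule.span (ZMod q) (Set.range fun g : P => σ g w)
  haveI : Module.Finite (ZMod q) (↥A) := Module.Finite.span_of_finite (ZMod q) (Set.finite_range fun g : P => σ g w)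
  haveI : Finite A := Module.finite_of_finite (ZMod q)
  have hinv : ∀ g : P, ∀ v ∈ A, σ g v ∈ A := by
    intro g v hv
    induction hv using Submodule.span_induction with
    | mem x hx =>
      obtain ⟨g', rfl⟩ := hx
      exact Submodule.subset_span ⟨g * g', by simp only; rw [Subgroup.coe_mul, sigma_mul_apply]⟩
    | zero => rw [map_zero]; exact zero_mem _
    | add x y _ _ hx hy => rw [map_add]; exact add_mem hx hy
    | smul c x _ hx => rw [show σ g (c • x) = c • σ g x from ZMod.map_smul (σ g).toAddMonoidHom c x]; exact Submodule.smul_mem _ _ hx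
  letI : MulAction P A :=
    { smul := fun g a => ⟨σ g a, hinv g a a.2⟩
      one_smul := fun a => Subtype.ext (by
        show σ ((1 : P) : L) (a : V) = a
        rw [Subgroup.coe_one, map_one]; rfl)
      mul_smul := fun g g' a => Subtype.ext (by
        show σ ((g * g' : P) : L) (a : V) = σ g (σ g' a)
        rw [Subgroup.coe_mul, sigma_mul_apply]) }
  have hwA : w ∈ A := Submodule.subset_span ⟨1, by simp⟩
  have hd : q ∣ Nat.card A := by
    have h1 : addOrderOf (⟨w, hwA⟩ : A) = q := addOrderOf_eq_prime (Subtype.ext (hchar w))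
      fun e => hw0 (congrArg Subtype.val e)
    have h2 := addOrderOf_dvd_natCard (⟨w, hwA⟩ : A)
    rwa [h1] at h2
  obtain ⟨b, hb, hne⟩ := hP.exists_fixed_point_of_prime_dvd_card_of_fixed_point A hd (a := 0)
    (fun g => Subtype.ext (show σ g (0 : V) = 0 from map_zero _))
  exact ⟨b, fun e => hne (Subtype.ext e.symm), fun g hg => congrArg Subtype.val (hb ⟨g, hg⟩)⟩

/-- The case of trivial `q`-core. -/
theorem core_base {q r : ℕ} [hqp : Fact q.Prime] [hrp : Fact r.Prime] [CharP k q]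
    [Group.IsSolvable L] (hinj : Function.Injective σ) (hO : Cfsg.pCore q L = ⊥) (hf : 2 ≤ f)
    (hq : q + 1 = 2 ^ f) (hr2 : r ≠ 2) {g : ℕ} (hrg : r + 1 = 2 ^ g) (hu : u ^ 2 ^ f = 1)
    (hR : finrank k (LinearMap.range (σ u - 1)) ≤ 2) (Y : Subgroup L) (hY : IsPGroup r Y)
    (huY : ∀ y ∈ Y, u * y * u⁻¹ ∈ Y) (hYz : Y ≤ ⁅Y, Subgroup.zpowers (u ^ 2 ^ (f - 1))⁆) :
    ⁅Y, Y⁆ = ⊥ := by
  classical
  haveI := Fitting.fittingSubgroup_normal (G := L)
  set z := u ^ 2 ^ (f - 1) with hz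
  set C := ⁅Y, Y⁆ with hC
  have hCY : C ≤ Y := Subgroup.commutator_le_self Y
  have hCp : IsPGroup r C := hY.to_le hCY
  have hcard : ∀ {ℓ : ℕ} (K : Subgroup L), ℓ.Prime → IsPGroup ℓ K → ℓ ≠ q → (Nat.card K : k) ≠ 0 := by
    intro ℓ K hℓ hK hℓq
    haveI := Fact.mk hℓ
    obtain ⟨m, hm⟩ := hK.exists_card_eq
    rw [hm]
    exact nat_ne_zero_of_coprime (p := q) (((Nat.coprime_primes hℓ hqp.out).mpr hℓq).pow_left _)
  have horder : ∀ {c : L}, c ∈ C → ∃ i, orderOf c = r ^ i := by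
    intro c hc
    obtain ⟨i, hi⟩ := hCp ⟨c, hc⟩
    obtain ⟨j, -, hj⟩ := (Nat.dvd_prime_pow hrp.out).mp
      (orderOf_dvd_of_pow_eq_one (show c ^ r ^ i = 1 from congrArg Subtype.val hi))
    exact ⟨j, hj⟩
  have hztwo : z ^ 2 = 1 := by
    rw [hz, ← pow_mul, ← pow_succ, Nat.sub_add_cancel (by omega), hu]
  -- `C` centralises the cores for the primes other than `r`
  have hother : ∀ ℓ, ℓ.Prime → ℓ ≠ r → ∀ c ∈ C, ∀ v ∈ Cfsg.pCore ℓ L, c * v = v * c := by
    intro ℓ hℓ hℓr c hc v hv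
    haveI := Fact.mk hℓ
    by_cases hℓq : ℓ = q
    · subst hℓq
      rw [hO, Subgroup.mem_bot] at hv
      rw [hv, mul_one, one_mul]
    obtain ⟨K, hKn, hKp, hcent, hpow, hcr⟩ := exists_crit_sub (H := L) ℓ
    haveI := hKn
    have hN := hcard K hℓ hKp hℓq
    have hT : ∀ U, IsCst σ K U → Tw σ K U := fun U h => h.tw_of_central hcent
    have hzF := involution_mem_fixAll' (N := K) hN hf hu hR
    have hYF : Y ≤ fixAll σ K := hYz.trans (commutator_le_of_conj (Subgroup.zpowers_le.mpr hzF)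
      fun y _ s hs => fixAll_normal.conj_mem s hs y)
    have hcop : (orderOf c).Coprime ℓ := by
      obtain ⟨i, hi⟩ := horder hc
      rw [hi]
      exact ((Nat.coprime_primes hrp.out hℓ).mpr (Ne.symm hℓr)).pow_left i
    refine hcr c hcop (centralizes_of_qker hinj hN hT ?_ ?_) v hv
    · obtain ⟨m, hm⟩ := hKp.exists_card_eq
      rw [hm]
      exact hcop.pow_right m
    intro U h
    have hYS : ∀ y ∈ Y, y ∈ stabU σ K U := fun y hy => mem_fixAll.mp (hYF hy) U h
    rcases degree_cases h hN (hT U h) hKp (fun _ => hpow) hf hu hR with hA | hA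
    · have hYk : Y ≤ h.qker hN (hT U h) := hYz.trans (commutator_le_of_conj
        (Subgroup.zpowers_le.mpr hA) fun y hy s hs => h.conj_qker hN (hT U h) (hYS y hy) hs)
      exact hYk (hCY hc)
    · have hQ : Nat.card (K ⧸ h.zsub.subgroupOf K) ∈ ({1, 4, 16, 9, 25} : Finset ℕ) := by
        rw [h.card_quotient hN (hT U h)]
        rcases hA with e | e | ⟨e | e, -⟩ <;> rw [e] <;> norm_num
      haveI : Finite (K ⧸ h.zsub.subgroupOf K) := inferInstance
      have hcomm := commute_of_small (h.mul_comm_quot (hT U h)) (h.quot_exp (hT U h) hpow) hQ hr2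
        (Ne.symm hℓr) hY ((h.qact hN (hT U h)).comp (Subgroup.inclusion hYS))
      have hCk : C ≤ h.qker hN (hT U h) := by
        rw [hC, Subgroup.commutator_le]
        intro a ha b hb
        refine ⟨Subgroup.inclusion hYS ⁅(⟨a, ha⟩ : Y), ⟨b, hb⟩⁆, ?_, rfl⟩
        show (h.qact hN (hT U h)).comp (Subgroup.inclusion hYS) _ = 1
        rw [map_commutatorElement]
        exact commutatorElement_eq_one_iff_mul_comm.mpr (hcomm _ _)
      exact hCk hc
  by_cases hrq : r = q
  · -- then `C` lies in the trivial core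
    subst hrq
    rw [eq_bot_iff]
    intro c hc
    have hall : ∀ ℓ, ℓ.Prime → Cfsg.pCore ℓ L ≤ Subgroup.centralizer ({c} : Set L) := by
      intro ℓ hℓ v hv
      rw [Subgroup.mem_centralizer_singleton_iff]
      by_cases hℓr : ℓ = r
      · subst hℓr
        rw [hO, Subgroup.mem_bot] at hv
        rw [hv, mul_one, one_mul]
      · exact (hother ℓ hℓ hℓr c hc v hv).symm
    have hcF : c ∈ Cfsg.fittingSubgroup L := PSolvable.centralizer_fittingSubgroup_le fun v hv =>
      Subgroup.mem_centralizer_singleton_iff.mp (Signalizer.fittingSubgroup_le_of_pCore_le hall hv)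
    obtain ⟨i, hi⟩ := horder hc
    have hmem : c ∈ Cfsg.pCore r L := FpfPQ.le_pCore_of_nilpotent (X := Subgroup.zpowers c)
      Fitting.fittingSubgroup_isNilpotent (Subgroup.zpowers_le.mpr hcF)
      (IsPGroup.of_card (n := i) (by rw [Nat.card_zpowers, hi])) (Subgroup.mem_zpowers c)
    rwa [hO] at hmem
  -- the involution centralises the `r`-core
  have hzr : ∀ v ∈ Cfsg.pCore r L, z * v = v * z := by
    obtain ⟨K, hKn, hKp, hcent, hpow, hcr⟩ := exists_crit_sub (H := L) r
    haveI := hKn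
    have hN := hcard K hrp.out hKp hrq
    have hT : ∀ U, IsCst σ K U → Tw σ K U := fun U h => h.tw_of_central hcent
    have hcop : (orderOf z).Coprime r := Nat.Coprime.coprime_dvd_left
      (orderOf_dvd_of_pow_eq_one hztwo) ((Nat.coprime_primes Nat.prime_two hrp.out).mpr (Ne.symm hr2))
    refine hcr z hcop (centralizes_of_qker hinj hN hT ?_ fun U h => ?_)
    · obtain ⟨m, hm⟩ := hKp.exists_card_eq
      rw [hm]
      exact hcop.pow_right m
    · exact involution_mem_qker h hN (hT U h) hKp hr2 hrq hq hrg hf hu hR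
  have hYr : ∀ y ∈ Y, ∀ v ∈ Cfsg.pCore r L, y * v = v * y := by
    haveI := Fitting.pCore_normal (G := L) r
    haveI : (Subgroup.centralizer (Cfsg.pCore r L : Set L)).Normal := inferInstance
    have hle : Y ≤ Subgroup.centralizer (Cfsg.pCore r L : Set L) :=
      hYz.trans (commutator_le_of_conj (Subgroup.zpowers_le.mpr
        (Subgroup.mem_centralizer_iff.mpr fun v hv => (hzr v hv).symm))
        fun y _ s hs => Subgroup.Normal.conj_mem inferInstance s hs y)
    exact fun y hy v hv => (Subgroup.mem_centralizer_iff.mp (hle hy) v hv).symm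
  have hCr : C ≤ Cfsg.pCore r L := by
    intro c hc
    have hall : ∀ ℓ, ℓ.Prime → Cfsg.pCore ℓ L ≤ Subgroup.centralizer ({c} : Set L) := by
      intro ℓ hℓ v hv
      rw [Subgroup.mem_centralizer_singleton_iff]
      by_cases hℓr : ℓ = r
      · subst hℓr; exact (hYr c (hCY hc) v hv).symm
      · exact (hother ℓ hℓ hℓr c hc v hv).symm
    have hcF : c ∈ Cfsg.fittingSubgroup L := PSolvable.centralizer_fittingSubgroup_le fun v hv =>
      Subgroup.mem_centralizer_singleton_iff.mp (Signalizer.fittingSubgroup_le_of_pCore_le hall hv)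
    obtain ⟨i, hi⟩ := horder hc
    exact FpfPQ.le_pCore_of_nilpotent (X := Subgroup.zpowers c)
      Fitting.fittingSubgroup_isNilpotent (Subgroup.zpowers_le.mpr hcF)
      (IsPGroup.of_card (n := i) (by rw [Nat.card_zpowers, hi])) (Subgroup.mem_zpowers c)
  -- `Y` has class two; apply the same to `Y` in its normalizer
  set M := Subgroup.normalizer (Y : Set L) with hM
  have huM : u ∈ M := PrimaryParts.mem_normalizer_of_conj_mem huY
  let σM : M →* Module.End k V := σ.comp M.subtype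
  set N := Y.subgroupOf M with hNdef
  haveI : N.Normal := Subgroup.normal_in_normalizer
  have hNp : IsPGroup r N := hY.comap_of_injective _ M.subtype_injective
  have hN : (Nat.card N : k) ≠ 0 := by
    rw [Nat.card_congr (Subgroup.subgroupOfEquivOfLe Subgroup.le_normalizer).toEquiv]
    exact hcard Y hrp.out hY hrq
  have hcent : ∀ a ∈ N, ∀ b ∈ N, ∀ c ∈ N, a * b * a⁻¹ * b⁻¹ * c = c * (a * b * a⁻¹ * b⁻¹) := by
    intro a ha b hb c hc
    refine Subtype.ext ?_
    simp only [Subgroup.coe_mul, Subgroup.coe_inv]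
    exact (hYr c hc _ (hCr (Subgroup.commutator_mem_commutator ha hb))).symm
  have hT : ∀ U, IsCst σM N U → Tw σM N U := fun U h => h.tw_of_central hcent
  have hzY : ∀ y ∈ Y, z * y = y * z := by
    have hzM : z ∈ M := pow_mem huM _
    have hinjM : Function.Injective σM := hinj.comp M.subtype_injective
    have huM' : (⟨u, huM⟩ : M) ^ 2 ^ f = 1 := Subtype.ext hu
    have key : ∀ v ∈ N, (⟨u, huM⟩ : M) ^ 2 ^ (f - 1) * v = v * (⟨u, huM⟩ : M) ^ 2 ^ (f - 1) := by
      refine centralizes_of_qker hinjM hN hT ?_ fun U h => ?_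
      · obtain ⟨m, hm⟩ := hNp.exists_card_eq
        rw [hm, ← Subgroup.orderOf_coe, SubmonoidClass.coe_pow]
        exact (Nat.Coprime.coprime_dvd_left (orderOf_dvd_of_pow_eq_one hztwo)
          ((Nat.coprime_primes Nat.prime_two hrp.out).mpr (Ne.symm hr2))).pow_right m
      · exact involution_mem_qker h hN (hT U h) hNp hr2 hrq hq hrg hf huM' hR
    intro y hy
    exact congrArg Subtype.val (key ⟨y, Subgroup.le_normalizer hy⟩ hy)
  have hbot : ⁅Y, Subgroup.zpowers z⁆ = ⊥ := by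
    rw [Subgroup.commutator_eq_bot_iff_le_centralizer]
    intro y hy
    rw [Subgroup.mem_centralizer_iff]
    rintro a ⟨i, rfl⟩
    exact (Commute.zpow_left (hzY y hy) i).eq
  have hYbot : Y = ⊥ := le_bot_iff.mp (hYz.trans hbot.le)
  rw [hC, hYbot, Subgroup.commutator_bot_left]

end general

set_option maxHeartbeats 1600000 in
/-- The derived subgroup of `Y` lies in the `q`-core. -/
theorem core {k : Type uk} [Field k] [IsAlgClosed k] {q r : ℕ} [hqp : Fact q.Prime]
    [hrp : Fact r.Prime] [CharP k q] {f g : ℕ} (hf : 2 ≤ f) (hq : q + 1 = 2 ^ f) (hr2 : r ≠ 2)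
    (hrg : r + 1 = 2 ^ g) :
    ∀ (n : ℕ) {V : Type uV} [AddCommGroup V] [Module k V] [FiniteDimensional k V],
      finrank k V = n → ∀ {L : Type uL} [Group L] [Finite L] [Group.IsSolvable L]
        (σ : L →* Module.End k V), Function.Injective σ → ∀ u : L, u ^ 2 ^ f = 1 →
          finrank k (LinearMap.range (σ u - 1)) ≤ 2 → ∀ Y : Subgroup L, IsPGroup r Y →
            (∀ y ∈ Y, u * y * u⁻¹ ∈ Y) → Y ≤ ⁅Y, Subgroup.zpowers (u ^ 2 ^ (f - 1))⁆ →
              ⁅Y, Y⁆ ≤ Cfsg.pCore q L := by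
  intro n
  induction n using Nat.strong_induction_on with
  | _ n IH =>
  intro V _ _ _ hn L _ _ _ σ hinj u hu hR Y hY huY hYz
  classical
  by_cases hO : Cfsg.pCore q L = ⊥
  · rw [core_base hinj hO hf hq hr2 hrg hu hR Y hY huY hYz]
    exact bot_le
  set P := Cfsg.pCore q L with hP
  haveI hPn : P.Normal := Fitting.pCore_normal q
  obtain ⟨x, hx, hx1⟩ := P.bot_or_exists_ne_one.resolve_left hO
  haveI : Nontrivial V := by
    by_contra hnt
    rw [not_nontrivial_iff_subsingleton] at hnt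
    exact hx1 (hinj (LinearMap.ext fun v => Subsingleton.elim _ _))
  let W : Submodule k V :=
    { carrier := {v | ∀ g ∈ P, σ g v = v}
      zero_mem' := fun g _ => map_zero _
      add_mem' := fun {a b} ha hb g hg => by rw [map_add, ha g hg, hb g hg]
      smul_mem' := fun c {a} ha g hg => by rw [map_smul, ha g hg] }
  have hWinv : ∀ (l : L), ∀ v ∈ W, σ l v ∈ W := by
    intro l v hv g hg
    have := hv (l⁻¹ * g * l) (by simpa using hPn.conj_mem g hg l⁻¹)
    calc σ g (σ l v) = σ l (σ (l⁻¹ * g * l) v) := by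
          rw [← sigma_mul_apply, ← sigma_mul_apply]; congr 2; group
      _ = σ l v := by rw [this]
  obtain ⟨v₀, hv₀, hv₀W⟩ := exists_fixed_vector (σ := σ) (V := V) P (Fitting.pCore_isPGroup q)
  have hWne : W ≠ ⊥ := fun e => hv₀ (by
    have : v₀ ∈ W := hv₀W
    rwa [e, Submodule.mem_bot] at this)
  have hWtop : W ≠ ⊤ := fun e => hx1 (hinj (LinearMap.ext fun v => by
    rw [map_one, Module.End.one_apply]
    exact (show v ∈ W from e ▸ trivial) x hx))
  let σ₁ : L →* Module.End k W :=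
    { toFun := fun l => (σ l).restrict (hWinv l)
      map_one' := LinearMap.ext fun w => Subtype.ext (by
        show σ 1 (w : V) = w
        rw [map_one]; rfl)
      map_mul' := fun a b => LinearMap.ext fun w => Subtype.ext (sigma_mul_apply a b (w : V)) }
  let σ₂ : L →* Module.End k (V ⧸ W) :=
    { toFun := fun l => W.mapQ W (σ l) (hWinv l)
      map_one' := LinearMap.ext fun w => by
        obtain ⟨v, rfl⟩ := Submodule.Quotient.mk_surjective W w
        show Submodule.Quotient.mk (σ 1 v) = _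
        rw [map_one]; rfl
      map_mul' := fun a b => LinearMap.ext fun w => by
        obtain ⟨v, rfl⟩ := Submodule.Quotient.mk_surjective W w
        show Submodule.Quotient.mk (σ (a * b) v) = _
        rw [sigma_mul_apply]; rfl }
  -- the step on one of the two factors
  have step : ∀ {X : Type uV} [AddCommGroup X] [Module k X] [FiniteDimensional k X]
      (τ : L →* Module.End k X), finrank k X < n →
      finrank k (LinearMap.range (τ u - 1)) ≤ 2 →
      ∀ c ∈ ⁅Y, Y⁆, c ∈ (Cfsg.pCore q (L ⧸ τ.ker)).comap (QuotientGroup.mk' τ.ker) := by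
    intro X _ _ _ τ hlt hrk c hc
    set π := QuotientGroup.mk' τ.ker
    have hπu : ∀ y ∈ Y.map π, π u * y * (π u)⁻¹ ∈ Y.map π := by
      rintro _ ⟨y, hy, rfl⟩
      exact ⟨u * y * u⁻¹, huY y hy, by rw [map_mul, map_mul, map_inv]⟩
    have hπz : Y.map π ≤ ⁅Y.map π, Subgroup.zpowers (π u ^ 2 ^ (f - 1))⁆ := by
      refine (Subgroup.map_mono hYz).trans ?_
      rw [Subgroup.map_commutator, MonoidHom.map_zpowers, map_pow]
    obtain ⟨τ', hτ', hτinj⟩ : ∃ τ' : L ⧸ τ.ker →* Module.End k X,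
        (∀ l, τ' (π l) = τ l) ∧ Function.Injective τ' := by
      refine ⟨QuotientGroup.lift τ.ker τ le_rfl, fun l => rfl, fun a b hab => ?_⟩
      obtain ⟨a, rfl⟩ := QuotientGroup.mk'_surjective τ.ker a
      obtain ⟨b, rfl⟩ := QuotientGroup.mk'_surjective τ.ker b
      refine QuotientGroup.eq.mpr (MonoidHom.mem_ker.mpr ?_)
      have hab' : τ a = τ b := hab
      rw [map_mul, ← hab', ← map_mul, inv_mul_cancel, map_one]
    have hrk' : finrank k (LinearMap.range (τ' (π u) - 1)) ≤ 2 := by rw [hτ']; exact hrk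
    haveI : Group.IsSolvable (L ⧸ τ.ker) :=
      Group.isSolvable_of_surjective (f := π) (QuotientGroup.mk'_surjective τ.ker)
    have h1 := IH (finrank k X) hlt (V := X) rfl (L := L ⧸ τ.ker) τ' hτinj
      (π u) (by rw [← map_pow, hu, map_one]) hrk' (Y.map π) (hY.map π) hπu hπz
    exact Subgroup.mem_comap.mpr (h1 (by
      rw [← Subgroup.map_commutator]; exact Subgroup.mem_map_of_mem π hc))
  have hlt₁ : finrank k W < n := hn ▸ Submodule.finrank_lt hWtop
  have hlt₂ : finrank k (V ⧸ W) < n := by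
    have h0 : finrank k W ≠ 0 := fun e => hWne (Submodule.finrank_eq_zero.mp e)
    have := Submodule.finrank_quotient_add_finrank W
    omega
  have hrk₁ : finrank k (LinearMap.range (σ₁ u - 1)) ≤ 2 := by
    refine le_trans ?_ hR
    rw [← Submodule.finrank_map_subtype_eq W]
    refine Submodule.finrank_mono ?_
    rintro _ ⟨_, ⟨w, rfl⟩, rfl⟩
    exact ⟨w, rfl⟩
  have hrk₂ : finrank k (LinearMap.range (σ₂ u - 1)) ≤ 2 := by
    refine le_trans (le_trans (Submodule.finrank_mono ?_) (Submodule.finrank_map_le W.mkQ _)) hR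
    rintro _ ⟨w, rfl⟩
    obtain ⟨v, rfl⟩ := Submodule.Quotient.mk_surjective W w
    exact ⟨_, ⟨v, rfl⟩, rfl⟩
  set P₁ := (Cfsg.pCore q (L ⧸ σ₁.ker)).comap (QuotientGroup.mk' σ₁.ker)
  set P₂ := (Cfsg.pCore q (L ⧸ σ₂.ker)).comap (QuotientGroup.mk' σ₂.ker)
  haveI : P₁.Normal := (Fitting.pCore_normal q).comap _
  haveI : P₂.Normal := (Fitting.pCore_normal q).comap _
  refine le_trans (fun c hc => Subgroup.mem_inf.mpr
    ⟨step σ₁ hlt₁ hrk₁ c hc, step σ₂ hlt₂ hrk₂ c hc⟩) (Fitting.le_pCore (inferInstance : (P₁ ⊓ P₂).Normal) ?_)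
  rintro ⟨l, hl⟩
  obtain ⟨hl1, hl2⟩ := Subgroup.mem_inf.mp hl
  obtain ⟨i, hi⟩ := Fitting.pCore_isPGroup q (G := L ⧸ σ₁.ker) ⟨_, hl1⟩
  obtain ⟨j, hj⟩ := Fitting.pCore_isPGroup q (G := L ⧸ σ₂.ker) ⟨_, hl2⟩
  have k1 : σ₁ (l ^ q ^ (i + j)) = 1 := MonoidHom.mem_ker.mp ((QuotientGroup.eq_one_iff _).mp (by
    have := congrArg Subtype.val hi
    simp only [SubmonoidClass.coe_pow, OneMemClass.coe_one] at this
    show QuotientGroup.mk' σ₁.ker (l ^ q ^ (i + j)) = 1
    rw [map_pow, pow_add, pow_mul, this, one_pow]))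
  have k2 : σ₂ (l ^ q ^ (i + j)) = 1 := MonoidHom.mem_ker.mp ((QuotientGroup.eq_one_iff _).mp (by
    have := congrArg Subtype.val hj
    simp only [SubmonoidClass.coe_pow, OneMemClass.coe_one] at this
    show QuotientGroup.mk' σ₂.ker (l ^ q ^ (i + j)) = 1
    rw [map_pow, add_comm, pow_add, pow_mul, this, one_pow]))
  set m := l ^ q ^ (i + j) with hm
  haveI : CharP (Module.End k V) q := charP_end q V
  have hsq : (σ m - 1) ^ 2 = 0 := by
    refine LinearMap.ext fun v => ?_
    rw [sq, Module.End.mul_apply, LinearMap.zero_apply]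
    have hvW : (σ m - 1) v ∈ W := by
      rw [LinearMap.sub_apply, Module.End.one_apply, ← Submodule.Quotient.eq W]
      exact LinearMap.congr_fun k2 (Submodule.Quotient.mk v)
    rw [LinearMap.sub_apply, Module.End.one_apply, sub_eq_zero]
    exact congrArg Subtype.val (LinearMap.congr_fun k1 ⟨_, hvW⟩)
  have hmq : σ (m ^ q) = 1 := by
    rw [← sub_eq_zero, map_pow]
    have h1 := sub_one_pow_prime_pow (p := q) (σ m) 1
    rw [pow_one] at h1
    rw [← h1, show q = 2 + (q - 2) by have := hqp.out.two_le; omega, pow_add, hsq, zero_mul]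
  refine ⟨i + j + 1, Subtype.ext ?_⟩
  rw [SubmonoidClass.coe_pow, pow_succ, pow_mul, OneMemClass.coe_one]
  exact hinj (hmq.trans σ.map_one.symm)

end CfsgLib.Gross
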