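import Cfsg.Agent.Lib.HallHigman.Bound
import Cfsg.Agent.Lib.HallHigman.Degree

/-!
Irreducible constituents of a normalized subgroup, their characters, and the structure of the
constituents on which commutators act as scalars.
-/

set_option autoImplicit false
set_option linter.style.haveILetI false
set_option linter.unusedSectionVars false

open Module CfsgLib.HallHigman

namespace CfsgLib.Gross

variable {k : Type*} [Field k] {V : Type*} [AddCommGroup V] [Module k V]
variable {L : Type*} [Group L] (σ : L →* Module.End k V)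

/-- An irreducible constituent of a subgroup. -/
structure IsCst (N : Subgroup L) (U : Submodule k V) : Prop where
  inv : ∀ g ∈ N, ∀ w ∈ U, σ g w ∈ U
  ne : U ≠ ⊥
  min : ∀ U' : Submodule k V, U' ≤ U → (∀ g ∈ N, ∀ w ∈ U', σ g w ∈ U') → U' = ⊥ ∨ U' = U

/-- Acting as a scalar. -/
def Scal (U : Submodule k V) (g : L) : Prop := ∃ c : k, ∀ w ∈ U, σ g w = c • w

/-- Commutators act as scalars. -/
def Tw (N : Subgroup L) (U : Submodule k V) : Prop :=
  ∀ g ∈ N, ∀ h ∈ N, ∃ ω : k, ∀ w ∈ U, σ g (σ h w) = ω • σ h (σ g w)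

open Classical in
/-- The character on a submodule. -/
noncomputable def chi (U : Submodule k V) (g : L) : k :=
  if h : ∀ w ∈ U, σ g w ∈ U then LinearMap.trace k U ((σ g).restrict h) else 0

variable {σ} {N : Subgroup L} {U : Submodule k V}

theorem sigma_mul_apply (g h : L) (w : V) : σ (g * h) w = σ g (σ h w) := by
  rw [map_mul, Module.End.mul_apply]

theorem sigma_inv_apply (g : L) (w : V) : σ g⁻¹ (σ g w) = w := by
  rw [← sigma_mul_apply, inv_mul_cancel, map_one, Module.End.one_apply]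

theorem sigma_apply_inv (g : L) (w : V) : σ g (σ g⁻¹ w) = w := by
  rw [← sigma_mul_apply, mul_inv_cancel, map_one, Module.End.one_apply]

theorem sigma_injective (g : L) : Function.Injective (σ g) :=
  Function.LeftInverse.injective (sigma_inv_apply g)

/-- The restricted representation. -/
noncomputable def IsCst.rep (h : IsCst σ N U) : N →* Module.End k U where
  toFun g := (σ g).restrict (h.inv g g.2)
  map_one' := LinearMap.ext fun w => Subtype.ext (by
    show σ ((1 : N) : L) (w : V) = w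
    rw [Subgroup.coe_one, map_one]; rfl)
  map_mul' a b := LinearMap.ext fun w => Subtype.ext (by
    show σ ((a * b : N) : L) (w : V) = σ a (σ b (w : V))
    rw [Subgroup.coe_mul, sigma_mul_apply])

@[simp] theorem IsCst.rep_apply (h : IsCst σ N U) (g : N) (w : U) : (h.rep g w : V) = σ g w := rfl

theorem IsCst.isIrr (h : IsCst σ N U) : IsIrr h.rep := by
  refine ⟨Submodule.nontrivial_iff_ne_bot.mpr h.ne, fun U' hU' => ?_⟩
  rcases h.min (U'.map U.subtype) (Submodule.map_subtype_le _ _) (fun g hg w hw => by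
    obtain ⟨w', hw', rfl⟩ := hw
    exact ⟨h.rep ⟨g, hg⟩ w', hU' ⟨g, hg⟩ w' hw', rfl⟩) with e | e
  · exact Or.inl (Submodule.map_injective_of_injective U.subtype_injective
      (by rw [e, Submodule.map_bot]))
  · exact Or.inr (Submodule.map_injective_of_injective U.subtype_injective
      (by rw [e, Submodule.map_top, Submodule.range_subtype]))

theorem exists_isCst_le [FiniteDimensional k V] (N : Subgroup L) {W : Submodule k V} (hW : W ≠ ⊥)
    (hinv : ∀ g ∈ N, ∀ w ∈ W, σ g w ∈ W) : ∃ U ≤ W, IsCst σ N U := by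
  obtain ⟨U, hUle, hUmin⟩ := exists_minimal_le_of_wellFoundedLT
    (fun X : Submodule k V => X ≠ ⊥ ∧ ∀ g ∈ N, ∀ w ∈ X, σ g w ∈ X) W ⟨hW, hinv⟩
  refine ⟨U, hUle, hUmin.prop.2, hUmin.prop.1, fun U' hle hU' => ?_⟩
  by_cases h : U' = ⊥
  · exact Or.inl h
  · exact Or.inr (le_antisymm hle (hUmin.le_of_le ⟨h, hU'⟩ hle))

theorem IsCst.tw_of_central [IsAlgClosed k] [FiniteDimensional k V] (h : IsCst σ N U)
    (hN : ∀ a ∈ N, ∀ b ∈ N, ∀ c ∈ N, a * b * a⁻¹ * b⁻¹ * c = c * (a * b * a⁻¹ * b⁻¹)) :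
    Tw σ N U := by
  intro a ha b hb
  have hc : a * b * a⁻¹ * b⁻¹ ∈ N := N.mul_mem (N.mul_mem (N.mul_mem ha hb) (N.inv_mem ha)) (N.inv_mem hb)
  obtain ⟨c, hc'⟩ := scalar_of_comm h.isIrr (g := ⟨_, hc⟩) fun d => Subtype.ext (hN a ha b hb d d.2)
  refine ⟨c, fun w hw => ?_⟩
  have h1 := congrArg Subtype.val (LinearMap.congr_fun hc'
    ⟨σ b (σ a w), h.inv b hb _ (h.inv a ha w hw)⟩)
  simp only [IsCst.rep_apply, LinearMap.smul_apply, LinearMap.id_apply, Submodule.coe_smul] at h1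
  rw [← h1, ← sigma_mul_apply, ← sigma_mul_apply, ← sigma_mul_apply]
  congr 2
  group

theorem Tw.mono (h : Tw σ N U) {N' : Subgroup L} {U' : Submodule k V} (hN : N' ≤ N) (hU : U' ≤ U) :
    Tw σ N' U' := fun a ha b hb => by
  obtain ⟨ω, hω⟩ := h a (hN ha) b (hN hb)
  exact ⟨ω, fun w hw => hω w (hU hw)⟩

/-- The scalar of `g`, nonzero on a nonzero submodule. -/
theorem Scal.ne_zero (hU : U ≠ ⊥) {g : L} {c : k} (hc : ∀ w ∈ U, σ g w = c • w) : c ≠ 0 := by
  intro e
  obtain ⟨w, hw, hw0⟩ := (Submodule.ne_bot_iff U).mp hU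
  refine hw0 (sigma_injective (σ := σ) g ?_)
  rw [hc w hw, e, zero_smul, map_zero]

theorem Scal.inv_apply (hU : U ≠ ⊥) {g : L} {c : k} (hc : ∀ w ∈ U, σ g w = c • w) :
    ∀ w ∈ U, σ g⁻¹ w = c⁻¹ • w := fun w hw => by
  apply sigma_injective (σ := σ) g
  rw [sigma_apply_inv, map_smul, hc w hw, smul_smul, inv_mul_cancel₀ (Scal.ne_zero hU hc), one_smul]

/-- The elements acting as scalars. -/
def IsCst.zsub (h : IsCst σ N U) : Subgroup L where
  carrier := {g | g ∈ N ∧ Scal σ U g}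
  one_mem' := ⟨N.one_mem, 1, fun w _ => by rw [map_one, one_smul]; rfl⟩
  mul_mem' := fun {a b} ha hb => ⟨N.mul_mem ha.1 hb.1, by
    obtain ⟨c, hc⟩ := ha.2
    obtain ⟨d, hd⟩ := hb.2
    exact ⟨d * c, fun w hw => by rw [sigma_mul_apply, hd w hw, map_smul, hc w hw, smul_smul]⟩⟩
  inv_mem' := fun {a} ha => ⟨N.inv_mem ha.1, by
    obtain ⟨c, hc⟩ := ha.2
    exact ⟨c⁻¹, Scal.inv_apply h.ne hc⟩⟩

theorem IsCst.mem_zsub (h : IsCst σ N U) {g : L} : g ∈ h.zsub ↔ g ∈ N ∧ Scal σ U g := Iff.rfl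

theorem IsCst.zsub_le (h : IsCst σ N U) : h.zsub ≤ N := fun _ hg => hg.1

instance IsCst.zsub_normal (h : IsCst σ N U) : (h.zsub.subgroupOf N).Normal := by
  refine ⟨fun a ha b => ?_⟩
  rw [Subgroup.mem_subgroupOf] at ha ⊢
  obtain ⟨ha', c, hc⟩ := ha
  refine ⟨(b * a * b⁻¹).2, c, fun w hw => ?_⟩
  rw [Subgroup.coe_mul, Subgroup.coe_mul, Subgroup.coe_inv, sigma_mul_apply, sigma_mul_apply,
    hc _ (h.inv _ (N.inv_mem b.2) w hw), map_smul, sigma_apply_inv]

theorem IsCst.comm_mem_zsub (h : IsCst σ N U) (hT : Tw σ N U) {a b : L} (ha : a ∈ N) (hb : b ∈ N) :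
    a * b * a⁻¹ * b⁻¹ ∈ h.zsub := by
  refine ⟨N.mul_mem (N.mul_mem (N.mul_mem ha hb) (N.inv_mem ha)) (N.inv_mem hb), ?_⟩
  obtain ⟨ω, hω⟩ := hT a ha b hb
  refine ⟨ω, fun w hw => ?_⟩
  have hw' := h.inv _ (N.inv_mem ha) _ (h.inv _ (N.inv_mem hb) w hw)
  rw [sigma_mul_apply, sigma_mul_apply, sigma_mul_apply, hω _ hw', sigma_apply_inv, sigma_apply_inv]

theorem IsCst.exists_twist (h : IsCst σ N U) [IsAlgClosed k] [FiniteDimensional k V]
    (hT : Tw σ N U) {g : L} (hg : g ∈ N) (hns : ¬ Scal σ U g) :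
    ∃ b ∈ N, ∃ ω : k, ω ≠ 1 ∧ ∀ w ∈ U, σ g (σ b w) = ω • σ b (σ g w) := by
  by_contra hno
  push Not at hno
  refine hns ?_
  have hcomm : Intw h.rep h.rep (h.rep ⟨g, hg⟩) := fun b w => Subtype.ext (by
    obtain ⟨ω, hω⟩ := hT g hg b b.2
    have hω1 : ω = 1 := by
      by_contra hne
      obtain ⟨w', hw', hne'⟩ := hno b b.2 ω hne
      exact hne' (hω w' hw')
    show σ g (σ b w) = σ b (σ g w)
    rw [hω w w.2, hω1, one_smul])
  obtain ⟨c, hc⟩ := hcomm.scalar h.isIrr
  exact ⟨c, fun w hw => congrArg Subtype.val (LinearMap.congr_fun hc ⟨w, hw⟩)⟩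

theorem chi_def {g : L} (hg : ∀ w ∈ U, σ g w ∈ U) :
    chi σ U g = LinearMap.trace k U ((σ g).restrict hg) := by
  rw [chi, dif_pos hg]

theorem IsCst.chi_rep (h : IsCst σ N U) (g : N) : chi σ U g = LinearMap.trace k U (h.rep g) :=
  chi_def (h.inv _ g.2)

theorem chi_of_scal [FiniteDimensional k V] {g : L} {c : k} (hc : ∀ w ∈ U, σ g w = c • w) :
    chi σ U g = c * (finrank k U : k) := by
  have hg : ∀ w ∈ U, σ g w ∈ U := fun w hw => hc w hw ▸ U.smul_mem c hw
  rw [chi_def hg, show (σ g).restrict hg = c • LinearMap.id from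
    LinearMap.ext fun w => Subtype.ext (hc w w.2), map_smul, LinearMap.trace_id, smul_eq_mul]

theorem IsCst.chi_eq_zero [IsAlgClosed k] [FiniteDimensional k V] (h : IsCst σ N U)
    (hT : Tw σ N U) {g : L} (hg : g ∈ N) (hns : ¬ Scal σ U g) : chi σ U g = 0 := by
  obtain ⟨b, hb, ω, hω1, hω⟩ := h.exists_twist hT hg hns
  have e : h.rep ⟨g, hg⟩ * h.rep ⟨b, hb⟩ = ω • (h.rep ⟨b, hb⟩ * h.rep ⟨g, hg⟩) :=
    LinearMap.ext fun w => Subtype.ext (hω w w.2)
  have h1 : h.rep ⟨g, hg⟩ = ω • (h.rep ⟨b, hb⟩ * h.rep ⟨g, hg⟩ * h.rep ⟨b, hb⟩⁻¹) := by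
    calc h.rep ⟨g, hg⟩ = h.rep ⟨g, hg⟩ * h.rep ⟨b, hb⟩ * h.rep ⟨b, hb⟩⁻¹ := by
          rw [mul_assoc, ← map_mul, mul_inv_cancel, map_one, mul_one]
      _ = _ := by rw [e, smul_mul_assoc]
  have h2 := congrArg (LinearMap.trace k U) h1
  rw [map_smul, LinearMap.trace_mul_comm, ← mul_assoc, ← map_mul, inv_mul_cancel, map_one,
    one_mul, smul_eq_mul] at h2
  rw [show chi σ U g = LinearMap.trace k U (h.rep ⟨g, hg⟩) from h.chi_rep ⟨g, hg⟩]
  have h3 : (1 - ω) * LinearMap.trace k U (h.rep ⟨g, hg⟩) = 0 := by rw [sub_mul, one_mul, ← h2, sub_self]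
  exact (mul_eq_zero.mp h3).resolve_left (sub_ne_zero.mpr (Ne.symm hω1))

theorem chi_eq_of_intw [FiniteDimensional k V] {U' : Submodule k V} (h : IsCst σ N U)
    (h' : IsCst σ N U') {A : U →ₗ[k] U'} (hA : Intw h.rep h'.rep A) (hb : Function.Bijective A)
    {g : L} (hg : g ∈ N) : chi σ U' g = chi σ U g := by
  rw [show chi σ U g = _ from h.chi_rep ⟨g, hg⟩, show chi σ U' g = _ from h'.chi_rep ⟨g, hg⟩]
  set e := LinearEquiv.ofBijective A hb
  rw [show h'.rep ⟨g, hg⟩ = e.conj (h.rep ⟨g, hg⟩) from LinearMap.ext fun w => by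
    obtain ⟨v, rfl⟩ := e.surjective w
    rw [LinearEquiv.conj_apply_apply, LinearEquiv.symm_apply_apply]
    exact (hA _ v).symm]
  exact LinearMap.trace_conj' _ _

section finite

variable [IsAlgClosed k] [FiniteDimensional k V] [Finite N]

theorem card_ne_zero [Fintype N] (hN : (Nat.card N : k) ≠ 0) : (Fintype.card N : k) ≠ 0 := by
  rwa [← Nat.card_eq_fintype_card]

theorem IsCst.finrank_ne_zero (h : IsCst σ N U) (hN : (Nat.card N : k) ≠ 0) :
    (finrank k U : k) ≠ 0 := by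
  letI := Fintype.ofFinite N
  exact (schur_avg h.isIrr (card_ne_zero hN)).1

theorem IsCst.scal_iff (h : IsCst σ N U) (hN : (Nat.card N : k) ≠ 0) (hT : Tw σ N U) {g : L}
    (hg : g ∈ N) : Scal σ U g ↔ chi σ U g ≠ 0 := by
  refine ⟨fun ⟨c, hc⟩ => ?_, fun hne => ?_⟩
  · rw [chi_of_scal hc]
    exact mul_ne_zero (Scal.ne_zero h.ne hc) (h.finrank_ne_zero hN)
  · by_contra hns
    exact hne (h.chi_eq_zero hT hg hns)

/-- Constituents with the same character are isomorphic. -/
theorem exists_iso_of_chi {U' : Submodule k V} (h : IsCst σ N U) (h' : IsCst σ N U')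
    (hN : (Nat.card N : k) ≠ 0) (hT : Tw σ N U) (he : ∀ g ∈ N, chi σ U' g = chi σ U g) :
    ∃ A : U →ₗ[k] U', Intw h.rep h'.rep A ∧ Function.Bijective A := by
  classical
  letI := Fintype.ofFinite N
  by_contra hno
  push Not at hno
  have havg := avg_eq_zero h.isIrr h'.isIrr hno
  set b := Module.finBasis k U
  set b' := Module.finBasis k U'
  have htr : ∀ F : Module.End k U, LinearMap.trace k U F = ∑ i, b.coord i (F (b i)) := fun F => by
    rw [LinearMap.trace_eq_matrix_trace k b, Matrix.trace]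
    simp [Matrix.diag, LinearMap.toMatrix_apply]
  have htr' : ∀ F : Module.End k U', LinearMap.trace k U' F = ∑ i, b'.coord i (F (b' i)) := fun F => by
    rw [LinearMap.trace_eq_matrix_trace k b', Matrix.trace]
    simp [Matrix.diag, LinearMap.toMatrix_apply]
  have h0 : ∑ g : N, LinearMap.trace k U (h.rep g⁻¹) * LinearMap.trace k U' (h'.rep g) = 0 := by
    calc ∑ g : N, LinearMap.trace k U (h.rep g⁻¹) * LinearMap.trace k U' (h'.rep g)
        = ∑ g : N, ∑ i, ∑ j, b'.coord j (h'.rep g ((b.coord i).smulRight (b' j) (h.rep g⁻¹ (b i)))) := by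
          refine Finset.sum_congr rfl fun g _ => ?_
          rw [htr, htr', Finset.sum_mul]
          refine Finset.sum_congr rfl fun i _ => ?_
          rw [Finset.mul_sum]
          refine Finset.sum_congr rfl fun j _ => ?_
          rw [LinearMap.smulRight_apply, map_smul, map_smul, smul_eq_mul]
      _ = ∑ i, ∑ j, b'.coord j (avg h.rep h'.rep ((b.coord i).smulRight (b' j)) (b i)) := by
          rw [Finset.sum_comm]
          refine Finset.sum_congr rfl fun i _ => ?_
          rw [Finset.sum_comm]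
          refine Finset.sum_congr rfl fun j _ => ?_
          simp only [avg, LinearMap.sum_apply, LinearMap.comp_apply, map_sum]
      _ = 0 := by simp [havg]
  set d : k := (finrank k U : k)
  have hterm : ∀ g : N, LinearMap.trace k U (h.rep g⁻¹) * LinearMap.trace k U' (h'.rep g) =
      if Scal σ U g then d * d else 0 := by
    intro g
    rw [← h.chi_rep, ← h'.chi_rep, he g g.2]
    split_ifs with hs
    · obtain ⟨c, hc⟩ := hs
      rw [chi_of_scal hc, Subgroup.coe_inv, chi_of_scal (Scal.inv_apply h.ne hc)]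
      rw [show c⁻¹ * d * (c * d) = c⁻¹ * c * (d * d) by ring,
        inv_mul_cancel₀ (Scal.ne_zero h.ne hc), one_mul]
    · rw [h.chi_eq_zero hT g.2 hs, mul_zero]
  rw [Finset.sum_congr rfl fun g _ => hterm g, ← Finset.sum_filter, Finset.sum_const,
    nsmul_eq_mul] at h0
  have hd : d ≠ 0 := h.finrank_ne_zero hN
  refine mul_ne_zero ?_ (mul_ne_zero hd hd) h0
  intro hz
  refine hN ?_
  have hcard : (Finset.univ.filter fun g : N => Scal σ U g).card = Nat.card (h.zsub.subgroupOf N) := by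
    rw [← Fintype.card_subtype, ← Nat.card_eq_fintype_card]
    refine Nat.card_congr (Equiv.subtypeEquivRight fun g => ?_)
    rw [Subgroup.mem_subgroupOf]
    exact ⟨fun hs => ⟨g.2, hs⟩, fun hs => hs.2⟩
  obtain ⟨m, hm⟩ := Subgroup.card_subgroup_dvd_card (h.zsub.subgroupOf N)
  rw [hm, Nat.cast_mul, ← hcard, hz, zero_mul]

/-- Constituents with distinct characters are independent. -/
theorem eq_zero_of_sum_eq {ι : Type*} (h : IsCst σ N U) (hN : (Nat.card N : k) ≠ 0) (s : Finset ι)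
    (W : ι → Submodule k V) (hW : ∀ i ∈ s, IsCst σ N (W i))
    (hne : ∀ i ∈ s, ∃ g ∈ N, chi σ (W i) g ≠ chi σ U g) {w : V} (hw : w ∈ U) (f : ι → V)
    (hf : ∀ i ∈ s, f i ∈ W i) (he : w = ∑ i ∈ s, f i) : w = 0 := by
  classical
  letI := Fintype.ofFinite N
  by_contra hw0
  obtain ⟨ψ, hψ⟩ := Module.Projective.exists_dual_ne_zero k
    (show (⟨w, hw⟩ : U) ≠ 0 from fun e => hw0 (congrArg Subtype.val e))
  set T := coeffOp h.rep ψ ⟨w, hw⟩ (σ.comp N.subtype)
  obtain ⟨hd, havg⟩ := schur_avg h.isIrr (card_ne_zero hN)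
  have hT : ∀ i ∈ s, T (f i) = 0 := by
    intro i hi
    have hint : Intw (hW i hi).rep (σ.comp N.subtype) (W i).subtype := fun g v => rfl
    rw [show f i = (W i).subtype ⟨f i, hf i hi⟩ from rfl, coeffOp_apply _ _ _ _ hint,
      avg_eq_zero h.isIrr (hW i hi).isIrr, LinearMap.zero_apply, map_zero]
    intro A hA hb
    obtain ⟨g, hg, hgne⟩ := hne i hi
    exact hgne (chi_eq_of_intw h (hW i hi) hA hb hg)
  have h1 : T w = 0 := by rw [he, map_sum, Finset.sum_eq_zero hT]
  have hint : Intw h.rep (σ.comp N.subtype) U.subtype := fun g v => rfl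
  rw [show w = U.subtype ⟨w, hw⟩ from rfl, coeffOp_apply _ _ _ _ hint, havg,
    LinearMap.smul_apply, LinearMap.id_apply, map_smul, smul_eq_zero, LinearMap.trace_smulRight] at h1
  rcases h1 with h1 | h1
  · exact mul_ne_zero (div_ne_zero (card_ne_zero hN) hd) hψ h1
  · exact hw0 h1

theorem eq_zero_of_sum_zero {ι : Type*} [DecidableEq ι] (hN : (Nat.card N : k) ≠ 0) (s : Finset ι)
    (W : ι → Submodule k V) (hW : ∀ i ∈ s, IsCst σ N (W i))
    (hne : ∀ i ∈ s, ∀ j ∈ s, i ≠ j → ∃ g ∈ N, chi σ (W i) g ≠ chi σ (W j) g) (f : ι → V)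
    (hf : ∀ i ∈ s, f i ∈ W i) (he : ∑ i ∈ s, f i = 0) : ∀ i ∈ s, f i = 0 := by
  intro i hi
  refine eq_zero_of_sum_eq (hW i hi) hN (s.erase i) W (fun j hj => hW j (Finset.mem_of_mem_erase hj))
    (fun j hj => hne j (Finset.mem_of_mem_erase hj) i hi (Finset.ne_of_mem_erase hj)) (hf i hi)
    (fun j => - f j) (fun j hj => (W j).neg_mem (hf j (Finset.mem_of_mem_erase hj))) ?_
  rw [Finset.sum_neg_distrib, eq_neg_iff_add_eq_zero, Finset.add_sum_erase _ _ hi, he]

/-- The scalars have the square of the degree as index. -/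
theorem IsCst.card_quotient (h : IsCst σ N U) (hN : (Nat.card N : k) ≠ 0) (hT : Tw σ N U) :
    Nat.card (N ⧸ h.zsub.subgroupOf N) = finrank k U ^ 2 := by
  classical
  letI := Fintype.ofFinite N
  obtain ⟨hd, -⟩ := schur_avg h.isIrr (card_ne_zero hN)
  set Q := N ⧸ h.zsub.subgroupOf N
  letI := Fintype.ofFinite Q
  let v : Q → Module.End k U := fun q => h.rep q.out
  have hspan : ⊤ ≤ Submodule.span k (Set.range v) := by
    intro f _
    have h1 := sum_trace_smul h.isIrr (card_ne_zero hN) f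
    refine (Submodule.smul_mem_iff _ (div_ne_zero (card_ne_zero hN) hd)).mp (h1 ▸ ?_)
    refine Submodule.sum_mem _ fun g _ => Submodule.smul_mem _ _ ?_
    obtain ⟨⟨z, hz⟩, hgz⟩ := QuotientGroup.mk_out_eq_mul (h.zsub.subgroupOf N) g
    obtain ⟨-, c, hc⟩ := Subgroup.mem_subgroupOf.mp hz
    have : h.rep g = c⁻¹ • v (QuotientGroup.mk g) := by
      show h.rep g = c⁻¹ • h.rep (QuotientGroup.mk g : Q).out
      rw [hgz, map_mul, show h.rep z = c • (1 : Module.End k U) from
        LinearMap.ext fun w => Subtype.ext (hc w w.2), mul_smul_comm, mul_one, smul_smul,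
        inv_mul_cancel₀ (Scal.ne_zero h.ne hc), one_smul]
    rw [this]
    exact Submodule.smul_mem _ _ (Submodule.subset_span ⟨_, rfl⟩)
  have hind : LinearIndependent k v := by
    rw [Fintype.linearIndependent_iff]
    intro g hg q
    have h1 := congrArg (fun f => LinearMap.trace k U (f * h.rep q.out⁻¹)) hg
    simp only [Finset.sum_mul, zero_mul, map_zero, map_sum, smul_mul_assoc, map_smul, v,
      ← map_mul] at h1
    rw [Finset.sum_eq_single q] at h1
    · rw [mul_inv_cancel, map_one, LinearMap.trace_one, smul_eq_mul] at h1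
      exact (mul_eq_zero.mp h1).resolve_right hd
    · intro q' _ hne
      rw [← h.chi_rep, h.chi_eq_zero hT (q'.out * q.out⁻¹).2, smul_zero]
      intro hs
      refine hne ?_
      have hmem : q'.out * q.out⁻¹ ∈ h.zsub.subgroupOf N :=
        Subgroup.mem_subgroupOf.mpr ⟨(q'.out * q.out⁻¹).2, hs⟩
      rw [← QuotientGroup.out_eq' q', ← QuotientGroup.out_eq' q]
      refine QuotientGroup.eq_iff_div_mem.mpr ?_
      rw [div_eq_mul_inv]
      exact hmem
    · exact fun hq => absurd (Finset.mem_univ q) hq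
  rw [Nat.card_eq_fintype_card, ← Module.finrank_eq_card_basis (Basis.mk hind hspan),
    Module.finrank_linearMap, sq]

end finite

end CfsgLib.Gross
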