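import Cfsg.Agent.Lib.Gross.Isolate

/-!
A `2`-group of a linear group in characteristic two whose derived series kills the module in as many
steps as its length: the last derived subgroup fixes all classes and is central on each constituent.
-/

set_option autoImplicit false
set_option linter.style.haveILetI false
set_option linter.unusedSectionVars false

open Module CfsgLib.HallHigman
open scoped commutatorElement

namespace CfsgLib.Gross

/-- The products `(f (m-1) - 1) ⋯ (f 0 - 1)`. -/
def chainProd {R : Type*} [Ring R] (f : ℕ → R) : ℕ → R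
  | 0 => 1
  | m + 1 => (f m - 1) * chainProd f m

theorem chainProd_map {R S : Type*} [Ring R] [Ring S] (Ψ : R →+* S) (f : ℕ → R) (m : ℕ) :
    chainProd (fun i => Ψ (f i)) m = Ψ (chainProd f m) := by
  induction m with
  | zero => simp [chainProd]
  | succ m ih => rw [chainProd, chainProd, ih, map_mul, map_sub, map_one]

theorem chainProd_congr {R : Type*} [Ring R] {f g : ℕ → R} {m : ℕ} (h : ∀ i < m, f i = g i) :
    chainProd f m = chainProd g m := by
  induction m with
  | zero => rfl
  | succ m ih => rw [chainProd, chainProd, h m (by omega), ih fun i hi => h i (by omega)]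

/-- The subproducts. -/
def gprod {M : Type*} [Monoid M] (x : ℕ → M) : ℕ → Finset ℕ → M
  | 0, _ => 1
  | m + 1, t => (if m ∈ t then x m else 1) * gprod x m t

theorem gprod_congr {M : Type*} [Monoid M] (x : ℕ → M) {m : ℕ} {t t' : Finset ℕ}
    (h : ∀ i < m, (i ∈ t ↔ i ∈ t')) : gprod x m t = gprod x m t' := by
  induction m with
  | zero => rfl
  | succ m ih => rw [gprod, gprod, ih fun i hi => h i (by omega), if_congr (h m (by omega)) rfl rfl]

theorem gprod_mem {M : Type*} [Group M] {x : ℕ → M} {m : ℕ} {t : Finset ℕ} {H : Subgroup M}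
    (h : ∀ i < m, i ∈ t → x i ∈ H) : gprod x m t ∈ H := by
  induction m with
  | zero => exact H.one_mem
  | succ m ih =>
    rw [gprod]
    refine H.mul_mem ?_ (ih fun i hi => h i (by omega))
    split_ifs with hm
    · exact h m (by omega) hm
    · exact H.one_mem

theorem gprod_comm {M : Type*} [Group M] {x : ℕ → M} {m : ℕ} {y : M}
    (h : ∀ i < m, Commute y (x i)) (t : Finset ℕ) : Commute y (gprod x m t) := by
  induction m with
  | zero => exact Commute.one_right y
  | succ m ih =>
    rw [gprod]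
    refine Commute.mul_right ?_ (ih fun i hi => h i (by omega))
    split_ifs
    · exact h m (by omega)
    · exact Commute.one_right y

theorem gprod_map {M M' : Type*} [Monoid M] [Monoid M'] (Ψ : M →* M') (x : ℕ → M) (m : ℕ)
    (t : Finset ℕ) : Ψ (gprod x m t) = gprod (fun i => Ψ (x i)) m t := by
  induction m with
  | zero => exact map_one Ψ
  | succ m ih => rw [gprod, gprod, map_mul, ih, apply_ite Ψ, map_one]

theorem gprod_empty {M : Type*} [Monoid M] (x : ℕ → M) (m : ℕ) : gprod x m ∅ = 1 := by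
  induction m with
  | zero => rfl
  | succ m ih => rw [gprod, ih, if_neg (Finset.notMem_empty m), one_mul]

theorem chainProd_eq_sum {R M : Type*} [Ring R] [Monoid M] (h2 : ∀ r : R, r + r = 0) (ρ : M →* R)
    (x : ℕ → M) : ∀ m, chainProd (fun i => ρ (x i)) m =
      ∑ t ∈ (Finset.range m).powerset, ρ (gprod x m t) := by
  intro m
  induction m with
  | zero => simp [chainProd, gprod]
  | succ m ih =>
    have hneg : ∀ r : R, -r = r := fun r => neg_eq_of_add_eq_zero_left (h2 r)
    rw [chainProd, ih, Finset.range_add_one,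
      Finset.sum_powerset_insert Finset.notMem_range_self, Finset.mul_sum, ← Finset.sum_add_distrib]
    refine Finset.sum_congr rfl fun t ht => ?_
    have hm : m ∉ t := fun e => Finset.notMem_range_self (Finset.mem_powerset.mp ht e)
    rw [gprod, gprod, if_neg hm, one_mul, if_pos (Finset.mem_insert_self m t), map_mul,
      gprod_congr x (t := insert m t) (t' := t) (fun i hi => by
        rw [Finset.mem_insert]; exact ⟨fun e => e.resolve_left (by omega), Or.inr⟩),
      sub_mul, one_mul, sub_eq_add_neg, hneg, add_comm]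

/-- A normal step which does not descend is trivial. -/
theorem chain_mem {Γ : Type*} [Group Γ] [Finite Γ] [Group.IsNilpotent Γ] (w : ℕ → Γ) {z : Γ}
    (hz : ∀ g, g * z = z * g) {n i : ℕ} (hi : i < n)
    (hstep : ∀ l, l < n → ∃ g, w (l + 1) = g * w l * g⁻¹ * (w l)⁻¹)
    (hdep : w i ∈ Subgroup.zpowers z ⊔ Subgroup.closure {v | ∃ l, i < l ∧ l < n ∧ v = w l}) :
    ∀ l, i < l → l ≤ n → w l = 1 := by
  set NC := Subgroup.normalClosure ({w i} : Set Γ) with hNC
  set Y := ⁅NC, (⊤ : Subgroup Γ)⁆ with hY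
  haveI : Y.Normal := Subgroup.commutator_normal NC ⊤
  have hYle : Y ≤ NC := Subgroup.commutator_le_left NC ⊤
  have hw : ∀ l, i < l → l ≤ n → w l ∈ Y := by
    intro l
    induction l with
    | zero => intro hl; omega
    | succ l ih =>
      intro hl hln
      obtain ⟨g, hg⟩ := hstep l (by omega)
      have hmem : w l ∈ NC := by
        rcases Nat.lt_or_ge i l with hlt | hge
        · exact hYle (ih hlt (by omega))
        · obtain rfl : l = i := by omega
          exact Subgroup.subset_normalClosure rfl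
      rw [hg, show g * w l * g⁻¹ * (w l)⁻¹ = (⁅w l, g⁆)⁻¹ by rw [commutatorElement_def]; group]
      exact Y.inv_mem (Subgroup.commutator_mem_commutator hmem (Subgroup.mem_top g))
  haveI : (Subgroup.zpowers z).Normal := ⟨fun x hx g => by
    obtain ⟨e, rfl⟩ := Subgroup.mem_zpowers_iff.mp hx
    rw [((show Commute g z from hz g).zpow_right e).eq, mul_inv_cancel_right]
    exact hx⟩
  have hcl : Subgroup.closure {v | ∃ l, i < l ∧ l < n ∧ v = w l} ≤ Y := by
    rw [Subgroup.closure_le]
    rintro _ ⟨l, hl, hln, rfl⟩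
    exact hw l hl hln.le
  have hle : NC ≤ Subgroup.zpowers z ⊔ Y := Subgroup.normalClosure_le_normal
    (Set.singleton_subset_iff.mpr (sup_le_sup_left hcl _ hdep))
  have hYY : Y ≤ ⁅Y, (⊤ : Subgroup Γ)⁆ := by
    refine (Subgroup.commutator_mono hle (le_refl (⊤ : Subgroup Γ))).trans ?_
    refine Subgroup.commutator_le.mpr fun a ha g _ => ?_
    obtain ⟨b, hb, c, hc, rfl⟩ := Subgroup.mem_sup_of_normal_left.mp ha
    have hb' : ∀ v, Commute b v := fun v => by
      obtain ⟨e, rfl⟩ := Subgroup.mem_zpowers_iff.mp hb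
      exact ((show Commute z v from (hz v).symm).zpow_left e)
    rw [show ⁅b * c, g⁆ = b * (c * g * c⁻¹) * b⁻¹ * g⁻¹ by rw [commutatorElement_def]; group,
      (hb' _).eq, mul_inv_cancel_right]
    exact Subgroup.commutator_mem_commutator hc (Subgroup.mem_top g)
  have hYbot : Y = ⊥ := by
    by_contra hne
    have h1 := Coprime.commutator_lt_of_isNilpotent (X := (⊤ : Subgroup Γ)) (U := Y) (P := (⊤ : Subgroup Γ))
      le_top le_top Subgroup.le_normalizer_of_normal hne
    exact absurd hYY h1.not_ge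
  intro l hl hln
  have := hw l hl hln
  rwa [hYbot, Subgroup.mem_bot] at this

variable {k : Type*} [Field k] {V : Type*} [AddCommGroup V] [Module k V]
variable {L : Type*} [Group L]

/-- The images of the module under the derived series. -/
def wc (σ : L →* Module.End k V) (D : ℕ → Subgroup L) : ℕ → Submodule k V
  | 0 => ⊤
  | j + 1 => ⨆ g : D j, (wc σ D j).map (σ (g : L) - 1)

variable {σ : L →* Module.End k V} {D : ℕ → Subgroup L}

theorem sub_one_mem_wc {j : ℕ} {g : L} (hg : g ∈ D j) {v : V} (hv : v ∈ wc σ D j) :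
    σ g v - v ∈ wc σ D (j + 1) :=
  Submodule.mem_iSup_of_mem ⟨g, hg⟩ ⟨v, hv, by rw [LinearMap.sub_apply, Module.End.one_apply]⟩

theorem chain_mem_wc {j m : ℕ} {b : ℕ → L} (hb : ∀ i < m, b i ∈ D (j + i)) {v : V}
    (hv : v ∈ wc σ D j) : chainProd (fun i => σ (b i)) m v ∈ wc σ D (j + m) := by
  induction m with
  | zero => simpa [chainProd] using hv
  | succ m ih =>
    rw [chainProd, Module.End.mul_apply, LinearMap.sub_apply, Module.End.one_apply]
    exact sub_one_mem_wc (hb m (by omega)) (ih fun i hi => hb i (by omega))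

theorem wc_le (b₀ : ℕ → L) (hb₀ : ∀ i, b₀ i ∈ D i) : ∀ j, wc σ D j ≤
    ⨆ b : {b : ℕ → L // ∀ i, b i ∈ D i}, LinearMap.range (chainProd (fun i => σ (b.1 i)) j) := by
  classical
  intro j
  induction j with
  | zero =>
    intro v _
    exact Submodule.mem_iSup_of_mem ⟨b₀, hb₀⟩ ⟨v, rfl⟩
  | succ j ih =>
    refine iSup_le fun g => ?_
    refine (Submodule.map_mono ih).trans ?_
    rw [Submodule.map_iSup]
    refine iSup_le fun b => ?_
    rintro _ ⟨_, ⟨v, rfl⟩, rfl⟩
    refine Submodule.mem_iSup_of_mem ⟨Function.update b.1 j g, fun i => ?_⟩ ⟨v, ?_⟩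
    · by_cases hi : i = j
      · subst hi; rw [Function.update_self]; exact g.2
      · rw [Function.update_of_ne hi]; exact b.2 i
    · show chainProd (fun i => σ (Function.update b.1 j (g : L) i)) (j + 1) v = _
      rw [chainProd, Function.update_self, Module.End.mul_apply,
        chainProd_congr (g := fun i => σ (b.1 i)) fun i hi => by
          rw [Function.update_of_ne (by omega : i ≠ j)]]

/-- The hypotheses. -/
structure DChain (σ : L →* Module.End k V) (D : ℕ → Subgroup L) (d : ℕ) : Prop where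
  inj : Function.Injective σ
  two : IsPGroup 2 (D 0)
  step : ∀ j, D (j + 1) = ⁅D j, D j⁆
  kill : wc σ D d = ⊥

variable {d : ℕ} (hD : DChain σ D d)

include hD in
theorem DChain.anti : ∀ {i j : ℕ}, i ≤ j → D j ≤ D i := by
  intro i j hij
  induction hij with
  | refl => exact le_rfl
  | step _ ih => exact (hD.step _ ▸ Subgroup.commutator_le_self _).trans ih

include hD in
theorem DChain.conj_mem : ∀ (j : ℕ) {s a : L}, s ∈ D 0 → a ∈ D j → s * a * s⁻¹ ∈ D j := by
  intro j
  induction j with
  | zero => intro s a hs ha; exact mul_mem (mul_mem hs ha) (inv_mem hs)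
  | succ j ih =>
    intro s a hs ha
    rw [hD.step] at ha ⊢
    have hle : (D j).map (MulAut.conj s).toMonoidHom ≤ D j := by
      rintro _ ⟨c, hc, rfl⟩
      exact ih hs hc
    exact (Subgroup.map_commutator _ _ _).le.trans (Subgroup.commutator_mono hle hle)
      (Subgroup.mem_map_of_mem (MulAut.conj s).toMonoidHom ha)

include hD in
theorem DChain.range_le : ∀ (j : ℕ) {g : L}, g ∈ D j → ∀ v, σ g v - v ∈ wc σ D j := by
  intro j
  induction j with
  | zero => intro g _ v; exact Submodule.mem_top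
  | succ j ih =>
    let K : Subgroup L :=
      { carrier := {g | ∀ v, σ g v - v ∈ wc σ D (j + 1)}
        one_mem' := fun v => by simp
        mul_mem' := fun {a b} ha hb v => by
          rw [sigma_mul_apply, show σ a (σ b v) - v = (σ a (σ b v) - σ b v) + (σ b v - v) by abel]
          exact Submodule.add_mem _ (ha _) (hb v)
        inv_mem' := fun {a} ha v => by
          have := Submodule.neg_mem _ (ha (σ a⁻¹ v))
          rwa [sigma_apply_inv, neg_sub] at this }
    intro g hg
    refine (show D (j + 1) ≤ K from ?_) hg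
    rw [hD.step, Subgroup.commutator_le]
    intro s hs t ht v
    set u := σ (s⁻¹ * t⁻¹) v with hu
    have hv : σ t (σ s u) = v := by
      rw [← sigma_mul_apply, hu, ← sigma_mul_apply,
        show t * s * (s⁻¹ * t⁻¹) = 1 by group, map_one, Module.End.one_apply]
    rw [show σ ⁅s, t⁆ v = σ s (σ t u) by
      rw [hu, ← sigma_mul_apply, ← sigma_mul_apply]; congr 2; rw [commutatorElement_def]; group]
    conv => arg 2; arg 2; rw [← hv]
    rw [show σ s (σ t u) - σ t (σ s u) =
      ((σ s (σ t u - u)) - (σ t u - u)) - ((σ t (σ s u - u)) - (σ s u - u)) by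
        simp only [map_sub]; abel]
    exact Submodule.sub_mem _ (sub_one_mem_wc hs (ih ht u)) (sub_one_mem_wc ht (ih hs u))

include hD in
theorem DChain.eq_bot : D d = ⊥ := by
  refine (Subgroup.eq_bot_iff_forall _).mpr fun g hg => hD.inj (LinearMap.ext fun v => ?_)
  have := hD.range_le d hg v
  rw [hD.kill, Submodule.mem_bot, sub_eq_zero] at this
  rw [this, map_one, Module.End.one_apply]

include hD in
theorem DChain.last_comm (hd : 1 ≤ d) {a b : L} (ha : a ∈ D (d - 1)) (hb : b ∈ D (d - 1)) :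
    a * b = b * a := by
  refine commutatorElement_eq_one_iff_mul_comm.mp ?_
  rw [← Subgroup.mem_bot, ← hD.eq_bot, show d = d - 1 + 1 by omega, hD.step]
  exact Subgroup.commutator_mem_commutator ha hb

include hD in
theorem DChain.last_sq [CharP k 2] (hd : 1 ≤ d) {a : L} (ha : a ∈ D (d - 1)) : a * a = 1 := by
  refine hD.inj (LinearMap.ext fun v => ?_)
  have h1 := sub_one_mem_wc ha (hD.range_le (d - 1) ha v)
  rw [show d - 1 + 1 = d by omega, hD.kill, Submodule.mem_bot, map_sub] at h1
  have hzero : σ a v + σ a v = 0 := by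
    rw [← two_smul k (σ a v), show (2 : k) = 0 from CharTwo.two_eq_zero, zero_smul]
  rw [map_one, Module.End.one_apply, sigma_mul_apply, ← sub_eq_zero, ← h1]
  calc σ a (σ a v) - v = σ a (σ a v) - v - 0 := (sub_zero _).symm
    _ = σ a (σ a v) - σ a v - (σ a v - v) := by rw [sub_zero, ← sub_eq_zero,
        show σ a (σ a v) - v - (σ a (σ a v) - σ a v - (σ a v - v)) = σ a v + σ a v - v - v by abel,
        hzero, zero_sub, sub_eq_zero, neg_eq_iff_add_eq_zero, ← two_smul k v,
        show (2 : k) = 0 from CharTwo.two_eq_zero, zero_smul]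

variable [IsAlgClosed k] [FiniteDimensional k V] [Finite L]
variable {N : Subgroup L} [hNn : N.Normal] {U : Submodule k V}

include hD in
theorem DChain.proj (h : IsCst σ N U) {m : ℕ} (hm : ∀ i < m, ¬ D i ≤ stabU σ N U) :
    ∀ u ∈ U, ∃ w ∈ wc σ D m, w - u ∈ out σ N (D m) U := by
  induction m with
  | zero => intro u _; exact ⟨u, Submodule.mem_top, by rw [sub_self]; exact zero_mem _⟩
  | succ m ih =>
    intro u hu
    set St := stabU σ N U
    obtain ⟨s, hs, hsout⟩ : ∃ s ∈ D m, ∀ y ∈ D (m + 1), y⁻¹ * s ∉ St := by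
      by_contra hno
      push Not at hno
      refine hm m (by omega) fun g hg => ?_
      haveI : Fact (Nat.Prime 2) := ⟨Nat.prime_two⟩
      have hp : IsPGroup 2 (D m) := hD.two.to_le (hD.anti (Nat.zero_le m))
      obtain ⟨hc, -⟩ := PSolvable.commutator_le_frattini hp
      have htop : St.subgroupOf (D m) ⊔ frattini (D m) = ⊤ := by
        refine eq_top_iff.mpr fun x _ => ?_
        obtain ⟨y, hy, hyx⟩ := hno x x.2
        have hyD : y ∈ D m := hD.anti (Nat.le_succ m) hy
        have hy' : (⟨y, hyD⟩ : D m) ∈ commutator (D m) := by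
          rw [← Subgroup.mem_map_iff_mem (D m).subtype_injective, commutator_def,
            Subgroup.map_commutator, ← MonoidHom.range_eq_map, Subgroup.range_subtype, ← hD.step]
          exact hy
        rw [show x = (⟨y, hyD⟩ : D m) * ⟨y⁻¹ * x, (D m).mul_mem ((D m).inv_mem hyD) x.2⟩ from
          Subtype.ext (by simp)]
        exact mul_mem (Subgroup.mem_sup_right (hc hy'))
          (Subgroup.mem_sup_left (Subgroup.mem_subgroupOf.mpr hyx))
      have := frattini_nongenerating htop ▸ Subgroup.mem_top (⟨g, hg⟩ : D m)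
      exact this
    obtain ⟨w, hw, hwu⟩ := ih (fun i hi => hm i (by omega)) u hu
    refine ⟨-(σ s w - w), Submodule.neg_mem _ (sub_one_mem_wc hs hw), ?_⟩
    rw [show -(σ s w - w) - u = -(σ s (w - u) + σ s u - (w - u)) by rw [map_sub]; abel]
    have hle := out_anti (σ := σ) (N := N) (U := U) (hD.anti (Nat.le_succ m))
    exact Submodule.neg_mem _ (Submodule.sub_mem _ (Submodule.add_mem _ (hle (out_inv h hs _ hwu))
      (mem_out h hsout hu)) (hle hwu))

include hD in
/-- The last derived subgroup fixes all classes. -/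
theorem DChain.last_fix (hd : 1 ≤ d) (hN : (Nat.card N : k) ≠ 0) (h : IsCst σ N U) :
    D (d - 1) ≤ stabU σ N U := by
  intro a ha
  by_contra haS
  refine ne_out (K := (⊥ : Subgroup L)) hN h fun u hu => ?_
  obtain ⟨w, hw, hwu⟩ := hD.proj h (m := d - 1)
    (fun i hi hle => haS (hle (hD.anti (by omega) ha))) u hu
  have h1 := sub_one_mem_wc ha hw
  rw [show d - 1 + 1 = d by omega, hD.kill, Submodule.mem_bot] at h1
  have hle := out_anti (σ := σ) (N := N) (U := U) (bot_le (a := D (d - 1)))
  rw [show u = σ (a : L) (w - u) + σ a u - (w - u) - (σ a w - w) by rw [map_sub]; abel, h1, sub_zero]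
  exact Submodule.sub_mem _ (Submodule.add_mem _ (hle (out_inv h ha _ hwu))
    (mem_out h (fun y hy => by rw [Subgroup.mem_bot.mp hy, inv_one, one_mul]; exact haS) hu)) (hle hwu)

section cst

variable [CharP k 2] {q : ℕ} [hqp : Fact q.Prime]

include hD in
/-- An element of the last term moving a constituent. -/
theorem DChain.stab_of_moved (hd : 2 ≤ d) (hN : (Nat.card N : k) ≠ 0) (h : IsCst σ N U)
    (hT : Tw σ N U) {z : L} (hz : z ∈ D (d - 1)) (hzk : z ∉ h.qker hN hT) :
    D (d - 2) ≤ stabU σ N U := by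
  by_contra hB
  have hzS := hD.last_fix (by omega) hN h hz
  have hout : ∀ u ∈ U, σ z u - u ∈ out σ N ⊥ U := by
    intro u hu
    obtain ⟨w, hw, hwu⟩ := hD.proj h (m := d - 1)
      (fun i hi hle => hB ((hD.anti (by omega : i ≤ d - 2)).trans hle)) u hu
    have h1 := sub_one_mem_wc hz hw
    rw [show d - 1 + 1 = d by omega, hD.kill, Submodule.mem_bot] at h1
    rw [show σ z u - u = (σ z w - w) - (σ z (w - u) - (w - u)) by rw [map_sub]; abel, h1, zero_sub]
    exact Submodule.neg_mem _ (out_anti bot_le (Submodule.sub_mem _ (out_inv h hz _ hwu) hwu))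
  refine hzk (inv_inv z ▸ inv_mem ((h.mem_qker hN hT).mpr ⟨inv_mem hzS, fun v hv => ?_⟩))
  refine ⟨N.mul_mem (hNn.conj_mem v hv z⁻¹) (N.inv_mem hv), 1, fun u' hu' => ?_⟩
  have key : ∀ u ∈ U, σ (z⁻¹ * v * z) u = σ v u := by
    intro u hu
    have hv' : z⁻¹ * v * z ∈ N := conj_mem' z hv
    have h1 := Submodule.sub_mem _ (hout _ (h.inv v hv u hu)) (out_inv_mem hv _ (hout u hu))
    rw [map_sub, show σ z (σ v u) - σ v u - (σ v (σ z u) - σ v u) =
      σ z (σ v u - σ (z⁻¹ * v * z) u) by
        rw [map_sub, ← sigma_mul_apply z (z⁻¹ * v * z), show z * (z⁻¹ * v * z) = v * z by group,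
          sigma_mul_apply]; abel] at h1
    exact (sub_eq_zero.mp (translate_out (K := ⊥) hN h hzS
      (U.sub_mem (h.inv v hv u hu) (h.inv _ hv' u hu)) h1)).symm
  rw [one_smul, sigma_mul_apply, inv_inv, key _ (h.inv _ (N.inv_mem hv) u' hu'), sigma_apply_inv]

include hD in
/-- A vanishing chain gives a dependency. -/
theorem DChain.dependent (hq2 : q ≠ 2) (hpow : ∀ a ∈ N, ∀ c ∈ N, a ^ q * c = c * a ^ q)
    (hN : (Nat.card N : k) ≠ 0) (h : IsCst σ N U) (hT : Tw σ N U) (x : ℕ → (D 0 ⊓ stabU σ N U : Subgroup L))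
    {m : ℕ}
    (hcomm : ∀ i < m, ∀ j < m, Commute (h.qact hN hT ⟨x i, (x i).2.2⟩) (h.qact hN hT ⟨x j, (x j).2.2⟩))
    (hsq : ∀ i < m, h.qact hN hT ⟨x i, (x i).2.2⟩ * h.qact hN hT ⟨x i, (x i).2.2⟩ = 1)
    (hrel : ∀ u ∈ U, chainProd (fun i => σ (x i : L)) m u ∈ out σ N ⊥ U) :
    ∃ t ⊆ Finset.range m, t.Nonempty ∧
      gprod (fun i => h.qact hN hT ⟨x i, (x i).2.2⟩) m t = 1 := by
  classical
  let Y := (D 0 ⊓ stabU σ N U : Subgroup L)
  let φ : Y →* MulAut (N ⧸ h.zsub.subgroupOf N) :=
    (h.qact hN hT).comp (Subgroup.inclusion (inf_le_right : Y ≤ stabU σ N U))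
  let ι := {t : Finset ℕ // t ∈ (Finset.range m).powerset}
  let g : ι → L := fun t => (gprod x m t.1 : Y)
  by_contra hno
  push Not at hno
  let y : ℕ → MulAut (N ⧸ h.zsub.subgroupOf N) := fun i => h.qact hN hT ⟨x i, (x i).2.2⟩
  have hcomm' : ∀ i < m, ∀ j < m, Commute (y i) (y j) := hcomm
  have hsq' : ∀ i < m, y i * y i = 1 := hsq
  have hno' : ∀ t ⊆ Finset.range m, t.Nonempty → gprod y m t ≠ 1 := hno
  have hφg : ∀ t, h.qact hN hT ⟨g t, (gprod x m t.1).2.2⟩ = gprod y m t.1 :=
    fun t => gprod_map φ x m t.1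
  have hgc : ∀ t t' : ι, Commute (gprod y m t.1) (gprod y m t'.1) :=
    fun t t' => gprod_comm (fun i hi => (gprod_comm (fun j hj => hcomm' i hi j hj) t.1).symm) t'.1
  have hgs : ∀ t : Finset ℕ, gprod y m t * gprod y m t = 1 := by
    intro t
    suffices ∀ l ≤ m, gprod y l t * gprod y l t = 1 from this m le_rfl
    intro l
    induction l with
    | zero => intro _; exact one_mul 1
    | succ l ih =>
      intro hl
      rw [gprod]
      split_ifs with hlt
      · rw [(gprod_comm (fun i hi => hcomm' l (by omega) i (by omega)) t).symm.mul_mul_mul_comm,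
          ih (by omega), mul_one]
        exact hsq' l (by omega)
      · rw [one_mul]; exact ih (by omega)
  refine isolate (ι := ι) hq2 hpow hN h hT Y (hD.two.to_le inf_le_left) inf_le_right g
    (fun t => (gprod x m t.1).2) (fun t t' => by rw [hφg, hφg]; exact hgc t t')
    (fun t => by rw [hφg]; exact hgs t.1) ⟨∅, Finset.empty_mem_powerset _⟩ (fun t ht e => ?_) ?_
  · rw [hφg, hφg, gprod_empty] at e
    refine hno' t.1 (Finset.mem_powerset.mp t.2) (Finset.nonempty_iff_ne_empty.mpr ?_) e
    exact fun e' => ht (Subtype.ext e')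
  · intro u hu
    have h2 : ∀ r : Module.End k V, r + r = 0 := fun r => LinearMap.ext fun v => by
      rw [LinearMap.add_apply, ← two_smul k (r v), show (2 : k) = 0 from CharTwo.two_eq_zero, zero_smul,
        LinearMap.zero_apply]
    have h3 := hrel u hu
    rw [show (fun i => σ (x i : L)) = fun i => (σ.comp Y.subtype) (x i) from rfl,
      chainProd_eq_sum h2 (σ.comp Y.subtype) x m, LinearMap.sum_apply] at h3
    rw [← Finset.sum_coe_sort] at h3
    exact h3

include hD in
/-- The last term is central on each constituent. -/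
theorem DChain.central (hq2 : q ≠ 2) (hd : 2 ≤ d) (hpow : ∀ a ∈ N, ∀ c ∈ N, a ^ q * c = c * a ^ q)
    (hN : (Nat.card N : k) ≠ 0) (h : IsCst σ N U) (hT : Tw σ N U) {z s : L} (hz : z ∈ D (d - 1))
    (hs : s ∈ D 0) (hsS : s ∈ stabU σ N U) :
    Commute (h.qact hN hT ⟨z, hD.last_fix (by omega) hN h hz⟩) (h.qact hN hT ⟨s, hsS⟩) := by
  set z' := s * z * s⁻¹ with hz'
  have hz'D : z' ∈ D (d - 1) := hD.conj_mem _ hs hz
  let Y := (D 0 ⊓ stabU σ N U : Subgroup L)
  have hY : ∀ {a}, a ∈ D (d - 1) → a ∈ Y := fun ha =>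
    ⟨hD.anti (Nat.zero_le _) ha, hD.last_fix (by omega) hN h ha⟩
  let x : ℕ → Y := fun i => if i = 0 then ⟨z, hY hz⟩ else ⟨z', hY hz'D⟩
  have hx : ∀ i, (x i : L) ∈ D (d - 1) := fun i => by
    simp only [x]; split_ifs
    · exact hz
    · exact hz'D
  set π := h.qact hN hT
  obtain ⟨t, ht, htne, he⟩ := hD.dependent hq2 hpow hN h hT x (m := 2)
    (fun i _ j _ => by
      show _ * _ = _ * _
      rw [← map_mul, ← map_mul]
      exact congrArg π (Subtype.ext (hD.last_comm (by omega) (hx i) (hx j))))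
    (fun i _ => by
      rw [← map_mul, show (⟨(x i : L), (x i).2.2⟩ : stabU σ N U) * ⟨x i, (x i).2.2⟩ = 1 from
        Subtype.ext (hD.last_sq (by omega) (hx i)), map_one])
    (fun u _ => by
      have h1 := sub_one_mem_wc (hx 1) (hD.range_le (d - 1) (hx 0) u)
      rw [show d - 1 + 1 = d by omega, hD.kill, Submodule.mem_bot] at h1
      simp only [chainProd, mul_one, Module.End.mul_apply, LinearMap.sub_apply, Module.End.one_apply]
      rw [h1]
      exact zero_mem _)
  have hconj : π ⟨z', hD.last_fix (by omega) hN h hz'D⟩ =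
      π ⟨s, hsS⟩ * π ⟨z, hD.last_fix (by omega) hN h hz⟩ * (π ⟨s, hsS⟩)⁻¹ := by
    rw [← map_inv, ← map_mul, ← map_mul]
    rfl
  simp only [gprod, mul_one] at he
  have hx0 : π ⟨(x 0 : L), (x 0).2.2⟩ = π ⟨z, hD.last_fix (by omega) hN h hz⟩ := rfl
  have hx1 : π ⟨(x 1 : L), (x 1).2.2⟩ = π ⟨z', hD.last_fix (by omega) hN h hz'D⟩ := rfl
  rw [hx0, hx1, hconj] at he
  set a := π ⟨z, hD.last_fix (by omega) hN h hz⟩
  set b := π ⟨s, hsS⟩
  have ha2 : a * a = 1 := by
    show π _ * π _ = 1
    rw [← map_mul]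
    exact (congrArg π (Subtype.ext (hD.last_sq (by omega) hz))).trans (map_one π)
  show a * b = b * a
  by_cases h1 : 1 ∈ t <;> by_cases h0 : 0 ∈ t
  · simp only [h1, h0, if_true] at he
    calc a * b = (b * a * b⁻¹ * a) * (a * b) := by rw [he, one_mul]
      _ = b * a * b⁻¹ * (a * a) * b := by group
      _ = b * a := by rw [ha2]; group
  · simp only [h1, h0, if_true, if_false, mul_one] at he
    have : a = 1 := by
      calc a = b⁻¹ * (b * a * b⁻¹) * b := by group
        _ = 1 := by rw [he]; group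
    rw [this, one_mul, mul_one]
  · simp only [h1, h0, if_true, if_false, one_mul] at he
    rw [he, one_mul, mul_one]
  · obtain ⟨i, hi⟩ := htne
    have := Finset.mem_range.mp (ht hi)
    obtain rfl | rfl : i = 0 ∨ i = 1 := by omega
    · exact absurd hi h0
    · exact absurd hi h1

include hD in
/-- The commutators of the last term with a stabiliser are trivial. -/
theorem DChain.comm_qker (hq2 : q ≠ 2) (hd : 2 ≤ d) (hpow : ∀ a ∈ N, ∀ c ∈ N, a ^ q * c = c * a ^ q)
    (hN : (Nat.card N : k) ≠ 0) (h : IsCst σ N U) (hT : Tw σ N U) {z s : L} (hz : z ∈ D (d - 1))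
    (hs : s ∈ D 0) (hsS : s ∈ stabU σ N U) : z * s * z⁻¹ * s⁻¹ ∈ h.qker hN hT := by
  have hc := hD.central hq2 hd hpow hN h hT hz hs hsS
  refine ⟨⟨z, hD.last_fix (by omega) hN h hz⟩ * ⟨s, hsS⟩ *
    (⟨z, hD.last_fix (by omega) hN h hz⟩)⁻¹ * (⟨s, hsS⟩)⁻¹, ?_, rfl⟩
  show h.qact hN hT _ = 1
  rw [map_mul, map_mul, map_mul, map_inv, map_inv, hc.eq, mul_inv_cancel_right, mul_inv_cancel]

include hD in
/-- Iterated commutators along the series, inside an elementary abelian invariant subgroup fixing all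
classes, die on every constituent. -/
theorem DChain.omega (hq2 : q ≠ 2) (hd : 2 ≤ d) (hpow : ∀ a ∈ N, ∀ c ∈ N, a ^ q * c = c * a ^ q)
    (hN : (Nat.card N : k) ≠ 0) (h : IsCst σ N U) (hT : Tw σ N U) {E : Subgroup L} (hE0 : E ≤ D 0)
    (hES : E ≤ stabU σ N U) (hEc : ∀ a ∈ E, ∀ b ∈ E, a * b = b * a) (hEs : ∀ a ∈ E, a * a = 1)
    (hEi : ∀ s ∈ D 0, ∀ a ∈ E, s * a * s⁻¹ ∈ E) {w s : ℕ → L} (hw0 : w 0 ∈ E)
    (hs : ∀ i < d - 1, s i ∈ D i)
    (hw : ∀ i < d - 1, w (i + 1) = s i * w i * (s i)⁻¹ * (w i)⁻¹) : w (d - 1) ∈ h.qker hN hT := by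
  classical
  have hwE : ∀ i, i ≤ d - 1 → w i ∈ E ∧ w i ∈ D i := by
    intro i
    induction i with
    | zero => exact fun _ => ⟨hw0, hE0 hw0⟩
    | succ i ih =>
      intro hi
      obtain ⟨h1, h2⟩ := ih (by omega)
      have hsi := hs i (by omega)
      rw [hw i (by omega)]
      refine ⟨E.mul_mem (hEi _ (hD.anti (Nat.zero_le i) hsi) _ h1) (E.inv_mem h1), ?_⟩
      rw [hD.step, ← commutatorElement_def]
      exact Subgroup.commutator_mem_commutator hsi h2
  by_cases hall : D (d - 1) ≤ h.qker hN hT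
  · exact hall (hwE _ le_rfl).2
  obtain ⟨z, hz, hzk⟩ := SetLike.not_le_iff_exists.mp hall
  have hB := hD.stab_of_moved hd hN h hT hz hzk
  have hex : ∃ i, D i ≤ stabU σ N U := ⟨d - 2, hB⟩
  set j := Nat.find hex
  have hjS : D j ≤ stabU σ N U := Nat.find_spec hex
  have hjd : j ≤ d - 2 := Nat.find_min' hex hB
  set n := d - 1 - j with hn
  let Y := (D 0 ⊓ stabU σ N U : Subgroup L)
  have hzY : z ∈ Y := ⟨hD.anti (Nat.zero_le _) hz, hD.last_fix (by omega) hN h hz⟩
  have hwY : ∀ i, i ≤ d - 1 → w i ∈ Y := fun i hi => ⟨hE0 (hwE i hi).1, hES (hwE i hi).1⟩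
  let x : ℕ → Y := fun i => if hi : i < n then ⟨w (j + i), hwY _ (by omega)⟩ else ⟨z, hzY⟩
  let φ : Y →* MulAut (N ⧸ h.zsub.subgroupOf N) :=
    (h.qact hN hT).comp (Subgroup.inclusion (inf_le_right : Y ≤ stabU σ N U))
  have hzc : ∀ v : Y, Commute (φ ⟨z, hzY⟩) (φ v) := fun v =>
    hD.central hq2 hd hpow hN h hT hz v.2.1 v.2.2
  have hxE : ∀ i, i < n → (x i : L) ∈ E := fun i hi => by
    simp only [x, dif_pos hi]; exact (hwE _ (by omega)).1
  have hxz : ∀ i, ¬ i < n → x i = ⟨z, hzY⟩ := fun i hi => by simp only [x, dif_neg hi]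
  have hcomm : ∀ i i', Commute (φ (x i)) (φ (x i')) := by
    intro i i'
    by_cases hi : i < n
    · by_cases hi' : i' < n
      · show _ * _ = _ * _
        rw [← map_mul, ← map_mul]
        exact congrArg φ (Subtype.ext (hEc _ (hxE i hi) _ (hxE i' hi')))
      · rw [hxz i' hi']; exact (hzc _).symm
    · rw [hxz i hi]; exact hzc _
  have hsq' : ∀ i, φ (x i) * φ (x i) = 1 := by
    intro i
    rw [← map_mul, show x i * x i = 1 from Subtype.ext (by
      by_cases hi : i < n
      · exact hEs _ (hxE i hi)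
      · rw [hxz i hi]; exact hD.last_sq (by omega) hz), map_one]
  obtain ⟨t, ht, htne, he⟩ := hD.dependent hq2 hpow hN h hT x (m := n + 1)
    (fun i _ i' _ => hcomm i i') (fun i _ => hsq' i) (fun u hu => by
      obtain ⟨w', hw', hwu⟩ := hD.proj h (m := j) (fun i hi => Nat.find_min hex hi) u hu
      have hxD : ∀ i < n + 1, (x i : L) ∈ D (j + i) := fun i hi => by
        by_cases hin : i < n
        · simp only [x, dif_pos hin]; exact (hwE _ (by omega)).2
        · rw [hxz i hin, show j + i = d - 1 by omega]; exact hz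
      have h1 := chain_mem_wc (σ := σ) hxD hw'
      rw [show j + (n + 1) = d by omega, hD.kill, Submodule.mem_bot] at h1
      rw [show u = w' - (w' - u) by abel, map_sub, h1, zero_sub]
      refine Submodule.neg_mem _ (out_anti (K := D j) bot_le ?_)
      clear h1
      have key : ∀ l ≤ n + 1, chainProd (fun i => σ (x i : L)) l (w' - u) ∈ out σ N (D j) U := by
        intro l
        induction l with
        | zero => intro _; exact hwu
        | succ l ihl =>
          intro hl
          rw [chainProd, Module.End.mul_apply, LinearMap.sub_apply, Module.End.one_apply]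
          exact Submodule.sub_mem _ (out_inv h (hD.anti (Nat.le_add_right j l) (hxD l (by omega))) _
            (ihl (by omega))) (ihl (by omega))
      exact key _ le_rfl)
  -- the least element
  set i := t.min' htne with hi
  have hit : i ∈ t := Finset.min'_mem t htne
  have hin : i < n := by
    by_contra hge
    have hall' : t = {n} := Finset.eq_singleton_iff_unique_mem.mpr
      ⟨by
        have h1 := Finset.mem_range.mp (ht hit)
        rwa [show n = i by omega],
      fun l hl => by
        have h1 := Finset.mem_range.mp (ht hl)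
        have h2 := Finset.min'_le t l hl
        omega⟩
    rw [hall', gprod, if_pos (Finset.mem_singleton_self n),
      gprod_congr _ (t' := ∅) (fun l hl => by simp; omega), gprod_empty, mul_one] at he
    refine hzk ⟨⟨z, hzY.2⟩, ?_, rfl⟩
    show h.qact hN hT _ = 1
    have hxn : φ (x n) = φ ⟨z, hzY⟩ := by rw [hxz n (lt_irrefl n)]
    exact hxn.symm.trans he
  haveI : Fact (Nat.Prime 2) := ⟨Nat.prime_two⟩
  let Γ := φ.range
  haveI := finite_mulAut (N ⧸ h.zsub.subgroupOf N)
  haveI : Group.IsNilpotent Γ :=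
    ((hD.two.to_le (inf_le_left : Y ≤ D 0)).of_surjective _ φ.rangeRestrict_surjective).isNilpotent
  let r : Y →* Γ := φ.rangeRestrict
  let W : ℕ → Γ := fun l => if hl : l ≤ n then r ⟨w (j + l), hwY _ (by omega)⟩ else 1
  have hstep : ∀ l, l < n → ∃ g, W (l + 1) = g * W l * g⁻¹ * (W l)⁻¹ := by
    intro l hl
    have hsl := hs (j + l) (by omega)
    refine ⟨r ⟨s (j + l), hD.anti (Nat.zero_le _) hsl, hjS (hD.anti (Nat.le_add_right j l) hsl)⟩, ?_⟩
    simp only [W, dif_pos hl.le, dif_pos (show l + 1 ≤ n by omega), ← map_inv, ← map_mul]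
    exact congrArg r (Subtype.ext (hw (j + l) (by omega)))
  have hrx : ∀ l, l < n → (r (x l) : Γ) = W l := fun l hl => by
    simp only [W, x, dif_pos hl, dif_pos hl.le]
  set S' := Subgroup.zpowers (r ⟨z, hzY⟩) ⊔ Subgroup.closure {v | ∃ l, i < l ∧ l < n ∧ v = W l}
  have hdep : W i ∈ S' := by
    have h1 : gprod (fun l => r (x l)) (n + 1) t = 1 := by
      refine Subtype.ext ?_
      rw [← Subgroup.coe_subtype, gprod_map]
      exact he
    -- split off the least element
    have hsplit : ∀ m, i < m → m ≤ n + 1 →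
        ∃ a ∈ S', gprod (fun l => r (x l)) m t = a * r (x i) := by
      intro m him
      induction m with
      | zero => omega
      | succ m ih =>
        intro hm
        rcases Nat.lt_or_ge i m with hlt | hge
        · obtain ⟨a, ha, hae⟩ := ih hlt (by omega)
          refine ⟨(if m ∈ t then r (x m) else 1) * a, S'.mul_mem ?_ ha, by rw [gprod, hae, mul_assoc]⟩
          split_ifs with hmt
          · by_cases hmn : m < n
            · exact Subgroup.mem_sup_right (Subgroup.subset_closure ⟨m, hlt, hmn, hrx m hmn⟩)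
            · rw [hxz m hmn]; exact Subgroup.mem_sup_left (Subgroup.mem_zpowers _)
          · exact S'.one_mem
        · obtain rfl : m = i := by omega
          refine ⟨1, S'.one_mem, ?_⟩
          rw [gprod, if_pos hit, gprod_congr _ (t' := ∅) (fun l hl => ⟨fun hlt' =>
            absurd (Finset.min'_le t l hlt') (by omega), fun e => absurd e (Finset.notMem_empty l)⟩),
            gprod_empty, mul_one, one_mul]
    obtain ⟨a, ha, hae⟩ := hsplit (n + 1) (by omega) le_rfl
    rw [h1, hrx i hin] at hae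
    rw [show W i = a⁻¹ from eq_inv_of_mul_eq_one_right hae.symm]
    exact S'.inv_mem ha
  have hfin := chain_mem W (z := r ⟨z, hzY⟩) (fun g => by
    obtain ⟨v, hv⟩ := φ.rangeRestrict_surjective g
    rw [← hv]
    exact Subtype.ext (hzc v).eq.symm) hin hstep hdep n hin le_rfl
  simp only [W, dif_pos (le_refl n)] at hfin
  refine ⟨⟨w (d - 1), (hwY _ le_rfl).2⟩, ?_, rfl⟩
  show h.qact hN hT _ = 1
  have := congrArg Subtype.val hfin
  simp only [show j + n = d - 1 by omega] at this
  exact this

end cst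

end CfsgLib.Gross
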