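import Cfsg.Agent.Lib.Gross.Exponent
import Cfsg.Agent.Lib.Gross.Derived
import Cfsg.Agent.Lib.HallHigman.FermatSeries

/-!
The `2`-length of a soluble group is at most the derived length of its Sylow `2`-subgroups.
-/

set_option autoImplicit false
set_option linter.style.haveILetI false
set_option linter.unusedSectionVars false

open Module CfsgLib.HallHigman
open scoped commutatorElement Pointwise

namespace CfsgLib.Gross

local notation "𝕜" => AlgebraicClosure (ZMod 2)

/-- An elementary section as a module. -/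
theorem factor_chain {M : Type*} [Group M] {P : Type*} [Group P] [Finite P] (ψ : M →* MulAut P)
    (A B : Subgroup P) (hA : ∀ g, ∀ a ∈ A, ψ g a ∈ A) (hB : ∀ g, ∀ b ∈ B, ψ g b ∈ B) (hBA : B ≤ A)
    (hn : ∀ a ∈ A, ∀ b ∈ B, a * b * a⁻¹ ∈ B) (hsq : ∀ a ∈ A, a * a ∈ B) :
    ∃ (d : ℕ) (ρ : M →* Module.End 𝕜 (Fin d → 𝕜)),
      (∀ g, ρ g = 1 ↔ ∀ a ∈ A, a⁻¹ * ψ g a ∈ B) ∧
      ∀ (b : ℕ → M) (m : ℕ),
        (∀ t ∈ A, ∃ w : ℕ → P, w 0 = t ∧ (∀ i < m, w (i + 1) = ψ (b i) (w i) * (w i)⁻¹) ∧ w m ∈ B) →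
          chainProd (fun i => ρ (b i)) m = 0 := by
  classical
  set K := B.subgroupOf A
  haveI : K.Normal := ⟨fun b hb g => by
    rw [Subgroup.mem_subgroupOf] at hb ⊢
    exact hn g g.2 b hb⟩
  have hE : ∀ v : A ⧸ K, v * v = 1 := by
    intro v
    obtain ⟨a, rfl⟩ := QuotientGroup.mk'_surjective K v
    rw [← map_mul]
    exact (QuotientGroup.eq_one_iff _).mpr (Subgroup.mem_subgroupOf.mpr (hsq a a.2))
  letI : CommGroup (A ⧸ K) :=
    { (inferInstance : Group (A ⧸ K)) with
      mul_comm := fun e e' => by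
        calc e * e' = (e * e') * ((e' * e) * (e' * e)) := by rw [hE, mul_one]
          _ = e * (e' * e') * e * (e' * e) := by group
          _ = e' * e := by rw [hE e', mul_one, hE e, one_mul] }
  letI : Module (ZMod 2) (Additive (A ⧸ K)) :=
    AddCommGroup.zmodModule (n := 2) (G := Additive (A ⧸ K)) fun v =>
      Additive.toMul.injective (by
        rw [toMul_nsmul, sq, hE]
        rfl)
  haveI : Finite (Additive (A ⧸ K)) := inferInstanceAs (Finite (A ⧸ K))
  haveI : FiniteDimensional (ZMod 2) (Additive (A ⧸ K)) := Module.Finite.of_finite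
  let ψA : M → A →* A := fun g =>
    MonoidHom.mk' (fun a => ⟨ψ g a, hA g a a.2⟩) fun a b => Subtype.ext (map_mul (ψ g) (a : P) b)
  let qm : M → (A ⧸ K) →* (A ⧸ K) := fun g => QuotientGroup.map K K (ψA g) fun a ha => by
    rw [Subgroup.mem_comap, Subgroup.mem_subgroupOf]
    exact hB g _ (Subgroup.mem_subgroupOf.mp ha)
  have hq1 : ∀ v, qm 1 v = v := fun v => by
    obtain ⟨a, rfl⟩ := QuotientGroup.mk'_surjective K v
    show QuotientGroup.mk (ψA 1 a) = _
    rw [show ψA 1 a = a from Subtype.ext (by show ψ 1 (a : P) = a; rw [map_one]; rfl)]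
    rfl
  have hqm : ∀ g g' v, qm (g * g') v = qm g (qm g' v) := fun g g' v => by
    obtain ⟨a, rfl⟩ := QuotientGroup.mk'_surjective K v
    show QuotientGroup.mk (ψA (g * g') a) = QuotientGroup.mk (ψA g (ψA g' a))
    rw [show ψA (g * g') a = ψA g (ψA g' a) from Subtype.ext (by
      show ψ (g * g') (a : P) = ψ g (ψ g' (a : P)); rw [map_mul]; rfl)]
  let φ : M →* MulAut (A ⧸ K) :=
    MonoidHom.mk' (fun g =>
      { toFun := qm g
        invFun := qm g⁻¹
        left_inv := fun v => by rw [← hqm, inv_mul_cancel, hq1]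
        right_inv := fun v => by rw [← hqm, mul_inv_cancel, hq1]
        map_mul' := map_mul (qm g) }) fun g g' => MulEquiv.ext fun v => hqm g g' v
  have φmk : ∀ g (a : A), φ g (QuotientGroup.mk a) = QuotientGroup.mk (ψA g a) := fun _ _ => rfl
  let ρ₀ := endOfAut (p := 2) φ
  refine ⟨_, (toBar 𝕜).toMonoidHom.comp ρ₀, fun g => ?_, fun b m h => ?_⟩
  · have hiff : (toBar 𝕜).toMonoidHom.comp ρ₀ g = 1 ↔ φ g = 1 := by
      constructor
      · intro e
        have e' : ρ₀ g = 1 := toBar_injective 𝕜 (e.trans (map_one _).symm)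
        refine MulEquiv.ext fun v => Additive.ofMul.injective ?_
        exact LinearMap.congr_fun e' (Additive.ofMul v)
      · intro e
        show toBar 𝕜 (ρ₀ g) = 1
        rw [show ρ₀ g = 1 from LinearMap.ext fun v => by
          show Additive.ofMul (φ g (Additive.toMul v)) = v
          rw [e]; rfl, map_one]
    rw [hiff]
    constructor
    · intro e a ha
      have h1 := congrArg (fun χ : MulAut (A ⧸ K) => χ (QuotientGroup.mk (⟨a, ha⟩ : A))) e
      simp only [φmk, MulAut.one_apply] at h1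
      exact Subgroup.mem_subgroupOf.mp (QuotientGroup.eq.mp h1.symm)
    · intro e
      refine MulEquiv.ext fun v => ?_
      obtain ⟨a, rfl⟩ := QuotientGroup.mk'_surjective K v
      rw [QuotientGroup.mk'_apply, φmk, MulAut.one_apply]
      exact (QuotientGroup.eq.mpr (Subgroup.mem_subgroupOf.mpr (e a a.2))).symm
  · have h0 : chainProd (fun i => ρ₀ (b i)) m = 0 := by
      refine LinearMap.ext fun v => ?_
      obtain ⟨⟨t, ht⟩, hv⟩ := QuotientGroup.mk'_surjective K (Additive.toMul v)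
      obtain ⟨w, hw0, hws, hwm⟩ := h t ht
      have hwA : ∀ i, i ≤ m → w i ∈ A := fun i => by
        induction i with
        | zero => intro _; rw [hw0]; exact ht
        | succ i ih =>
          intro hi
          rw [hws i (by omega)]
          exact A.mul_mem (hA _ _ (ih (by omega))) (A.inv_mem (ih (by omega)))
      have key : ∀ l (hl : l ≤ m), chainProd (fun i => ρ₀ (b i)) l v =
          Additive.ofMul (QuotientGroup.mk (⟨w l, hwA l hl⟩ : A)) := by
        intro l
        induction l with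
        | zero =>
          intro hl
          rw [chainProd, Module.End.one_apply,
            show (⟨w 0, hwA 0 hl⟩ : A) = ⟨t, ht⟩ from Subtype.ext hw0]
          exact hv.symm
        | succ l ih =>
          intro hl
          rw [chainProd, Module.End.mul_apply, ih (by omega), LinearMap.sub_apply, Module.End.one_apply]
          show Additive.ofMul (φ (b l) (QuotientGroup.mk _)) - _ = _
          rw [φmk, sub_eq_add_neg, ← ofMul_inv, ← ofMul_mul, ← QuotientGroup.mk_inv, ← QuotientGroup.mk_mul]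
          exact congrArg (fun a : A => Additive.ofMul (QuotientGroup.mk a)) (Subtype.ext (hws l (by omega)).symm)
      rw [LinearMap.zero_apply, key m le_rfl,
        (QuotientGroup.eq_one_iff (⟨w m, hwA m le_rfl⟩ : A)).mpr (Subgroup.mem_subgroupOf.mpr hwm)]
      rfl
    show chainProd (fun i => toBar 𝕜 (ρ₀ (b i))) m = 0
    rw [chainProd_map, h0, map_zero]

theorem piRep_chain {M : Type*} [Monoid M] {ι : Type*} {V : ι → Type*} [∀ i, AddCommGroup (V i)]
    [∀ i, Module 𝕜 (V i)] (ρ : ∀ i, M →* Module.End 𝕜 (V i)) (b : ℕ → M) (m : ℕ) (v : ∀ i, V i) (i : ι) :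
    chainProd (fun j => piRep ρ (b j)) m v i = chainProd (fun j => ρ i (b j)) m (v i) := by
  induction m with
  | zero => rfl
  | succ m ih =>
    rw [chainProd, chainProd, Module.End.mul_apply, Module.End.mul_apply, ← ih]
    rfl

universe u

set_option maxHeartbeats 1600000 in
/-- Lowering the length of the derived chain. -/
theorem next_chain {H : Type u} [Group H] [Finite H] [Group.IsSolvable H] {V : Type} [AddCommGroup V]
    [Module 𝕜 V] [FiniteDimensional 𝕜 V] (σ : H →* Module.End 𝕜 V) (hσ : Function.Injective σ)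
    {d : ℕ} (hd : 2 ≤ d) (hO : Cfsg.pCore 2 H = ⊥) (S : Sylow 2 H) {D : ℕ → Subgroup H}
    (hD0 : D 0 = S) (hD : DChain σ D d)
    (hO' : Cfsg.pCore 2 (H ⧸ (Cfsg.upperPSeries 2 H 2).1) = ⊥) :
    ∃ (W : Type) (_ : AddCommGroup W) (_ : Module 𝕜 W) (_ : FiniteDimensional 𝕜 W)
      (σ' : H ⧸ (Cfsg.upperPSeries 2 H 2).1 →* Module.End 𝕜 W), Function.Injective σ' ∧
        DChain σ' (fun i => (D i).map (QuotientGroup.mk' (Cfsg.upperPSeries 2 H 2).1)) (d - 1) := by
  classical
  haveI : Fact (Nat.Prime 2) := ⟨Nat.prime_two⟩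
  haveI : CharP 𝕜 2 := charP_of_injective_algebraMap (algebraMap (ZMod 2) 𝕜).injective 2
  set T := (Cfsg.upperPSeries 2 H 2).1 with hT
  set U₁ := (Cfsg.upperPSeries 2 H 1).1 with hU₁
  have hidx : ¬ 2 ∣ ((S : Subgroup H).subgroupOf T).index := fun h => S.not_dvd_index (h.trans (by
    show (S : Subgroup H).relIndex T ∣ _
    have h1 := Subgroup.relIndex_mul_index (le_sup_left : (S : Subgroup H) ≤ (S : Subgroup H) ⊔ T)
    have ha := Subgroup.relIndex_mul_relIndex ((S : Subgroup H) ⊓ T) S ((S : Subgroup H) ⊔ T) inf_le_left le_sup_left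
    have hb := Subgroup.relIndex_mul_relIndex ((S : Subgroup H) ⊓ T) T ((S : Subgroup H) ⊔ T) inf_le_right le_sup_right
    rw [← hb, Subgroup.inf_relIndex_left, Subgroup.inf_relIndex_right, Subgroup.relIndex_sup_right,
      mul_comm ((S : Subgroup H).relIndex T)] at ha
    rw [← h1, Nat.eq_of_mul_eq_mul_left (Nat.pos_of_ne_zero (Subgroup.index_ne_zero_of_finite (H := T.subgroupOf (S : Subgroup H)))) ha]
    exact dvd_mul_right _ _))
  have hST : IsPGroup 2 ((S : Subgroup H).subgroupOf T) :=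
    S.2.comap_of_injective T.subtype T.subtype_injective
  let PT : Sylow 2 T := hST.toSylow hidx
  set P : Subgroup H := (PT : Subgroup T).map T.subtype with hPdef
  have hPS : P = (S : Subgroup H) ⊓ T := Subgroup.subgroupOf_map_subtype _ _
  have hPp : IsPGroup 2 P := PT.2.map _
  have hPT : P ≤ T := Subgroup.map_subtype_le _
  have hPS' : P ≤ D 0 := by rw [hPS, hD0]; exact inf_le_left
  set N₀ := Subgroup.normalizer (P : Set H) with hN₀
  have hDN : ∀ {j : ℕ}, ∀ s ∈ D j, s ∈ N₀ := by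
    intro j s hs
    have hsS : s ∈ (S : Subgroup H) := hD0 ▸ hD.anti (Nat.zero_le j) hs
    rw [hN₀, hPS, Subgroup.mem_normalizer_iff]
    refine fun a => ⟨fun ha => ⟨Subgroup.mul_mem _ (Subgroup.mul_mem _ hsS ha.1) (Subgroup.inv_mem _ hsS),
      (Cfsg.upperPSeries 2 H 2).2.conj_mem a ha.2 s⟩, fun ha => ?_⟩
    rw [show a = s⁻¹ * (s * a * s⁻¹) * s by group]
    exact ⟨Subgroup.mul_mem _ (Subgroup.mul_mem _ (Subgroup.inv_mem _ hsS) ha.1) hsS, conj_mem' s ha.2⟩
  have hPN : P ≤ N₀ := Subgroup.le_normalizer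
  -- the series
  have hU₁T : U₁ ≤ T := upperPSeries_le_succ' 1
  have hU₁odd : (Nat.card U₁).Coprime 2 := by
    have h1 := factor_relIndex (p := 2) (G := H) 0
    unfold Factor at h1
    rw [if_pos ⟨0, rfl⟩, show (Cfsg.upperPSeries 2 H 0).1 = ⊥ from rfl, Subgroup.relIndex_bot_left] at h1
    exact h1
  have hTsup : T = U₁ ⊔ P := by
    refine le_antisymm ?_ (sup_le hU₁T hPT)
    rw [← Subgroup.relIndex_eq_one]
    obtain ⟨m, hm⟩ : ∃ m, U₁.relIndex T = 2 ^ m := by
      have h1 := factor_relIndex (p := 2) (G := H) 1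
      unfold Factor at h1
      rwa [if_neg (by decide)] at h1
    have h1 : (U₁ ⊔ P).relIndex T ∣ 2 ^ m := hm ▸ Subgroup.relIndex_dvd_of_le_left T le_sup_left
    have h2 : (U₁ ⊔ P).relIndex T ∣ (PT : Subgroup T).index := by
      refine (Subgroup.relIndex_dvd_of_le_left T le_sup_right).trans (dvd_of_eq ?_)
      rw [hPdef, Subgroup.relIndex, Subgroup.subgroupOf, Subgroup.comap_map_eq_self_of_injective
        T.subtype_injective]
    refine Nat.eq_one_of_dvd_coprimes ?_ h1 h2
    exact (Nat.prime_two.coprime_iff_not_dvd.mpr PT.not_dvd_index).pow_left m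
  set π₀ : N₀ →* H ⧸ T := (QuotientGroup.mk' T).comp N₀.subtype with hπ₀d
  have hπ₀ : Function.Surjective π₀ := by
    intro y
    obtain ⟨g, rfl⟩ := QuotientGroup.mk'_surjective T y
    have hfr := Sylow.normalizer_sup_eq_top PT
    obtain ⟨n, hn, t, ht, rfl⟩ : g ∈ (N₀ : Set H) * (T : Set H) := by
      rw [← Subgroup.mul_normal]
      exact hfr ▸ Subgroup.mem_top g
    refine ⟨⟨n, hn⟩, ?_⟩
    rw [map_mul, show QuotientGroup.mk' T t = 1 from (QuotientGroup.eq_one_iff t).mpr ht, mul_one]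
    rfl
  -- elements centralising `P`
  have hcentP : ∀ c : H, (∀ a ∈ P, c * a = a * c) → c ∈ T := by
    intro c hc
    have hU1 : T = (Cfsg.pCore 2 (H ⧸ U₁)).comap (QuotientGroup.mk' U₁) :=
      upperPSeries_odd_succ (p := 2) (G := H) 0
    rw [hU1]
    refine PSolvable.centralizer_pCore_le
      (PSolvable.isPSolvable_of_surjective _ (QuotientGroup.mk'_surjective U₁)
        (PSolvable.isPSolvable_of_isSolvable ‹_›))
      (pPrimeCore_quotient_odd (p := 2) (G := H) 0) ?_
    rw [Subgroup.mem_centralizer_iff]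
    intro v hv
    obtain ⟨w, rfl⟩ := QuotientGroup.mk'_surjective U₁ v
    have hwT : w ∈ T := hU1 ▸ hv
    rw [hTsup] at hwT
    obtain ⟨o, ho, a, ha, rfl⟩ := Subgroup.mem_sup_of_normal_left.mp hwT
    rw [map_mul, show QuotientGroup.mk' U₁ o = 1 from (QuotientGroup.eq_one_iff o).mpr ho, one_mul,
      ← map_mul, ← map_mul, hc a ha]
  -- the action on `P`
  set ψ : N₀ →* MulAut P := Subgroup.normalizerMonoidHom P with hψd
  have hψ : ∀ (g : N₀) (a : P), ((ψ g a : P) : H) = g * a * (g : H)⁻¹ := fun _ _ => rfl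
  set G₀ : Subgroup (MulAut P) := ψ.range with hG₀
  have hG : ∀ a : P, MulAut.conj a ∈ G₀ := fun a =>
    ⟨⟨a, hPN a.2⟩, MulEquiv.ext fun b => Subtype.ext (by
      rw [hψ, MulAut.conj_apply, Subgroup.coe_mul, Subgroup.coe_mul, Subgroup.coe_inv])⟩
  set P0 : Subgroup P := (fixOdd σ).subgroupOf P with hP0
  have hP0i : Critical.Detect.Inv G₀ P0 := by
    rintro _ ⟨g, rfl⟩ a ha
    rw [hP0, Subgroup.mem_subgroupOf] at ha ⊢
    rw [hψ]
    exact fixOdd_normal.conj_mem _ ha g
  haveI : P0.Normal := hP0i.normal hG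
  haveI : IsPGroup 2 P → Group.IsNilpotent P := fun h => h.isNilpotent
  haveI hnil : Group.IsNilpotent P := hPp.isNilpotent
  obtain ⟨hDc, hDp⟩ := PSolvable.commutator_le_frattini (hPp.to_quotient P0)
  set DP : Subgroup P := (frattini (P ⧸ P0)).comap (QuotientGroup.mk' P0) with hDF
  have hP0D : P0 ≤ DP := fun a ha => by
    rw [hDF, Subgroup.mem_comap, show QuotientGroup.mk' P0 a = 1 from (QuotientGroup.eq_one_iff a).mpr ha]
    exact one_mem _
  have hq0 : ∀ φ ∈ G₀, ∃ φ' : MulAut (P ⧸ P0),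
      ∀ a : P, φ' (QuotientGroup.mk a) = QuotientGroup.mk (φ a) := by
    intro φ hφ
    refine ⟨QuotientGroup.congr P0 P0 φ ?_, fun a => rfl⟩
    refine le_antisymm ?_ ?_
    · rintro _ ⟨a, ha, rfl⟩
      exact hP0i φ hφ a ha
    · intro a ha
      exact ⟨φ⁻¹ a, hP0i _ (G₀.inv_mem hφ) a ha, MulAut.apply_inv_self P φ a⟩
  have hDi : Critical.Detect.Inv G₀ DP := by
    intro φ hφ a ha
    obtain ⟨φ', hφ'⟩ := hq0 φ hφ
    rw [hDF, Subgroup.mem_comap, QuotientGroup.mk'_apply] at ha ⊢
    rw [← hφ']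
    exact Subgroup.characteristic_iff_map_le.mp inferInstance φ' (Subgroup.mem_map_of_mem _ ha)
  obtain ⟨C, hCi, hCP, hCp, hCc, hCz⟩ := Critical.Detect.exists_crit hPp hG hP0i
  set Z : Subgroup P := C ⊓ Subgroup.centralizer (C : Set P) with hZ
  have hZi : Critical.Detect.Inv G₀ Z := hCi.inf hCi.centralizer
  have hZc : ∀ a ∈ Z, ∀ b ∈ C, b * a = a * b := fun a ha b hb =>
    Subgroup.mem_centralizer_iff.mp ha.2 b hb
  let Ω : Subgroup P :=
    { carrier := {a | a ∈ Z ∧ a * a = 1}
      one_mem' := ⟨Z.one_mem, one_mul 1⟩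
      mul_mem' := fun {a b} ha hb => ⟨Z.mul_mem ha.1 hb.1, by
        rw [(show Commute b a from hZc a ha.1 b hb.1.1).mul_mul_mul_comm, ha.2, hb.2, one_mul]⟩
      inv_mem' := fun {a} ha => ⟨Z.inv_mem ha.1, by rw [← mul_inv_rev, ha.2, inv_one]⟩ }
  have hΩi : Critical.Detect.Inv G₀ Ω := fun φ hφ a ha =>
    ⟨hZi φ hφ a ha.1, by rw [← map_mul, ha.2, map_one]⟩
  let Ws : ℕ → Subgroup P := fun i => Ω ⊓ Subgroup.upperCentralSeries P i
  have hWi : ∀ i, Critical.Detect.Inv G₀ (Ws i) := fun i => hΩi.inf fun φ _ a ha =>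
    Subgroup.characteristic_iff_map_le.mp inferInstance φ (Subgroup.mem_map_of_mem _ ha)
  have hinner : ∀ {A : Subgroup P}, Critical.Detect.Inv G₀ A → ∀ a : P, ∀ b ∈ A, a * b * a⁻¹ ∈ A :=
    fun {A} hA a b hb => by
      have := hA _ (hG a) b hb
      rwa [MulAut.conj_apply] at this
  set cl := Group.nilpotencyClass P
  let ι := Option (Option (Fin cl))
  let As : ι → Subgroup P := fun o => o.elim ⊤ fun o => o.elim C fun i => Ws (i + 1)
  let Bs : ι → Subgroup P := fun o => o.elim DP fun o => o.elim Z fun i => Ws i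
  have hAi : ∀ o, Critical.Detect.Inv G₀ (As o) := by
    rintro (_ | _ | i)
    · exact fun _ _ _ _ => trivial
    · exact hCi
    · exact hWi _
  have hBi : ∀ o, Critical.Detect.Inv G₀ (Bs o) := by
    rintro (_ | _ | i)
    · exact hDi
    · exact hZi
    · exact hWi _
  have hBA : ∀ o, Bs o ≤ As o := by
    rintro (_ | _ | i)
    · exact le_top
    · exact inf_le_left
    · exact inf_le_inf_left _ (Subgroup.upperCentralSeries_mono P (Nat.le_succ _))
  have hsq : ∀ o, ∀ a ∈ As o, a * a ∈ Bs o := by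
    rintro (_ | _ | i) a ha
    · show a * a ∈ DP
      rw [hDF, Subgroup.mem_comap, map_mul, ← sq]
      exact hDp _
    · have := hCp a ha
      rwa [sq] at this
    · show a * a ∈ Ws i
      rw [ha.1.2]
      exact one_mem _
  have hinn : ∀ o, ∀ a : P, ∀ b ∈ As o, b⁻¹ * (a * b * a⁻¹) ∈ Bs o := by
    rintro (_ | _ | i) a b hb
    · show b⁻¹ * (a * b * a⁻¹) ∈ DP
      rw [hDF, Subgroup.mem_comap]
      refine hDc ?_
      rw [show b⁻¹ * (a * b * a⁻¹) = ⁅b⁻¹, a⁆ by rw [commutatorElement_def]; group,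
        map_commutatorElement]
      exact Subgroup.commutator_mem_commutator (Subgroup.mem_top _) (Subgroup.mem_top _)
    · show b⁻¹ * (a * b * a⁻¹) ∈ Z
      rw [show b⁻¹ * (a * b * a⁻¹) = ⁅b⁻¹, a⁆ by rw [commutatorElement_def]; group]
      exact hCc (Subgroup.commutator_mem_commutator (C.inv_mem hb) (Subgroup.mem_top a))
    · refine ⟨Ω.mul_mem (Ω.inv_mem hb.1) (hinner hΩi a b hb.1), ?_⟩
      rw [show b⁻¹ * (a * b * a⁻¹) = ⁅b⁻¹, a⁆ by rw [commutatorElement_def]; group]
      exact Subgroup.mem_upperCentralSeries_succ_iff.mp (Subgroup.inv_mem _ hb.2) a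
  choose dm ρ hρ1 hρs using fun o => factor_chain ψ (As o) (Bs o) (fun g => hAi o _ ⟨g, rfl⟩)
    (fun g => hBi o _ ⟨g, rfl⟩) (hBA o) (fun a _ b hb => hinner (hBi o) a b hb) (hsq o)
  let R : N₀ →* Module.End 𝕜 (∀ o, Fin (dm o) → 𝕜) := piRep ρ
  -- the kernel of the projection acts trivially
  have hker : π₀.ker ≤ R.ker := by
    intro g hg
    have hgT : (g : H) ∈ T := (QuotientGroup.eq_one_iff _).mp hg
    rw [hTsup] at hgT
    obtain ⟨o, ho, a, ha, hoa⟩ := Subgroup.mem_sup_of_normal_left.mp hgT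
    have hoN : o ∈ N₀ := by
      have := N₀.mul_mem g.2 (N₀.inv_mem (hPN ha))
      rwa [← hoa, mul_inv_cancel_right] at this
    have hoc : ∀ b ∈ P, o * b = b * o := by
      intro b hb
      have h1 : o * b * o⁻¹ * b⁻¹ ∈ U₁ := by
        rw [show o * b * o⁻¹ * b⁻¹ = o * (b * o⁻¹ * b⁻¹) by group]
        exact U₁.mul_mem ho ((Cfsg.upperPSeries 2 H 1).2.conj_mem _ (U₁.inv_mem ho) b)
      have h2 : o * b * o⁻¹ * b⁻¹ ∈ P :=
        P.mul_mem ((Subgroup.mem_normalizer_iff.mp hoN b).mp hb) (P.inv_mem hb)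
      have h3 := PSolvable.eq_one_of_mem_of_mem hPp hU₁odd h2 h1
      rwa [mul_inv_eq_one, mul_inv_eq_iff_eq_mul] at h3
    refine LinearMap.ext fun v => funext fun i => ?_
    show (ρ i g) (v i) = v i
    rw [(hρ1 i g).mpr fun b hb => ?_]
    · rfl
    · have e : ψ g b = (⟨a, ha⟩ : P) * b * (⟨a, ha⟩ : P)⁻¹ := Subtype.ext (by
        rw [hψ, ← hoa, Subgroup.coe_mul, Subgroup.coe_mul, Subgroup.coe_inv]
        show o * a * (b : H) * (o * a)⁻¹ = a * b * a⁻¹
        rw [show o * a * (b : H) * (o * a)⁻¹ = o * (a * b * a⁻¹) * o⁻¹ by group,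
          hoc _ (P.mul_mem (P.mul_mem ha b.2) (P.inv_mem ha)), mul_inv_cancel_right])
      rw [e]
      exact hinn i _ b hb
  let σ' : H ⧸ T →* Module.End 𝕜 (∀ o, Fin (dm o) → 𝕜) :=
    (QuotientGroup.lift π₀.ker R hker).comp
      (QuotientGroup.quotientKerEquivOfSurjective π₀ hπ₀).symm.toMonoidHom
  have hσ' : ∀ g : N₀, σ' (π₀ g) = R g := fun g => by
    show QuotientGroup.lift π₀.ker R hker
      ((QuotientGroup.quotientKerEquivOfSurjective π₀ hπ₀).symm (π₀ g)) = R g
    rw [show π₀ g = QuotientGroup.quotientKerEquivOfSurjective π₀ hπ₀ (QuotientGroup.mk g) from rfl,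
      MulEquiv.symm_apply_apply]
    rfl
  suffices hinj : Function.Injective σ' by
    refine ⟨∀ o, Fin (dm o) → 𝕜, inferInstance, inferInstance, inferInstance, σ', hinj, hinj,
      hD.two.map _, fun j => by rw [hD.step, Subgroup.map_commutator], ?_⟩
    refine le_bot_iff.mp ((wc_le (fun _ => 1) (fun i => one_mem _) _).trans (iSup_le fun b => ?_))
    choose g hg hgb using fun i => b.2 i
    rw [le_bot_iff, LinearMap.range_eq_bot]
    let gN : ℕ → N₀ := fun i => ⟨g i, hDN _ (hg i)⟩
    rw [chainProd_congr (g := fun i => R (gN i)) fun i _ => by rw [← hgb i, ← hσ' (gN i)]; rfl]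
    refine LinearMap.ext fun v => funext fun o => ?_
    rw [piRep_chain]
    suffices h : chainProd (fun i => ρ o (gN i)) (d - 1) = 0 by
      rw [h]; rfl
    refine hρs o gN _ fun t ht => ?_
    let w : ℕ → P := fun n => Nat.rec t (fun i x => ψ (gN i) x * x⁻¹) n
    have hwA : ∀ i, w i ∈ As o := fun i => by
      induction i with
      | zero => exact ht
      | succ i ih => exact (As o).mul_mem (hAi o _ ⟨gN i, rfl⟩ _ ih) ((As o).inv_mem ih)
    have hwH : ∀ i, (Subtype.val (w (i + 1))) = g i * (Subtype.val (w i)) * (g i)⁻¹ * (Subtype.val (w i))⁻¹ := fun i => by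
      show ((ψ (gN i) (w i) * (w i)⁻¹ : P) : H) = _
      rw [Subgroup.coe_mul, hψ, Subgroup.coe_inv]
    have hwD : ∀ i, (Subtype.val (w i)) ∈ D i := fun i => by
      induction i with
      | zero => exact hPS' t.2
      | succ i ih =>
        rw [hwH, hD.step, ← commutatorElement_def]
        exact Subgroup.commutator_mem_commutator (hg i) ih
    refine ⟨w, rfl, fun i _ => rfl, ?_⟩
    set c := w (d - 1) with hc
    have hfix : ∀ {a : P}, a ∈ C → (a : H) ∈ fixOdd σ := fun ha => hCP ha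
    have htwo : ∀ {c : H}, c ∈ P → ∃ i, c ^ 2 ^ i = 1 := fun {c} hc => by
      obtain ⟨i, hi⟩ := hPp ⟨c, hc⟩
      exact ⟨i, congrArg Subtype.val hi⟩
    match o, ht, hwA with
    | none, _, _ =>
      refine hP0D ?_
      show (Subtype.val c) ∈ fixOdd σ
      refine Subgroup.mem_iInf.mpr fun K => ?_
      haveI := K.2.1
      exact mem_fixAll.mpr fun U h => hD.last_fix (by omega) K.2.2 h (hwD _)
    | some none, _, hwA =>
      refine ⟨hwA _, Subgroup.mem_centralizer_iff.mpr fun a ha => Subtype.ext ?_⟩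
      have h1 : (Subtype.val c) * (a : H) * (Subtype.val c)⁻¹ * (a : H)⁻¹ = 1 := by
        refine eq_one_of_qker hσ hO (htwo (mul_mem (mul_mem (mul_mem c.2 a.2) (inv_mem c.2)) (inv_mem a.2))) ?_
        intro q _ hq2 K _ hK hKp hcent hpow W h hT
        exact hD.comm_qker hq2 hd hpow hK h hT (hwD _) (hPS' a.2)
          (mem_fixAll.mp (fixOdd_le hK (hfix ha)) W h)
      rw [mul_inv_eq_one, mul_inv_eq_iff_eq_mul] at h1
      exact h1.symm
    | some (some i), ht, _ =>
      have h1 : (Subtype.val c) = 1 := by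
        refine eq_one_of_qker hσ hO (htwo c.2) ?_
        intro q _ hq2 K _ hK hKp hcent hpow W h hT
        refine hD.omega (E := Ω.map P.subtype) hq2 hd hpow hK h hT ?_ ?_ ?_ ?_ ?_
          (w := fun j => (Subtype.val (w j))) (s := g) (Subgroup.mem_map_of_mem P.subtype ht.1)
          (fun j _ => hg j) (fun j _ => hwH j)
        · exact (Subgroup.map_subtype_le Ω).trans hPS'
        · rintro _ ⟨a, ha, rfl⟩
          exact mem_fixAll.mp (fixOdd_le hK (hfix ha.1.1)) W h
        · rintro _ ⟨a, ha, rfl⟩ _ ⟨a', ha', rfl⟩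
          exact congrArg Subtype.val (hZc a' ha'.1 a ha.1.1)
        · rintro _ ⟨a, ha, rfl⟩
          exact congrArg Subtype.val ha.2
        · rintro s hs _ ⟨a, ha, rfl⟩
          exact ⟨ψ ⟨s, hDN _ hs⟩ a, hΩi _ ⟨⟨s, hDN _ hs⟩, rfl⟩ a ha, hψ _ _⟩
      rw [show c = 1 from Subtype.ext h1]
      exact one_mem _
  · -- faithful
    rw [← MonoidHom.ker_eq_bot_iff, ← le_bot_iff, ← hO']
    refine Fitting.le_pCore inferInstance ?_
    rintro ⟨y, hy⟩
    obtain ⟨g, rfl⟩ := hπ₀ y
    have hRg : R g = 1 := (hσ' g).symm.trans hy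
    obtain ⟨j, c, hc, hord⟩ :=
      Nat.exists_eq_pow_mul_and_not_dvd (orderOf_pos g).ne' 2 (by norm_num)
    set g' := g ^ 2 ^ j
    refine ⟨j, Subtype.ext ?_⟩
    show π₀ g ^ 2 ^ j = 1
    rw [← map_pow]
    have hR' : R g' = 1 := by rw [map_pow, hRg, one_pow]
    have hcop : (orderOf (ψ g')).Coprime 2 := by
      refine Nat.Coprime.coprime_dvd_left ?_ ((Nat.prime_two.coprime_iff_not_dvd.mpr hc).symm)
      refine (orderOf_map_dvd ψ g').trans (orderOf_dvd_of_pow_eq_one ?_)
      rw [← pow_mul, ← hord, pow_orderOf_eq_one]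
    set α := ψ g' with hα
    have htriv : ∀ o, ∀ b ∈ As o, b⁻¹ * α b ∈ Bs o := fun o => (hρ1 o g').mp
      (LinearMap.ext fun w => by
        have h1 := LinearMap.congr_fun hR' (Pi.single o w)
        have h2 : ρ o g' (Pi.single (M := fun o => Fin (dm o) → 𝕜) o w o) =
            Pi.single (M := fun o => Fin (dm o) → 𝕜) o w o := congrFun h1 o
        rw [Pi.single_eq_same] at h2
        exact h2)
    have hW : ∀ i, i ≤ cl → ∀ b ∈ Ws i, α b = b := by
      intro i
      induction i with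
      | zero =>
        intro _ b hb
        have hb2 : b ∈ Subgroup.upperCentralSeries P 0 := hb.2
        rw [Subgroup.upperCentralSeries_zero, Subgroup.mem_bot] at hb2
        rw [hb2, map_one]
      | succ i ih =>
        intro hi b hb
        exact Critical.Detect.eq_self_of_fix hPp hcop
          (ih (by omega) _ (htriv (some (some ⟨i, by omega⟩)) b hb))
    have hΩ : ∀ b ∈ Ω, α b = b := fun b hb => hW cl le_rfl b
      ⟨hb, by rw [Subgroup.upperCentralSeries_nilpotencyClass]; trivial⟩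
    have hZfix : ∀ (i : ℕ), ∀ b ∈ Z, b ^ 2 ^ i = 1 → α b = b := by
      intro i
      induction i with
      | zero => intro b _ hb; rw [pow_zero, pow_one] at hb; rw [hb, map_one]
      | succ i ih =>
        intro b hb hbi
        have h2 := ih (b * b) (Z.mul_mem hb hb) (by rw [← sq, ← pow_mul, ← pow_succ', hbi])
        have hbαb : α b ∈ Z := hZi α ⟨g', rfl⟩ b hb
        refine Critical.Detect.eq_self_of_fix hPp hcop (hΩ _ ⟨Z.mul_mem (Z.inv_mem hb) hbαb, ?_⟩)
        rw [(show Commute (α b) b⁻¹ from (show Commute (α b) b from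
          hZc b hb _ hbαb.1).inv_right).mul_mul_mul_comm, ← map_mul, h2, ← mul_inv_rev, inv_mul_cancel]
    have hCfix : ∀ b ∈ C, α b = b := fun b hb => by
      refine Critical.Detect.eq_self_of_fix hPp hcop ?_
      have hm := htriv (some none) b hb
      obtain ⟨i, hi⟩ := hPp (b⁻¹ * α b)
      exact hZfix i _ hm hi
    have hP0fix : ∀ b ∈ P0, α b = b := fun b hb => by
      refine Critical.Detect.eq_self_of_fix hPp hcop (hCfix _ (hCz ⟨?_, ?_⟩))
      · exact P0.mul_mem (P0.inv_mem hb) (hP0i α ⟨g', rfl⟩ b hb)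
      · refine Subgroup.mem_centralizer_iff.mpr fun x hx => ?_
        have h1 : α (b * x * b⁻¹) = b * x * b⁻¹ := hCfix _ (hinner hCi b x hx)
        rw [map_mul, map_mul, map_inv, hCfix x hx] at h1
        calc x * (b⁻¹ * α b) = b⁻¹ * (b * x * b⁻¹) * α b := by group
          _ = b⁻¹ * (α b * x * (α b)⁻¹) * α b := by rw [h1]
          _ = b⁻¹ * α b * x := by group
    obtain ⟨α', hα'⟩ := hq0 α ⟨g', rfl⟩
    have hα'1 : α' = 1 := by
      refine Coprime.mulAut_eq_one_of_frattini α' ?_ fun v => ?_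
      · obtain ⟨i, hi⟩ := IsPGroup.iff_card.mp ((hPp.to_quotient P0).to_subgroup (frattini (P ⧸ P0)))
        rw [hi]
        refine (Nat.Coprime.coprime_dvd_left ?_ hcop).pow_right i
        refine orderOf_dvd_of_pow_eq_one (MulEquiv.ext fun v => ?_)
        obtain ⟨b, rfl⟩ := QuotientGroup.mk'_surjective P0 v
        have hit : ∀ m : ℕ, (α' ^ m) (QuotientGroup.mk b) = QuotientGroup.mk ((α ^ m) b) := by
          intro m
          induction m with
          | zero => rfl
          | succ m ihm => rw [pow_succ', pow_succ', MulAut.mul_apply, MulAut.mul_apply, ihm, hα']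
        rw [QuotientGroup.mk'_apply, hit, pow_orderOf_eq_one]
        rfl
      · obtain ⟨b, rfl⟩ := QuotientGroup.mk'_surjective P0 v
        rw [QuotientGroup.mk'_apply, hα', ← QuotientGroup.mk_inv, ← QuotientGroup.mk_mul]
        exact htriv none b trivial
    have hPfix : ∀ b : P, α b = b := fun b => by
      refine Critical.Detect.eq_self_of_fix hPp hcop (hP0fix _ ?_)
      have h1 := congrArg (fun χ : MulAut (P ⧸ P0) => χ (QuotientGroup.mk b)) hα'1
      simp only [hα', MulAut.one_apply] at h1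
      exact QuotientGroup.eq.mp h1.symm
    refine (QuotientGroup.eq_one_iff _).mpr (hcentP _ fun b hb => ?_)
    have h1 := congrArg (fun w : P => (w : H)) (hPfix ⟨b, hb⟩)
    rw [hα, hψ] at h1
    exact mul_inv_eq_iff_eq_mul.mp h1

/-- The bound for groups with a faithful representation killed by the derived chain. -/
theorem length_of_chain : ∀ (d : ℕ), 1 ≤ d → ∀ {H : Type u} [Group H] [Finite H] [Group.IsSolvable H]
    {V : Type} [AddCommGroup V] [Module 𝕜 V] [FiniteDimensional 𝕜 V] (σ : H →* Module.End 𝕜 V),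
    Function.Injective σ → Cfsg.pCore 2 H = ⊥ → ∀ (S : Sylow 2 H) (D : ℕ → Subgroup H),
    D 0 = S → DChain σ D d → Cfsg.PLengthLE 2 (d - 1) H := by
  haveI : Fact (Nat.Prime 2) := ⟨Nat.prime_two⟩
  intro d
  induction d using Nat.strong_induction_on with
  | _ d ih =>
  intro hd H _ _ _ V _ _ _ σ hσ hO S D hD0 hD
  rcases Nat.lt_or_ge d 2 with hlt | hge
  · obtain rfl : d = 1 := by omega
    refine pLengthLE_zero_of_coprime ?_
    refine (Nat.prime_two.coprime_iff_not_dvd.mpr fun h2 => ?_).symm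
    have h3 := S.dvd_card_of_dvd_card h2
    have hbot : (S : Subgroup H) = ⊥ := by
      rw [← hD0, Subgroup.eq_bot_iff_forall]
      intro g hg
      refine hσ (LinearMap.ext fun v => ?_)
      have h1 := sub_one_mem_wc (σ := σ) (D := D) (j := 0) hg (Submodule.mem_top (x := v))
      rw [zero_add, hD.kill, Submodule.mem_bot, sub_eq_zero] at h1
      rw [h1, map_one, Module.End.one_apply]
    rw [hbot, Subgroup.card_bot] at h3
    omega
  have hps : Cfsg.IsPSolvable 2 H := PSolvable.isPSolvable_of_isSolvable ‹_›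
  obtain ⟨hO', -⟩ := exists_rep hps 0 (Nat.card H) fun z ⟨i, hi⟩ => by
    obtain ⟨j, -, hj⟩ := (Nat.dvd_prime_pow Nat.prime_two).mp (orderOf_dvd_of_pow_eq_one hi)
    rw [show z ^ 2 ^ Nat.card H = 1 from orderOf_dvd_iff_pow_eq_one.mp (hj ▸ pow_dvd_pow 2 (by
      have h1 := Nat.lt_pow_self (n := j) (Nat.one_lt_two)
      have h2 := Nat.le_of_dvd Nat.card_pos (orderOf_dvd_natCard z)
      omega))]
    exact one_mem _
  set T := (Cfsg.upperPSeries 2 H (2 * (0 + 1))).1 with hT
  obtain ⟨W, _, _, _, σ', hσ', hD'⟩ := next_chain σ hσ hge hO S hD0 hD hO'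
  haveI : Group.IsSolvable (H ⧸ T) :=
    Group.isSolvable_of_surjective (f := QuotientGroup.mk' T) (QuotientGroup.mk'_surjective T)
  have hQ : Cfsg.PLengthLE 2 (d - 1 - 1) (H ⧸ T) := ih (d - 1) (by omega) (by omega) σ' hσ' hO'
    (S.mapSurjective (QuotientGroup.mk'_surjective T)) (fun i => (D i).map (QuotientGroup.mk' T))
    (by rw [hD0]; rfl) hD'
  have hTl : Cfsg.PLengthLE 2 1 T := by
    haveI := upperPSeries_characteristic (p := 2) (G := H) 1
    refine top_unique fun t _ => ?_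
    have hle : ((Cfsg.upperPSeries 2 H 1).1.subgroupOf T) ≤ (Cfsg.upperPSeries 2 T 1).1 := by
      haveI : ((Cfsg.upperPSeries 2 H 1).1.subgroupOf T).Normal := inferInstance
      refine le_upperPSeries_succ 0 _ ?_
      have h1 := factor_relIndex (p := 2) (G := H) 0
      unfold Factor at h1 ⊢
      rw [if_pos ⟨0, rfl⟩, show (Cfsg.upperPSeries 2 H 0).1 = ⊥ from rfl, Subgroup.relIndex_bot_left] at h1
      rw [if_pos ⟨0, rfl⟩, show (Cfsg.upperPSeries 2 T 0).1 = ⊥ from rfl, Subgroup.relIndex_bot_left,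
        Nat.card_congr (Subgroup.subgroupOfEquivOfLe (upperPSeries_le_succ' 1)).toEquiv]
      exact h1
    refine upperPSeries_le_succ' 2 (le_upperPSeries_succ 1 ⊤ ?_ (Subgroup.mem_top t))
    unfold Factor
    rw [if_neg (by decide)]
    have h1 := factor_relIndex (p := 2) (G := H) 1
    unfold Factor at h1
    rw [if_neg (by decide)] at h1
    obtain ⟨k, hk⟩ := h1
    have hdvd : (Cfsg.upperPSeries 2 T 1).1.relIndex ⊤ ∣ 2 ^ k := by
      rw [← hk, Subgroup.relIndex_top_right]
      exact Subgroup.index_dvd_of_le hle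
    obtain ⟨j, -, hj⟩ := (Nat.dvd_prime_pow Nat.prime_two).mp hdvd
    exact ⟨j, hj⟩
  have := pLengthLE_add T hTl hQ
  rwa [show 1 + (d - 1 - 1) = d - 1 by omega] at this

set_option maxHeartbeats 800000 in
/-- The `2`-length is at most the derived length. -/
theorem pLengthLE_derived {G : Type u} [Group G] [Finite G] (hG : Cfsg.IsPSolvable 2 G) (d : ℕ)
    (hder : ∀ P : Sylow 2 G, derivedSeries (P : Subgroup G) d = ⊥) : Cfsg.PLengthLE 2 d G := by
  classical
  haveI : Fact (Nat.Prime 2) := ⟨Nat.prime_two⟩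
  haveI := isSolvable_of_two_soluble hG
  let P : Sylow 2 G := default
  rcases Nat.eq_zero_or_pos d with rfl | hd
  · refine pLengthLE_zero_of_coprime ?_
    refine (Nat.prime_two.coprime_iff_not_dvd.mpr fun h2 => ?_).symm
    have h3 := P.dvd_card_of_dvd_card h2
    have h4 := hder P
    rw [derivedSeries_zero] at h4
    rw [← Subgroup.card_top, h4, Subgroup.card_bot] at h3
    omega
  set U₁ := (Cfsg.upperPSeries 2 G 1).1 with hU₁
  set π₁ := QuotientGroup.mk' U₁ with hπ₁
  have hπ₁s : Function.Surjective π₁ := QuotientGroup.mk'_surjective U₁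
  let P₁ : Sylow 2 (G ⧸ U₁) := P.mapSurjective hπ₁s
  haveI := Fitting.pCore_normal (G := G ⧸ U₁) 2
  set O := Cfsg.pCore 2 (G ⧸ U₁) with hOdef
  set π₂ := QuotientGroup.mk' O with hπ₂
  have hOP : O ≤ P₁ := pCore_le_sylow_of P₁
  obtain ⟨φ, hφ, φmk, hcomm, hexp⟩ :=
    exists_action (p := 2) (PSolvable.isPSolvable_of_surjective π₁ hπ₁s hG) (pPrimeCore_quotient_odd 0)
  letI : CommGroup (O ⧸ frattini O) :=
    { (inferInstance : Group (O ⧸ frattini O)) with mul_comm := hcomm }
  letI : Module (ZMod 2) (Additive (O ⧸ frattini O)) :=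
    AddCommGroup.zmodModule (n := 2) (G := Additive (O ⧸ frattini O)) fun v =>
      Additive.toMul.injective (hexp (Additive.toMul v))
  haveI : Finite (Additive (O ⧸ frattini O)) := inferInstanceAs (Finite (O ⧸ frattini O))
  haveI : FiniteDimensional (ZMod 2) (Additive (O ⧸ frattini O)) := Module.Finite.of_finite
  let ρ₀ := endOfAut (p := 2) φ
  let σ := (toBar 𝕜).toMonoidHom.comp ρ₀
  have hσ : Function.Injective σ := fun a b hab => by
    have hab' : ρ₀ a = ρ₀ b := toBar_injective 𝕜 hab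
    exact hφ (MulEquiv.ext fun v =>
      Additive.ofMul.injective (LinearMap.congr_fun hab' (Additive.ofMul v)))
  let E : ℕ → Subgroup (G ⧸ U₁) := fun i => ((derivedSeries (P : Subgroup G) i).map (P : Subgroup G).subtype).map π₁
  have hE : ∀ i, E (i + 1) = ⁅E i, E i⁆ := fun i => by
    simp only [E, derivedSeries_succ, Subgroup.map_commutator]
  have hE0 : E 0 = P₁ := by
    simp only [E, derivedSeries_zero, ← MonoidHom.range_eq_map, Subgroup.range_subtype]
    rfl
  let D : ℕ → Subgroup ((G ⧸ U₁) ⧸ O) := fun i => (E i).map π₂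
  let S : Sylow 2 ((G ⧸ U₁) ⧸ O) := P₁.mapSurjective (QuotientGroup.mk'_surjective O)
  have hD0 : D 0 = S := by
    simp only [D, hE0]
    rfl
  have hD : DChain σ D d := by
    refine ⟨hσ, by rw [hD0]; exact S.2, fun j => by simp only [D, hE, Subgroup.map_commutator], ?_⟩
    refine le_bot_iff.mp ((wc_le (fun _ => 1) (fun i => one_mem _) _).trans (iSup_le fun b => ?_))
    choose g hg hgb using fun i => b.2 i
    rw [le_bot_iff, LinearMap.range_eq_bot]
    suffices h0 : chainProd (fun i => ρ₀ (b.1 i)) d = 0 by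
      show chainProd (fun i => toBar 𝕜 (ρ₀ (b.1 i))) d = 0
      rw [chainProd_map, h0, map_zero]
    refine LinearMap.ext fun v => ?_
    obtain ⟨t, ht⟩ := QuotientGroup.mk'_surjective (frattini O) (Additive.toMul v)
    let c : ℕ → O := fun n => Nat.rec t (fun i x => MulAut.conjNormal (g i) x * x⁻¹) n
    have hc : ∀ i, Subtype.val (c i) ∈ E i := fun i => by
      induction i with
      | zero => rw [hE0]; exact hOP t.2
      | succ i ih =>
        show ((MulAut.conjNormal (g i) (c i) * (c i)⁻¹ : O) : G ⧸ U₁) ∈ _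
        rw [Subgroup.coe_mul, MulAut.conjNormal_apply, Subgroup.coe_inv, hE, ← commutatorElement_def]
        exact Subgroup.commutator_mem_commutator (hg i) ih
    have key : ∀ l, chainProd (fun i => ρ₀ (b.1 i)) l v = Additive.ofMul (QuotientGroup.mk (c l)) := by
      intro l
      induction l with
      | zero => rw [chainProd, Module.End.one_apply]; exact ht.symm
      | succ l ih =>
        rw [chainProd, Module.End.mul_apply, ih, LinearMap.sub_apply, Module.End.one_apply]
        show Additive.ofMul (φ (b.1 l) (QuotientGroup.mk (c l))) - _ = _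
        rw [← hgb l, hπ₂, QuotientGroup.mk'_apply, φmk, sub_eq_add_neg, ← ofMul_inv, ← ofMul_mul,
          ← QuotientGroup.mk_inv, ← QuotientGroup.mk_mul]
    have hcd : c d = 1 := by
      have h1 := hc d
      simp only [E, hder P, Subgroup.map_bot, Subgroup.mem_bot] at h1
      exact Subtype.ext h1
    rw [key d, hcd, LinearMap.zero_apply]
    rfl
  have hOp : Cfsg.pCore 2 ((G ⧸ U₁) ⧸ O) = ⊥ := le_bot_iff.mp ZJ.pCore_quotient_pCore_le_bot
  haveI : Group.IsSolvable (G ⧸ U₁) := Group.isSolvable_of_surjective (f := π₁) hπ₁s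
  haveI : Group.IsSolvable ((G ⧸ U₁) ⧸ O) :=
    Group.isSolvable_of_surjective (f := π₂) (QuotientGroup.mk'_surjective O)
  have hQ := length_of_chain d hd σ hσ hOp S D hD0 hD
  have hsur : Function.Surjective (π₂.comp π₁) := (QuotientGroup.mk'_surjective O).comp hπ₁s
  have hker : (π₂.comp π₁).ker = (Cfsg.upperPSeries 2 G 2).1 := by
    rw [← MonoidHom.comap_ker, hπ₂, QuotientGroup.ker_mk']
    exact (upperPSeries_odd_succ (p := 2) (G := G) 0).symm
  have h := comap_upperPSeries_le (p := 2) (π₂.comp π₁) hsur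
    (c := 2 * 1) (even_two_mul 1) (by rw [hker]; exact upperPSeries_le_succ' 2) (2 * (d - 1))
  rw [show (Cfsg.upperPSeries 2 ((G ⧸ U₁) ⧸ O) (2 * (d - 1) + 1)).1 = ⊤ from hQ, Subgroup.comap_top] at h
  show (Cfsg.upperPSeries 2 G (2 * d + 1)).1 = ⊤
  rw [show 2 * d + 1 = 2 * 1 + 2 * (d - 1) + 1 by omega]
  exact top_unique h

end CfsgLib.Gross
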