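import Cfsg.Agent.Lib.Gross.Chain
import Cfsg.Agent.Lib.HallHigman.Series
import Cfsg.Agent.Lib.OddOrder.Solvable

/-!
The `2`-length of a soluble group is at most the exponent of its Sylow `2`-subgroups.
-/

set_option autoImplicit false
set_option linter.style.haveILetI false
set_option linter.unusedSectionVars false

open Module CfsgLib.HallHigman
open scoped commutatorElement Pointwise

namespace CfsgLib.Gross

local notation "𝕜" => AlgebraicClosure (ZMod 2)

theorem isSolvable_of_two_soluble {G : Type*} [Group G] [Finite G] (h : Cfsg.IsPSolvable 2 G) :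
    Group.IsSolvable G := by
  obtain ⟨n, H, h0, hlast, hmono, hn, hfac⟩ := h
  have key : ∀ i, Group.IsSolvable (H i) := by
    intro i
    induction i using Fin.induction with
    | zero =>
      rw [h0]
      infer_instance
    | succ i ih =>
      haveI := hn i.castSucc
      set K := (H i.castSucc).subgroupOf (H i.succ)
      haveI : Group.IsSolvable K :=
        solvable_of_solvable_injective (f := (Subgroup.subgroupOfEquivOfLe (hmono i.castSucc_le_succ)).toMonoidHom)
          (MulEquiv.injective _)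
      haveI : Group.IsSolvable (H i.succ ⧸ K) := by
        have hc : Nat.card (H i.succ ⧸ K) = (H i.castSucc).relIndex (H i.succ) := rfl
        rcases hfac i with ⟨m, hm⟩ | hm
        · haveI := Fact.mk Nat.prime_two
          haveI : Group.IsNilpotent (H i.succ ⧸ K) := (IsPGroup.of_card (hc.trans hm)).isNilpotent
          infer_instance
        · refine OddOrder.odd_order_solvable ?_
          rw [hc]
          exact Nat.coprime_two_right.mp hm
      exact Group.isSolvable_of_ker_le_range K.subtype (QuotientGroup.mk' K)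
        (by rw [QuotientGroup.ker_mk', Subgroup.range_subtype])
  haveI := key (Fin.last n)
  rw [hlast] at *
  exact Group.isSolvable_of_surjective (f := (Subgroup.topEquiv (G := G)).toMonoidHom)
    Subgroup.topEquiv.surjective

/-- An elementary section as a module. -/
theorem factor_rep {M : Type*} [Group M] {P : Type*} [Group P] [Finite P] (ψ : M →* MulAut P)
    (A B : Subgroup P) (hA : ∀ g, ∀ a ∈ A, ψ g a ∈ A) (hB : ∀ g, ∀ b ∈ B, ψ g b ∈ B) (hBA : B ≤ A)
    (hn : ∀ a ∈ A, ∀ b ∈ B, a * b * a⁻¹ ∈ B) (hsq : ∀ a ∈ A, a * a ∈ B) :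
    ∃ (d : ℕ) (ρ : M →* Module.End 𝕜 (Fin d → 𝕜)),
      (∀ g, ρ g = 1 ↔ ∀ a ∈ A, a⁻¹ * ψ g a ∈ B) ∧
      ∀ (g : M) (m : ℕ),
        (∀ t ∈ A, ∃ w : ℕ → P, w 0 = 1 ∧ (∀ i, w (i + 1) = t * ψ g (w i)) ∧ w m ∈ B) →
          ∑ i ∈ Finset.range m, ρ g ^ i = 0 := by
  classical
  set K := B.subgroupOf A
  haveI : K.Normal := ⟨fun b hb g => by
    rw [Subgroup.mem_subgroupOf] at hb ⊢
    exact hn g g.2 b hb⟩
  have hE : ∀ v : A ⧸ K, v * v = 1 := by
    intro v
    obtain ⟨a, rfl⟩ := QuotientGroup.mk'_surjective K v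
    rw [← map_mul]
    exact (QuotientGroup.eq_one_iff _).mpr (Subgroup.mem_subgroupOf.mpr (hsq a a.2))
  letI : CommGroup (A ⧸ K) :=
    { (inferInstance : Group (A ⧸ K)) with
      mul_comm := fun e e' => by
        calc e * e' = (e * e') * ((e' * e) * (e' * e)) := by rw [hE, mul_one]
          _ = e * (e' * e') * e * (e' * e) := by group
          _ = e' * e := by rw [hE e', mul_one, hE e, one_mul] }
  letI : Module (ZMod 2) (Additive (A ⧸ K)) :=
    AddCommGroup.zmodModule (n := 2) (G := Additive (A ⧸ K)) fun v =>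
      Additive.toMul.injective (by
        rw [toMul_nsmul, sq, hE]
        rfl)
  haveI : Finite (Additive (A ⧸ K)) := inferInstanceAs (Finite (A ⧸ K))
  haveI : FiniteDimensional (ZMod 2) (Additive (A ⧸ K)) := Module.Finite.of_finite
  let ψA : M → A →* A := fun g =>
    MonoidHom.mk' (fun a => ⟨ψ g a, hA g a a.2⟩) fun a b => Subtype.ext (map_mul (ψ g) (a : P) b)
  let qm : M → (A ⧸ K) →* (A ⧸ K) := fun g => QuotientGroup.map K K (ψA g) fun a ha => by
    rw [Subgroup.mem_comap, Subgroup.mem_subgroupOf]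
    exact hB g _ (Subgroup.mem_subgroupOf.mp ha)
  have hq1 : ∀ v, qm 1 v = v := fun v => by
    obtain ⟨a, rfl⟩ := QuotientGroup.mk'_surjective K v
    show QuotientGroup.mk (ψA 1 a) = _
    rw [show ψA 1 a = a from Subtype.ext (by show ψ 1 (a : P) = a; rw [map_one]; rfl)]
    rfl
  have hqm : ∀ g g' v, qm (g * g') v = qm g (qm g' v) := fun g g' v => by
    obtain ⟨a, rfl⟩ := QuotientGroup.mk'_surjective K v
    show QuotientGroup.mk (ψA (g * g') a) = QuotientGroup.mk (ψA g (ψA g' a))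
    rw [show ψA (g * g') a = ψA g (ψA g' a) from Subtype.ext (by
      show ψ (g * g') (a : P) = ψ g (ψ g' (a : P)); rw [map_mul]; rfl)]
  let φ : M →* MulAut (A ⧸ K) :=
    MonoidHom.mk' (fun g =>
      { toFun := qm g
        invFun := qm g⁻¹
        left_inv := fun v => by rw [← hqm, inv_mul_cancel, hq1]
        right_inv := fun v => by rw [← hqm, mul_inv_cancel, hq1]
        map_mul' := map_mul (qm g) }) fun g g' => MulEquiv.ext fun v => hqm g g' v
  have φmk : ∀ g (a : A), φ g (QuotientGroup.mk a) = QuotientGroup.mk (ψA g a) := fun _ _ => rfl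
  let ρ₀ := endOfAut (p := 2) φ
  refine ⟨_, (toBar 𝕜).toMonoidHom.comp ρ₀, fun g => ?_, fun g m h => ?_⟩
  · have hiff : (toBar 𝕜).toMonoidHom.comp ρ₀ g = 1 ↔ φ g = 1 := by
      constructor
      · intro e
        have e' : ρ₀ g = 1 := toBar_injective 𝕜 (e.trans (map_one _).symm)
        refine MulEquiv.ext fun v => Additive.ofMul.injective ?_
        exact LinearMap.congr_fun e' (Additive.ofMul v)
      · intro e
        show toBar 𝕜 (ρ₀ g) = 1
        rw [show ρ₀ g = 1 from LinearMap.ext fun v => by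
          show Additive.ofMul (φ g (Additive.toMul v)) = v
          rw [e]; rfl, map_one]
    rw [hiff]
    constructor
    · intro e a ha
      have h1 := congrArg (fun χ : MulAut (A ⧸ K) => χ (QuotientGroup.mk (⟨a, ha⟩ : A))) e
      simp only [φmk, MulAut.one_apply] at h1
      exact Subgroup.mem_subgroupOf.mp (QuotientGroup.eq.mp h1.symm)
    · intro e
      refine MulEquiv.ext fun v => ?_
      obtain ⟨a, rfl⟩ := QuotientGroup.mk'_surjective K v
      rw [QuotientGroup.mk'_apply, φmk, MulAut.one_apply]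
      exact (QuotientGroup.eq.mpr (Subgroup.mem_subgroupOf.mpr (e a a.2))).symm
  · have h0 : ∑ i ∈ Finset.range m, ρ₀ g ^ i = 0 := by
      refine LinearMap.ext fun v => ?_
      obtain ⟨⟨t, ht⟩, hv⟩ := QuotientGroup.mk'_surjective K (Additive.toMul v)
      obtain ⟨w, hw0, hws, hwm⟩ := h t ht
      have hwA : ∀ i, w i ∈ A := fun i => by
        induction i with
        | zero => rw [hw0]; exact A.one_mem
        | succ i ih => rw [hws]; exact A.mul_mem ht (hA g _ ih)
      have h1 := sum_pow_apply (p := 2) φ g (QuotientGroup.mk (⟨t, ht⟩ : A))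
        (fun i => QuotientGroup.mk (⟨w i, hwA i⟩ : A))
        (by rw [show (⟨w 0, hwA 0⟩ : A) = 1 from Subtype.ext hw0]; rfl)
        (fun i => by
          rw [φmk, ← QuotientGroup.mk_mul]
          exact congrArg QuotientGroup.mk (Subtype.ext (hws i))) m
      rw [(QuotientGroup.eq_one_iff (⟨w m, hwA m⟩ : A)).mpr (Subgroup.mem_subgroupOf.mpr hwm)] at h1
      rw [LinearMap.zero_apply, show v = Additive.ofMul (QuotientGroup.mk (⟨t, ht⟩ : A)) from hv.symm]
      exact h1.symm
    show ∑ i ∈ Finset.range m, (toBar 𝕜 (ρ₀ g)) ^ i = 0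
    rw [Finset.sum_congr rfl fun i _ => (map_pow (toBar 𝕜) (ρ₀ g) i).symm, ← map_sum, h0, map_zero]

/-- Representations side by side. -/
noncomputable def piRep {M : Type*} [Monoid M] {ι : Type*} {V : ι → Type*} [∀ i, AddCommGroup (V i)]
    [∀ i, Module 𝕜 (V i)] (ρ : ∀ i, M →* Module.End 𝕜 (V i)) : M →* Module.End 𝕜 (∀ i, V i) where
  toFun g := LinearMap.pi fun i => ρ i g ∘ₗ LinearMap.proj i
  map_one' := LinearMap.ext fun v => funext fun i => by simp
  map_mul' g g' := LinearMap.ext fun v => funext fun i => by simp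

theorem piRep_pow {M : Type*} [Monoid M] {ι : Type*} {V : ι → Type*} [∀ i, AddCommGroup (V i)]
    [∀ i, Module 𝕜 (V i)] (ρ : ∀ i, M →* Module.End 𝕜 (V i)) (g : M) (n : ℕ) (v : ∀ i, V i) (i : ι) :
    (piRep ρ g ^ n) v i = (ρ i g ^ n) (v i) := by
  induction n with
  | zero => rfl
  | succ n ih =>
    rw [pow_succ', pow_succ', Module.End.mul_apply, Module.End.mul_apply, ← ih]
    rfl

universe u

set_option maxHeartbeats 1600000 in
/-- Lowering the exponent: a faithful representation of `H / O_{2',2}(H)`. -/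
theorem next_rep {H : Type u} [Group H] [Finite H] [Group.IsSolvable H] {V : Type} [AddCommGroup V]
    [Module 𝕜 V] [FiniteDimensional 𝕜 V] (σ : H →* Module.End 𝕜 V) (hσ : Function.Injective σ)
    {f : ℕ} (hf : 2 ≤ f) (hO : Cfsg.pCore 2 H = ⊥)
    (hexp : ∀ g : H, (∃ i, g ^ 2 ^ i = 1) → g ^ 2 ^ f = 1)
    (hdeg : ∀ g : H, g ^ 2 ^ f = 1 → (σ g - 1) ^ (2 ^ f - 1) = 0)
    (hO' : Cfsg.pCore 2 (H ⧸ (Cfsg.upperPSeries 2 H 2).1) = ⊥) :
    ∃ (W : Type) (_ : AddCommGroup W) (_ : Module 𝕜 W) (_ : FiniteDimensional 𝕜 W)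
      (σ' : H ⧸ (Cfsg.upperPSeries 2 H 2).1 →* Module.End 𝕜 W), Function.Injective σ' ∧
        ∀ x, (∃ i, x ^ 2 ^ i = 1) → (σ' x - 1) ^ (2 ^ (f - 1) - 1) = 0 := by
  classical
  haveI : Fact (Nat.Prime 2) := ⟨Nat.prime_two⟩
  haveI : CharP 𝕜 2 := charP_of_injective_algebraMap (algebraMap (ZMod 2) 𝕜).injective 2
  set T := (Cfsg.upperPSeries 2 H 2).1 with hT
  set U₁ := (Cfsg.upperPSeries 2 H 1).1 with hU₁
  let PT : Sylow 2 T := default
  set P : Subgroup H := (PT : Subgroup T).map T.subtype with hPdef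
  have hPp : IsPGroup 2 P := PT.2.map _
  have hPT : P ≤ T := Subgroup.map_subtype_le _
  set N₀ := Subgroup.normalizer (P : Set H) with hN₀
  have hPN : P ≤ N₀ := Subgroup.le_normalizer
  -- the series
  have hU₁T : U₁ ≤ T := upperPSeries_le_succ' 1
  have hU₁odd : (Nat.card U₁).Coprime 2 := by
    have h1 := factor_relIndex (p := 2) (G := H) 0
    unfold Factor at h1
    rw [if_pos ⟨0, rfl⟩, show (Cfsg.upperPSeries 2 H 0).1 = ⊥ from rfl, Subgroup.relIndex_bot_left] at h1
    exact h1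
  have hTsup : T = U₁ ⊔ P := by
    refine le_antisymm ?_ (sup_le hU₁T hPT)
    rw [← Subgroup.relIndex_eq_one]
    obtain ⟨m, hm⟩ : ∃ m, U₁.relIndex T = 2 ^ m := by
      have h1 := factor_relIndex (p := 2) (G := H) 1
      unfold Factor at h1
      rwa [if_neg (by decide)] at h1
    have h1 : (U₁ ⊔ P).relIndex T ∣ 2 ^ m := hm ▸ Subgroup.relIndex_dvd_of_le_left T le_sup_left
    have h2 : (U₁ ⊔ P).relIndex T ∣ (PT : Subgroup T).index := by
      refine (Subgroup.relIndex_dvd_of_le_left T le_sup_right).trans (dvd_of_eq ?_)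
      rw [hPdef, Subgroup.relIndex, Subgroup.subgroupOf, Subgroup.comap_map_eq_self_of_injective
        T.subtype_injective]
    refine Nat.eq_one_of_dvd_coprimes ?_ h1 h2
    exact (Nat.prime_two.coprime_iff_not_dvd.mpr PT.not_dvd_index).pow_left m
  set π₀ : N₀ →* H ⧸ T := (QuotientGroup.mk' T).comp N₀.subtype with hπ₀d
  have hπ₀ : Function.Surjective π₀ := by
    intro y
    obtain ⟨g, rfl⟩ := QuotientGroup.mk'_surjective T y
    have hfr := Sylow.normalizer_sup_eq_top PT
    obtain ⟨n, hn, t, ht, rfl⟩ : g ∈ (N₀ : Set H) * (T : Set H) := by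
      rw [← Subgroup.mul_normal]
      exact hfr ▸ Subgroup.mem_top g
    refine ⟨⟨n, hn⟩, ?_⟩
    rw [map_mul, show QuotientGroup.mk' T t = 1 from (QuotientGroup.eq_one_iff t).mpr ht, mul_one]
    rfl
  -- elements centralising `P`
  have hcentP : ∀ c : H, (∀ a ∈ P, c * a = a * c) → c ∈ T := by
    intro c hc
    have hU1 : T = (Cfsg.pCore 2 (H ⧸ U₁)).comap (QuotientGroup.mk' U₁) :=
      upperPSeries_odd_succ (p := 2) (G := H) 0
    rw [hU1]
    refine PSolvable.centralizer_pCore_le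
      (PSolvable.isPSolvable_of_surjective _ (QuotientGroup.mk'_surjective U₁)
        (PSolvable.isPSolvable_of_isSolvable ‹_›))
      (pPrimeCore_quotient_odd (p := 2) (G := H) 0) ?_
    rw [Subgroup.mem_centralizer_iff]
    intro v hv
    obtain ⟨w, rfl⟩ := QuotientGroup.mk'_surjective U₁ v
    have hwT : w ∈ T := hU1 ▸ hv
    rw [hTsup] at hwT
    obtain ⟨o, ho, a, ha, rfl⟩ := Subgroup.mem_sup_of_normal_left.mp hwT
    rw [map_mul, show QuotientGroup.mk' U₁ o = 1 from (QuotientGroup.eq_one_iff o).mpr ho, one_mul,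
      ← map_mul, ← map_mul, hc a ha]
  -- the action on `P`
  set ψ : N₀ →* MulAut P := Subgroup.normalizerMonoidHom P with hψd
  have hψ : ∀ (g : N₀) (a : P), ((ψ g a : P) : H) = g * a * (g : H)⁻¹ := fun _ _ => rfl
  set G₀ : Subgroup (MulAut P) := ψ.range with hG₀
  have hG : ∀ a : P, MulAut.conj a ∈ G₀ := fun a =>
    ⟨⟨a, hPN a.2⟩, MulEquiv.ext fun b => Subtype.ext (by
      rw [hψ, MulAut.conj_apply, Subgroup.coe_mul, Subgroup.coe_mul, Subgroup.coe_inv])⟩
  set P0 : Subgroup P := (fixOdd σ).subgroupOf P with hP0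
  have hP0i : Critical.Detect.Inv G₀ P0 := by
    rintro _ ⟨g, rfl⟩ a ha
    rw [hP0, Subgroup.mem_subgroupOf] at ha ⊢
    rw [hψ]
    exact fixOdd_normal.conj_mem _ ha g
  haveI : P0.Normal := hP0i.normal hG
  haveI : IsPGroup 2 P → Group.IsNilpotent P := fun h => h.isNilpotent
  haveI hnil : Group.IsNilpotent P := hPp.isNilpotent
  obtain ⟨hDc, hDp⟩ := PSolvable.commutator_le_frattini (hPp.to_quotient P0)
  set D : Subgroup P := (frattini (P ⧸ P0)).comap (QuotientGroup.mk' P0) with hD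
  have hP0D : P0 ≤ D := fun a ha => by
    rw [hD, Subgroup.mem_comap, show QuotientGroup.mk' P0 a = 1 from (QuotientGroup.eq_one_iff a).mpr ha]
    exact one_mem _
  have hq0 : ∀ φ ∈ G₀, ∃ φ' : MulAut (P ⧸ P0),
      ∀ a : P, φ' (QuotientGroup.mk a) = QuotientGroup.mk (φ a) := by
    intro φ hφ
    refine ⟨QuotientGroup.congr P0 P0 φ ?_, fun a => rfl⟩
    refine le_antisymm ?_ ?_
    · rintro _ ⟨a, ha, rfl⟩
      exact hP0i φ hφ a ha
    · intro a ha
      exact ⟨φ⁻¹ a, hP0i _ (G₀.inv_mem hφ) a ha, MulAut.apply_inv_self P φ a⟩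
  have hDi : Critical.Detect.Inv G₀ D := by
    intro φ hφ a ha
    obtain ⟨φ', hφ'⟩ := hq0 φ hφ
    rw [hD, Subgroup.mem_comap, QuotientGroup.mk'_apply] at ha ⊢
    rw [← hφ']
    exact Subgroup.characteristic_iff_map_le.mp inferInstance φ' (Subgroup.mem_map_of_mem _ ha)
  obtain ⟨C, hCi, hCP, hCp, hCc, hCz⟩ := Critical.Detect.exists_crit hPp hG hP0i
  set Z : Subgroup P := C ⊓ Subgroup.centralizer (C : Set P) with hZ
  have hZi : Critical.Detect.Inv G₀ Z := hCi.inf hCi.centralizer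
  have hZc : ∀ a ∈ Z, ∀ b ∈ C, b * a = a * b := fun a ha b hb =>
    Subgroup.mem_centralizer_iff.mp ha.2 b hb
  let Ω : Subgroup P :=
    { carrier := {a | a ∈ Z ∧ a * a = 1}
      one_mem' := ⟨Z.one_mem, one_mul 1⟩
      mul_mem' := fun {a b} ha hb => ⟨Z.mul_mem ha.1 hb.1, by
        rw [(show Commute b a from hZc a ha.1 b hb.1.1).mul_mul_mul_comm, ha.2, hb.2, one_mul]⟩
      inv_mem' := fun {a} ha => ⟨Z.inv_mem ha.1, by rw [← mul_inv_rev, ha.2, inv_one]⟩ }
  have hΩi : Critical.Detect.Inv G₀ Ω := fun φ hφ a ha =>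
    ⟨hZi φ hφ a ha.1, by rw [← map_mul, ha.2, map_one]⟩
  let Ws : ℕ → Subgroup P := fun i => Ω ⊓ Subgroup.upperCentralSeries P i
  have hWi : ∀ i, Critical.Detect.Inv G₀ (Ws i) := fun i => hΩi.inf fun φ _ a ha =>
    Subgroup.characteristic_iff_map_le.mp inferInstance φ (Subgroup.mem_map_of_mem _ ha)
  have hinner : ∀ {A : Subgroup P}, Critical.Detect.Inv G₀ A → ∀ a : P, ∀ b ∈ A, a * b * a⁻¹ ∈ A :=
    fun {A} hA a b hb => by
      have := hA _ (hG a) b hb
      rwa [MulAut.conj_apply] at this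
  set cl := Group.nilpotencyClass P
  let ι := Option (Option (Fin cl))
  let As : ι → Subgroup P := fun o => o.elim ⊤ fun o => o.elim C fun i => Ws (i + 1)
  let Bs : ι → Subgroup P := fun o => o.elim D fun o => o.elim Z fun i => Ws i
  have hAi : ∀ o, Critical.Detect.Inv G₀ (As o) := by
    rintro (_ | _ | i)
    · exact fun _ _ _ _ => trivial
    · exact hCi
    · exact hWi _
  have hBi : ∀ o, Critical.Detect.Inv G₀ (Bs o) := by
    rintro (_ | _ | i)
    · exact hDi
    · exact hZi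
    · exact hWi _
  have hBA : ∀ o, Bs o ≤ As o := by
    rintro (_ | _ | i)
    · exact le_top
    · exact inf_le_left
    · exact inf_le_inf_left _ (Subgroup.upperCentralSeries_mono P (Nat.le_succ _))
  have hsq : ∀ o, ∀ a ∈ As o, a * a ∈ Bs o := by
    rintro (_ | _ | i) a ha
    · show a * a ∈ D
      rw [hD, Subgroup.mem_comap, map_mul, ← sq]
      exact hDp _
    · have := hCp a ha
      rwa [sq] at this
    · show a * a ∈ Ws i
      rw [ha.1.2]
      exact one_mem _
  have hinn : ∀ o, ∀ a : P, ∀ b ∈ As o, b⁻¹ * (a * b * a⁻¹) ∈ Bs o := by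
    rintro (_ | _ | i) a b hb
    · show b⁻¹ * (a * b * a⁻¹) ∈ D
      rw [hD, Subgroup.mem_comap]
      refine hDc ?_
      rw [show b⁻¹ * (a * b * a⁻¹) = ⁅b⁻¹, a⁆ by rw [commutatorElement_def]; group,
        map_commutatorElement]
      exact Subgroup.commutator_mem_commutator (Subgroup.mem_top _) (Subgroup.mem_top _)
    · show b⁻¹ * (a * b * a⁻¹) ∈ Z
      rw [show b⁻¹ * (a * b * a⁻¹) = ⁅b⁻¹, a⁆ by rw [commutatorElement_def]; group]
      exact hCc (Subgroup.commutator_mem_commutator (C.inv_mem hb) (Subgroup.mem_top a))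
    · refine ⟨Ω.mul_mem (Ω.inv_mem hb.1) (hinner hΩi a b hb.1), ?_⟩
      rw [show b⁻¹ * (a * b * a⁻¹) = ⁅b⁻¹, a⁆ by rw [commutatorElement_def]; group]
      exact Subgroup.mem_upperCentralSeries_succ_iff.mp (Subgroup.inv_mem _ hb.2) a
  choose d ρ hρ1 hρs using fun o => factor_rep ψ (As o) (Bs o) (fun g => hAi o _ ⟨g, rfl⟩)
    (fun g => hBi o _ ⟨g, rfl⟩) (hBA o) (fun a _ b hb => hinner (hBi o) a b hb) (hsq o)
  let R : N₀ →* Module.End 𝕜 (∀ o, Fin (d o) → 𝕜) := piRep ρ
  -- the kernel of the projection acts trivially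
  have hker : π₀.ker ≤ R.ker := by
    intro g hg
    have hgT : (g : H) ∈ T := (QuotientGroup.eq_one_iff _).mp hg
    rw [hTsup] at hgT
    obtain ⟨o, ho, a, ha, hoa⟩ := Subgroup.mem_sup_of_normal_left.mp hgT
    have hoN : o ∈ N₀ := by
      have := N₀.mul_mem g.2 (N₀.inv_mem (hPN ha))
      rwa [← hoa, mul_inv_cancel_right] at this
    have hoc : ∀ b ∈ P, o * b = b * o := by
      intro b hb
      have h1 : o * b * o⁻¹ * b⁻¹ ∈ U₁ := by
        rw [show o * b * o⁻¹ * b⁻¹ = o * (b * o⁻¹ * b⁻¹) by group]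
        exact U₁.mul_mem ho ((Cfsg.upperPSeries 2 H 1).2.conj_mem _ (U₁.inv_mem ho) b)
      have h2 : o * b * o⁻¹ * b⁻¹ ∈ P :=
        P.mul_mem ((Subgroup.mem_normalizer_iff.mp hoN b).mp hb) (P.inv_mem hb)
      have h3 := PSolvable.eq_one_of_mem_of_mem hPp hU₁odd h2 h1
      rwa [mul_inv_eq_one, mul_inv_eq_iff_eq_mul] at h3
    refine LinearMap.ext fun v => funext fun i => ?_
    show (ρ i g) (v i) = v i
    rw [(hρ1 i g).mpr fun b hb => ?_]
    · rfl
    · have e : ψ g b = (⟨a, ha⟩ : P) * b * (⟨a, ha⟩ : P)⁻¹ := Subtype.ext (by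
        rw [hψ, ← hoa, Subgroup.coe_mul, Subgroup.coe_mul, Subgroup.coe_inv]
        show o * a * (b : H) * (o * a)⁻¹ = a * b * a⁻¹
        rw [show o * a * (b : H) * (o * a)⁻¹ = o * (a * b * a⁻¹) * o⁻¹ by group,
          hoc _ (P.mul_mem (P.mul_mem ha b.2) (P.inv_mem ha)), mul_inv_cancel_right])
      rw [e]
      exact hinn i _ b hb
  let σ' : H ⧸ T →* Module.End 𝕜 (∀ o, Fin (d o) → 𝕜) :=
    (QuotientGroup.lift π₀.ker R hker).comp
      (QuotientGroup.quotientKerEquivOfSurjective π₀ hπ₀).symm.toMonoidHom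
  have hσ' : ∀ g : N₀, σ' (π₀ g) = R g := fun g => by
    show QuotientGroup.lift π₀.ker R hker
      ((QuotientGroup.quotientKerEquivOfSurjective π₀ hπ₀).symm (π₀ g)) = R g
    rw [show π₀ g = QuotientGroup.quotientKerEquivOfSurjective π₀ hπ₀ (QuotientGroup.mk g) from rfl,
      MulEquiv.symm_apply_apply]
    rfl
  refine ⟨∀ o, Fin (d o) → 𝕜, inferInstance, inferInstance, inferInstance, σ', ?_, ?_⟩
  · -- faithful
    rw [← MonoidHom.ker_eq_bot_iff, ← le_bot_iff, ← hO']
    refine Fitting.le_pCore inferInstance ?_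
    rintro ⟨y, hy⟩
    obtain ⟨g, rfl⟩ := hπ₀ y
    have hRg : R g = 1 := (hσ' g).symm.trans hy
    obtain ⟨j, c, hc, hord⟩ :=
      Nat.exists_eq_pow_mul_and_not_dvd (orderOf_pos g).ne' 2 (by norm_num)
    set g' := g ^ 2 ^ j
    refine ⟨j, Subtype.ext ?_⟩
    show π₀ g ^ 2 ^ j = 1
    rw [← map_pow]
    have hR' : R g' = 1 := by rw [map_pow, hRg, one_pow]
    have hcop : (orderOf (ψ g')).Coprime 2 := by
      refine Nat.Coprime.coprime_dvd_left ?_ ((Nat.prime_two.coprime_iff_not_dvd.mpr hc).symm)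
      refine (orderOf_map_dvd ψ g').trans (orderOf_dvd_of_pow_eq_one ?_)
      rw [← pow_mul, ← hord, pow_orderOf_eq_one]
    set α := ψ g' with hα
    have htriv : ∀ o, ∀ b ∈ As o, b⁻¹ * α b ∈ Bs o := fun o => (hρ1 o g').mp
      (LinearMap.ext fun w => by
        have h1 := LinearMap.congr_fun hR' (Pi.single o w)
        have h2 : ρ o g' (Pi.single (M := fun o => Fin (d o) → 𝕜) o w o) =
            Pi.single (M := fun o => Fin (d o) → 𝕜) o w o := congrFun h1 o
        rw [Pi.single_eq_same] at h2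
        exact h2)
    have hW : ∀ i, i ≤ cl → ∀ b ∈ Ws i, α b = b := by
      intro i
      induction i with
      | zero =>
        intro _ b hb
        have hb2 : b ∈ Subgroup.upperCentralSeries P 0 := hb.2
        rw [Subgroup.upperCentralSeries_zero, Subgroup.mem_bot] at hb2
        rw [hb2, map_one]
      | succ i ih =>
        intro hi b hb
        exact Critical.Detect.eq_self_of_fix hPp hcop
          (ih (by omega) _ (htriv (some (some ⟨i, by omega⟩)) b hb))
    have hΩ : ∀ b ∈ Ω, α b = b := fun b hb => hW cl le_rfl b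
      ⟨hb, by rw [Subgroup.upperCentralSeries_nilpotencyClass]; trivial⟩
    have hZfix : ∀ (i : ℕ), ∀ b ∈ Z, b ^ 2 ^ i = 1 → α b = b := by
      intro i
      induction i with
      | zero => intro b _ hb; rw [pow_zero, pow_one] at hb; rw [hb, map_one]
      | succ i ih =>
        intro b hb hbi
        have h2 := ih (b * b) (Z.mul_mem hb hb) (by rw [← sq, ← pow_mul, ← pow_succ', hbi])
        have hbαb : α b ∈ Z := hZi α ⟨g', rfl⟩ b hb
        refine Critical.Detect.eq_self_of_fix hPp hcop (hΩ _ ⟨Z.mul_mem (Z.inv_mem hb) hbαb, ?_⟩)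
        rw [(show Commute (α b) b⁻¹ from (show Commute (α b) b from
          hZc b hb _ hbαb.1).inv_right).mul_mul_mul_comm, ← map_mul, h2, ← mul_inv_rev, inv_mul_cancel]
    have hCfix : ∀ b ∈ C, α b = b := fun b hb => by
      refine Critical.Detect.eq_self_of_fix hPp hcop ?_
      have hm := htriv (some none) b hb
      obtain ⟨i, hi⟩ := hPp (b⁻¹ * α b)
      exact hZfix i _ hm hi
    have hP0fix : ∀ b ∈ P0, α b = b := fun b hb => by
      refine Critical.Detect.eq_self_of_fix hPp hcop (hCfix _ (hCz ⟨?_, ?_⟩))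
      · exact P0.mul_mem (P0.inv_mem hb) (hP0i α ⟨g', rfl⟩ b hb)
      · refine Subgroup.mem_centralizer_iff.mpr fun x hx => ?_
        have h1 : α (b * x * b⁻¹) = b * x * b⁻¹ := hCfix _ (hinner hCi b x hx)
        rw [map_mul, map_mul, map_inv, hCfix x hx] at h1
        calc x * (b⁻¹ * α b) = b⁻¹ * (b * x * b⁻¹) * α b := by group
          _ = b⁻¹ * (α b * x * (α b)⁻¹) * α b := by rw [h1]
          _ = b⁻¹ * α b * x := by group
    obtain ⟨α', hα'⟩ := hq0 α ⟨g', rfl⟩
    have hα'1 : α' = 1 := by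
      refine Coprime.mulAut_eq_one_of_frattini α' ?_ fun v => ?_
      · obtain ⟨i, hi⟩ := IsPGroup.iff_card.mp ((hPp.to_quotient P0).to_subgroup (frattini (P ⧸ P0)))
        rw [hi]
        refine (Nat.Coprime.coprime_dvd_left ?_ hcop).pow_right i
        refine orderOf_dvd_of_pow_eq_one (MulEquiv.ext fun v => ?_)
        obtain ⟨b, rfl⟩ := QuotientGroup.mk'_surjective P0 v
        have hit : ∀ m : ℕ, (α' ^ m) (QuotientGroup.mk b) = QuotientGroup.mk ((α ^ m) b) := by
          intro m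
          induction m with
          | zero => rfl
          | succ m ihm => rw [pow_succ', pow_succ', MulAut.mul_apply, MulAut.mul_apply, ihm, hα']
        rw [QuotientGroup.mk'_apply, hit, pow_orderOf_eq_one]
        rfl
      · obtain ⟨b, rfl⟩ := QuotientGroup.mk'_surjective P0 v
        rw [QuotientGroup.mk'_apply, hα', ← QuotientGroup.mk_inv, ← QuotientGroup.mk_mul]
        exact htriv none b trivial
    have hPfix : ∀ b : P, α b = b := fun b => by
      refine Critical.Detect.eq_self_of_fix hPp hcop (hP0fix _ ?_)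
      have h1 := congrArg (fun χ : MulAut (P ⧸ P0) => χ (QuotientGroup.mk b)) hα'1
      simp only [hα', MulAut.one_apply] at h1
      exact QuotientGroup.eq.mp h1.symm
    refine (QuotientGroup.eq_one_iff _).mpr (hcentP _ fun b hb => ?_)
    have h1 := congrArg (fun w : P => (w : H)) (hPfix ⟨b, hb⟩)
    rw [hα, hψ] at h1
    exact mul_inv_eq_iff_eq_mul.mp h1
  · -- no full block
    intro x hx
    obtain ⟨g, rfl, hg⟩ := exists_pElement_lift hπ₀ x hx
    rw [hσ']
    by_cases hnt : Nontrivial (∀ o, Fin (d o) → 𝕜)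
    swap
    · rw [not_nontrivial_iff_subsingleton] at hnt
      exact LinearMap.ext fun v => Subsingleton.elim _ _
    haveI : CharP (Module.End 𝕜 (∀ o, Fin (d o) → 𝕜)) 2 := charP_end 2 _
    rw [sub_one_pow_eq_geom]
    refine LinearMap.ext fun v => funext fun o => ?_
    rw [LinearMap.sum_apply, Finset.sum_apply, Finset.sum_congr rfl fun i _ => piRep_pow ρ g i v o,
      ← LinearMap.sum_apply]
    suffices h : ∑ i ∈ Finset.range (2 ^ (f - 1)), ρ o g ^ i = 0 by
      rw [h]
      rfl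
    refine hρs o g _ fun t ht => ?_
    set gh : H := (g : H) with hgh
    have hgP : ∀ a ∈ P, gh * a * gh⁻¹ ∈ P := fun a ha => (Subgroup.mem_normalizer_iff.mp g.2 a).mp ha
    have hg2 : ∃ i, gh ^ 2 ^ i = 1 := by
      obtain ⟨i, hi⟩ := hg
      exact ⟨i, congrArg Subtype.val hi⟩
    have hconjA : ∀ {A : Subgroup P}, Critical.Detect.Inv G₀ A → ∀ a ∈ A.map P.subtype,
        gh * a * gh⁻¹ ∈ A.map P.subtype := by
      rintro A hA _ ⟨a, ha, rfl⟩
      exact ⟨ψ g a, hA _ ⟨g, rfl⟩ a ha, hψ g a⟩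
    set w : ℕ → P := fun i =>
      ⟨((t : H) * gh) ^ i * (gh ^ i)⁻¹, translate_mem hgP t.2 i⟩ with hw
    refine ⟨w, Subtype.ext (by simp [hw]), fun i => Subtype.ext ?_, ?_⟩
    · rw [Subgroup.coe_mul, hψ]
      show ((t : H) * gh) ^ (i + 1) * (gh ^ (i + 1))⁻¹ =
        (t : H) * (gh * (((t : H) * gh) ^ i * (gh ^ i)⁻¹) * gh⁻¹)
      rw [pow_succ', pow_succ' gh]
      group
    have hfix : ∀ {A : Subgroup P}, A ≤ C → A.map P.subtype ≤ fixOdd σ := by
      rintro A hA _ ⟨a, ha, rfl⟩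
      exact hCP (hA ha)
    set m := 2 ^ (f - 1)
    match o, ht with
    | none, _ =>
      refine hP0D ?_
      show ((w m : P) : H) ∈ fixOdd σ
      have h2 : ∃ i, ((t : H) * gh) ^ 2 ^ i = 1 := by
        obtain ⟨i, hi⟩ := isPGroup_sup_zpowers hPp hg2 hgP
          ⟨(t : H) * gh, mul_mem (Subgroup.mem_sup_left t.2) (Subgroup.mem_sup_right (Subgroup.mem_zpowers gh))⟩
        exact ⟨i, congrArg Subtype.val hi⟩
      exact mul_mem (involution_mem_fixOdd (by omega) (hexp _ h2) (hdeg _ (hexp _ h2)))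
        (inv_mem (involution_mem_fixOdd (by omega) (hexp _ hg2) (hdeg _ (hexp _ hg2))))
    | some none, ht =>
      have hs := (chain_step hσ hO (by omega) hexp hdeg hPp (Subgroup.map_subtype_le C) (hfix le_rfl)
        (Subgroup.map_mono (f := P.subtype) (inf_le_left : Z ≤ C))
        (by rintro _ ⟨a, ha, rfl⟩; exact ⟨a * a, sq a ▸ hCp a ha, rfl⟩)
        (by rintro _ ⟨b, hb, rfl⟩ _ ⟨a, ha, rfl⟩; exact congrArg Subtype.val (hZc b hb a ha))
        hg2 hgP (hconjA hCi) (hconjA hZi) (Subgroup.mem_map_of_mem P.subtype ht)).1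
      refine ⟨?_, Subgroup.mem_centralizer_iff.mpr fun b hb => Subtype.ext ?_⟩
      · obtain ⟨a, ha, hae⟩ := translate_mem (hconjA hCi) (Subgroup.mem_map_of_mem P.subtype ht) m
        rwa [show w m = a from Subtype.ext hae.symm]
      · exact (hs _ (Subgroup.mem_map_of_mem P.subtype hb)).symm
    | some (some i), ht =>
      have hs := (chain_step hσ hO (by omega) hexp hdeg hPp (Subgroup.map_subtype_le Ω)
        (hfix fun a ha => ha.1.1) (bot_le (a := Ω.map P.subtype))
        (by rintro _ ⟨a, ha, rfl⟩; exact Subgroup.mem_bot.mpr (congrArg Subtype.val ha.2))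
        (fun b hb a _ => by rw [Subgroup.mem_bot.mp hb, one_mul, mul_one])
        hg2 hgP (hconjA hΩi) (fun b hb => by rw [Subgroup.mem_bot.mp hb, mul_one, mul_inv_cancel]; exact one_mem _)
        (Subgroup.mem_map_of_mem P.subtype ht.1)).2 rfl
      rw [show w m = 1 from Subtype.ext hs]
      exact one_mem _

/-- The bound for groups with a faithful representation without full blocks. -/
theorem length_of_rep : ∀ (f : ℕ), 1 ≤ f → ∀ {H : Type u} [Group H] [Finite H] [Group.IsSolvable H]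
    {V : Type} [AddCommGroup V] [Module 𝕜 V] [FiniteDimensional 𝕜 V] (σ : H →* Module.End 𝕜 V),
    Function.Injective σ → Cfsg.pCore 2 H = ⊥ →
    (∀ g : H, (∃ i, g ^ 2 ^ i = 1) → g ^ 2 ^ f = 1) →
    (∀ g : H, g ^ 2 ^ f = 1 → (σ g - 1) ^ (2 ^ f - 1) = 0) → Cfsg.PLengthLE 2 (f - 1) H := by
  haveI : Fact (Nat.Prime 2) := ⟨Nat.prime_two⟩
  haveI : CharP 𝕜 2 := charP_of_injective_algebraMap (algebraMap (ZMod 2) 𝕜).injective 2
  intro f
  induction f using Nat.strong_induction_on with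
  | _ f ih =>
  intro hf H _ _ _ V _ _ _ σ hσ hO hexp hdeg
  rcases Nat.lt_or_ge f 2 with hlt | hge
  · obtain rfl : f = 1 := by omega
    refine pLengthLE_of_mem 0 fun z hz => ?_
    have h1 := hdeg z (hexp z hz)
    rw [show (2 : ℕ) ^ 1 - 1 = 1 from rfl, pow_one, sub_eq_zero] at h1
    rw [hσ (h1.trans σ.map_one.symm)]
    exact one_mem _
  have hps : Cfsg.IsPSolvable 2 H := PSolvable.isPSolvable_of_isSolvable ‹_›
  obtain ⟨hO', -, d, σ₁, hσ₁, hdeg₁⟩ := exists_rep hps 0 f fun z hz => by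
    rw [hexp z hz]; exact one_mem _
  set T := (Cfsg.upperPSeries 2 H (2 * (0 + 1))).1 with hT
  have hker : Cfsg.pPrimeCore 2 H ≤ (QuotientGroup.mk' T).ker := by
    rw [QuotientGroup.ker_mk']
    intro y hy
    refine upperPSeries_le_succ' 1 ?_
    have hc : (Nat.card (Cfsg.pPrimeCore 2 H)).Coprime 2 := Transfer.pPrimeCore_coprime 2
    haveI := Transfer.pPrimeCore_normal 2 H
    refine le_upperPSeries_succ 0 (Cfsg.pPrimeCore 2 H) ?_ hy
    unfold Factor
    rw [if_pos ⟨0, rfl⟩, show (Cfsg.upperPSeries 2 H 0).1 = ⊥ from rfl, Subgroup.relIndex_bot_left]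
    exact hc
  have hexp' : ∀ x : H ⧸ T, (∃ i, x ^ 2 ^ i = 1) → x ^ 2 ^ (f - 1) = 1 := fun x hx =>
    two_step (QuotientGroup.mk' T) (QuotientGroup.mk'_surjective T) hker hO hO' hf hexp σ hσ σ₁ hσ₁
      (fun g hg _ => hdeg g hg) hdeg₁ x hx
  obtain ⟨W, _, _, _, σ', hσ', hdeg'⟩ := next_rep σ hσ hge hO hexp hdeg hO'
  haveI : Group.IsSolvable (H ⧸ T) :=
    Group.isSolvable_of_surjective (f := QuotientGroup.mk' T) (QuotientGroup.mk'_surjective T)
  have hQ : Cfsg.PLengthLE 2 (f - 1 - 1) (H ⧸ T) := ih (f - 1) (by omega) (by omega) σ' hσ' hO' hexp'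
    fun g hg => hdeg' g ⟨_, hg⟩
  have hTl : Cfsg.PLengthLE 2 1 T := by
    haveI := upperPSeries_characteristic (p := 2) (G := H) 1
    refine top_unique fun t _ => ?_
    have hle : ((Cfsg.upperPSeries 2 H 1).1.subgroupOf T) ≤ (Cfsg.upperPSeries 2 T 1).1 := by
      haveI : ((Cfsg.upperPSeries 2 H 1).1.subgroupOf T).Normal := inferInstance
      refine le_upperPSeries_succ 0 _ ?_
      have h1 := factor_relIndex (p := 2) (G := H) 0
      unfold Factor at h1 ⊢
      rw [if_pos ⟨0, rfl⟩, show (Cfsg.upperPSeries 2 H 0).1 = ⊥ from rfl, Subgroup.relIndex_bot_left] at h1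
      rw [if_pos ⟨0, rfl⟩, show (Cfsg.upperPSeries 2 T 0).1 = ⊥ from rfl, Subgroup.relIndex_bot_left,
        Nat.card_congr (Subgroup.subgroupOfEquivOfLe (upperPSeries_le_succ' 1)).toEquiv]
      exact h1
    refine upperPSeries_le_succ' 2 (le_upperPSeries_succ 1 ⊤ ?_ (Subgroup.mem_top t))
    unfold Factor
    rw [if_neg (by decide)]
    have h1 := factor_relIndex (p := 2) (G := H) 1
    unfold Factor at h1
    rw [if_neg (by decide)] at h1
    obtain ⟨k, hk⟩ := h1
    have hdvd : (Cfsg.upperPSeries 2 T 1).1.relIndex ⊤ ∣ 2 ^ k := by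
      rw [← hk, Subgroup.relIndex_top_right]
      exact Subgroup.index_dvd_of_le hle
    obtain ⟨j, -, hj⟩ := (Nat.dvd_prime_pow Nat.prime_two).mp hdvd
    exact ⟨j, hj⟩
  have := pLengthLE_add T hTl hQ
  rwa [show 1 + (f - 1 - 1) = f - 1 by omega] at this

/-- The `2`-length is at most the exponent. -/
theorem pLengthLE_exponent {G : Type u} [Group G] [Finite G] (hG : Cfsg.IsPSolvable 2 G) (e : ℕ)
    (hexp : ∀ (P : Sylow 2 G), ∀ x ∈ (P : Subgroup G), x ^ 2 ^ e = 1) : Cfsg.PLengthLE 2 e G := by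
  haveI : Fact (Nat.Prime 2) := ⟨Nat.prime_two⟩
  haveI := isSolvable_of_two_soluble hG
  have hz := exp_of_sylow e hexp
  rcases Nat.eq_zero_or_pos e with rfl | he
  · exact pLengthLE_of_mem 0 fun z hzz => by
      have := hz z hzz
      rw [pow_zero, pow_one] at this
      rw [this]
      exact one_mem _
  obtain ⟨hO, hH, d, σ, hσ, hdeg⟩ := exists_rep hG 0 e fun z hzz => by
    rw [hz z hzz]; exact one_mem _
  set T := (Cfsg.upperPSeries 2 G (2 * (0 + 1))).1 with hT
  haveI : Group.IsSolvable (G ⧸ T) :=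
    Group.isSolvable_of_surjective (f := QuotientGroup.mk' T) (QuotientGroup.mk'_surjective T)
  have hQ := length_of_rep e he σ hσ hO hH fun g hg => hdeg g hg ⟨e, hg⟩
  have hle : T ≤ (Cfsg.upperPSeries 2 G (2 * 1 + 1)).1 := upperPSeries_le_succ' 2
  have h := comap_upperPSeries_le (p := 2) (QuotientGroup.mk' T) (QuotientGroup.mk'_surjective T)
    (c := 2 * 1) (even_two_mul 1) (by rw [QuotientGroup.ker_mk']; exact hle) (2 * (e - 1))
  rw [show (Cfsg.upperPSeries 2 (G ⧸ T) (2 * (e - 1) + 1)).1 = ⊤ from hQ, Subgroup.comap_top] at h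
  show (Cfsg.upperPSeries 2 G (2 * e + 1)).1 = ⊤
  rw [show 2 * e + 1 = 2 * 1 + 2 * (e - 1) + 1 by omega]
  exact top_unique h

end CfsgLib.Gross
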