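import Cfsg.Agent.Lib.Gross.Cst

/-!
A unipotent element normalizing a subgroup: an invariant copy of a constituent, and the rigidity of
the intertwiners into a module on which the element has no full Jordan block.
-/

set_option autoImplicit false
set_option linter.style.haveILetI false
set_option linter.unusedSectionVars false

open Module CfsgLib.HallHigman

namespace CfsgLib.Gross

/-- The weighted geometric sum in characteristic `p`. -/
theorem weighted_geom {R : Type*} [Ring R] {p : ℕ} [hp : Fact p.Prime] [CharP R p] (a : R) (n : ℕ)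
    (hn : 1 ≤ n) :
    ∑ i ∈ Finset.range (p ^ n), i • a ^ i = - (a * (a - 1) ^ (p ^ n - 2)) := by
  classical
  letI := ZMod.algebra R p
  have hP : 2 ≤ p ^ n := le_trans hp.out.two_le (Nat.le_self_pow (by omega) p)
  have h : (Polynomial.X - 1 : Polynomial (ZMod p)) ^ (p ^ n - 1) =
      ∑ i ∈ Finset.range (p ^ n), Polynomial.X ^ i :=
    sub_one_pow_eq_geom (R := Polynomial (ZMod p)) (p := p) Polynomial.X n
  have h1 := congrArg (fun q => Polynomial.X * Polynomial.derivative q) h
  simp only [Polynomial.derivative_pow, Polynomial.derivative_sub, Polynomial.derivative_X,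
    Polynomial.derivative_one, sub_zero, mul_one, map_sum, Polynomial.derivative_X_pow,
    Finset.mul_sum] at h1
  have h2 : ∀ i : ℕ, (Polynomial.X : Polynomial (ZMod p)) * (Polynomial.C (i : ZMod p) *
      Polynomial.X ^ (i - 1)) = i • Polynomial.X ^ i := by
    intro i
    rcases i with _ | i
    · simp
    · rw [Nat.add_sub_cancel, nsmul_eq_mul, Polynomial.C_eq_natCast, pow_succ' Polynomial.X i]
      ring
  simp only [h2] at h1
  have h3 : ((p ^ n - 1 : ℕ) : ZMod p) = -1 := by
    rw [Nat.cast_sub (by omega), Nat.cast_pow, ZMod.natCast_self, zero_pow (by omega), Nat.cast_one,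
      zero_sub]
  rw [h3, show p ^ n - 1 - 1 = p ^ n - 2 by omega] at h1
  have h4 := congrArg (Polynomial.aeval a) h1.symm
  simpa [map_sum] using h4

variable {k : Type*} [Field k] {V : Type*} [AddCommGroup V] [Module k V]
variable {L : Type*} [Group L] {σ : L →* Module.End k V} {N : Subgroup L} {U : Submodule k V}

theorem inv_invariant {W : Submodule k V} {g : L} {m : ℕ} (hgm : g ^ m = 1) (hm : 0 < m)
    (hW : ∀ w ∈ W, σ g w ∈ W) : ∀ w ∈ W, σ g⁻¹ w ∈ W := by
  have h : ∀ i : ℕ, ∀ w ∈ W, σ (g ^ i) w ∈ W := by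
    intro i
    induction i with
    | zero => intro w hw; rw [pow_zero, map_one]; exact hw
    | succ i ih => intro w hw; rw [pow_succ', sigma_mul_apply]; exact hW _ (ih w hw)
  intro w hw
  rw [show g⁻¹ = g ^ (m - 1) from
    inv_eq_of_mul_eq_one_right (by rw [← pow_succ', Nat.sub_add_cancel hm, hgm])]
  exact h _ w hw

/-- Twisting an embedding by `g` and an endomorphism. -/
noncomputable def twistOp (σ : L →* Module.End k V) (g : L) {U : Submodule k V}
    (v : Module.End k U) : Module.End k (U →ₗ[k] V) where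
  toFun φ := σ g ∘ₗ φ ∘ₗ v
  map_add' φ ψ := by rw [LinearMap.add_comp, LinearMap.comp_add]
  map_smul' c φ := by rw [LinearMap.smul_comp, LinearMap.comp_smul]; rfl

theorem twistOp_pow (g : L) (v : Module.End k U) (i : ℕ) (φ : U →ₗ[k] V) :
    (twistOp σ g v ^ i) φ = σ (g ^ i) ∘ₗ φ ∘ₗ (v ^ i) := by
  induction i with
  | zero => rw [pow_zero, pow_zero, pow_zero, map_one]; rfl
  | succ i ih =>
    rw [pow_succ', Module.End.mul_apply, ih, pow_succ' g, map_mul, pow_succ v]
    rfl

variable [IsAlgClosed k] [FiniteDimensional k V] [Finite N] {p : ℕ} [hp : Fact p.Prime] [CharP k p]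

/-- An invariant copy of a constituent whose character is invariant. -/
theorem exists_fixed (h : IsCst σ N U) (hN : (Nat.card N : k) ≠ 0) (hT : Tw σ N U) {W : Submodule k V}
    (hUW : U ≤ W) (g : L) (hW : ∀ w ∈ W, σ g w ∈ W) {n : ℕ} (hgn : g ^ p ^ n = 1)
    (hconj : ∀ a ∈ N, g * a * g⁻¹ ∈ N) (hchi : ∀ a ∈ N, chi σ U (g * a * g⁻¹) = chi σ U a) :
    ∃ U' ≤ W, IsCst σ N U' ∧ (∀ a ∈ N, chi σ U' a = chi σ U a) ∧ ∀ w ∈ U', σ g w ∈ U' := by
  classical
  haveI := (Submodule.nontrivial_iff_ne_bot (p := U)).mpr h.ne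
  set P := p ^ n with hP
  have hPpos : 0 < P := Nat.pow_pos hp.out.pos
  have hconj' : ∀ a ∈ N, g⁻¹ * a * g ∈ N := by
    intro a ha
    have hpow : ∀ i : ℕ, g ^ i * a * (g ^ i)⁻¹ ∈ N := by
      intro i
      induction i with
      | zero => simpa using ha
      | succ i ih =>
        rw [pow_succ' g, show g * g ^ i * a * (g * g ^ i)⁻¹ = g * (g ^ i * a * (g ^ i)⁻¹) * g⁻¹ by group]
        exact hconj _ ih
    have e : g ^ (P - 1) = g⁻¹ :=
      (inv_eq_of_mul_eq_one_right (by rw [← pow_succ', Nat.sub_add_cancel hPpos, hgn])).symm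
    have := hpow (P - 1)
    rwa [e, inv_inv] at this
  -- the translate
  have hU1 : IsCst σ N (U.map (σ g)) := by
    refine ⟨?_, ?_, fun U' hle hinv => ?_⟩
    · rintro a ha _ ⟨w, hw, rfl⟩
      refine ⟨σ (g⁻¹ * a * g) w, h.inv _ (hconj' a ha) w hw, ?_⟩
      rw [← sigma_mul_apply, ← sigma_mul_apply]
      congr 2
      group
    · intro e
      obtain ⟨w, hw, hw0⟩ := (Submodule.ne_bot_iff U).mp h.ne
      have : σ g w ∈ U.map (σ g) := ⟨w, hw, rfl⟩
      rw [e, Submodule.mem_bot] at this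
      exact hw0 (sigma_injective g (by rw [this, map_zero]))
    · have hle' : U'.comap (σ g) ≤ U := fun w hw => by
        obtain ⟨w', hw', he⟩ := hle hw
        exact sigma_injective g he ▸ hw'
      rcases h.min _ hle' (fun a ha w hw => by
        show σ g (σ a w) ∈ U'
        rw [show σ g (σ a w) = σ (g * a * g⁻¹) (σ g w) by
          rw [← sigma_mul_apply, ← sigma_mul_apply]; congr 2; group]
        exact hinv _ (hconj a ha) _ hw) with e | e
      · left
        rw [eq_bot_iff]
        intro w hw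
        obtain ⟨w', -, rfl⟩ := hle hw
        have : w' ∈ U'.comap (σ g) := hw
        rw [e, Submodule.mem_bot] at this
        rw [this, map_zero]
        exact zero_mem _
      · right
        refine le_antisymm hle ?_
        rintro _ ⟨w, hw, rfl⟩
        rw [← e] at hw
        exact hw
  let e1 : U ≃ₗ[k] (U.map (σ g)) := Submodule.equivMapOfInjective _ (sigma_injective g) U
  have hchi1 : ∀ a ∈ N, chi σ (U.map (σ g)) a = chi σ U a := by
    intro a ha
    have e2 : hU1.rep ⟨a, ha⟩ = e1.conj (h.rep ⟨g⁻¹ * a * g, hconj' a ha⟩) := by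
      refine LinearMap.ext fun w => ?_
      obtain ⟨v, rfl⟩ := e1.surjective w
      rw [LinearEquiv.conj_apply_apply, LinearEquiv.symm_apply_apply]
      refine Subtype.ext ?_
      show σ a (σ g (v : V)) = σ g (σ (g⁻¹ * a * g) (v : V))
      rw [← sigma_mul_apply, ← sigma_mul_apply]
      congr 2
      group
    rw [show chi σ (U.map (σ g)) a = _ from hU1.chi_rep ⟨a, ha⟩, e2, LinearMap.trace_conj',
      ← h.chi_rep ⟨g⁻¹ * a * g, hconj' a ha⟩]
    have := hchi _ (hconj' a ha)
    rw [show g * (g⁻¹ * a * g) * g⁻¹ = a by group] at this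
    exact this.symm
  obtain ⟨A, hA, hAb⟩ := exists_iso_of_chi h hU1 hN hT hchi1
  set θ : Module.End k U := (LinearEquiv.ofBijective A hAb).symm.toLinearMap ∘ₗ e1.toLinearMap with hθ
  have hθrel : ∀ (a : N) w, θ (h.rep a w) = h.rep ⟨g * a * g⁻¹, hconj a a.2⟩ (θ w) := by
    intro a w
    show (LinearEquiv.ofBijective A hAb).symm (e1 (h.rep a w)) = _
    rw [LinearEquiv.symm_apply_eq]
    show e1 (h.rep a w) = A (h.rep ⟨g * a * g⁻¹, hconj a a.2⟩ ((LinearEquiv.ofBijective A hAb).symm (e1 w)))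
    rw [hA, show A ((LinearEquiv.ofBijective A hAb).symm (e1 w)) = e1 w from
      (LinearEquiv.ofBijective A hAb).apply_symm_apply _]
    refine Subtype.ext ?_
    show σ g (σ a (w : V)) = σ (g * a * g⁻¹) (σ g (w : V))
    rw [← sigma_mul_apply, ← sigma_mul_apply]
    congr 2
    group
  have hpowconj : ∀ (i : ℕ), ∀ a ∈ N, g ^ i * a * (g ^ i)⁻¹ ∈ N := by
    intro i
    induction i with
    | zero => intro a ha; simpa using ha
    | succ i ih =>
      intro a ha
      rw [pow_succ' g, show g * g ^ i * a * (g * g ^ i)⁻¹ = g * (g ^ i * a * (g ^ i)⁻¹) * g⁻¹ by group]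
      exact hconj _ (ih a ha)
  have hθpow : ∀ (i : ℕ) (a : N) w,
      (θ ^ i) (h.rep a w) = h.rep ⟨g ^ i * a * (g ^ i)⁻¹, hpowconj i a a.2⟩ ((θ ^ i) w) := by
    intro i
    induction i with
    | zero => intro a w; simp
    | succ i ih =>
      intro a w
      rw [pow_succ', Module.End.mul_apply, Module.End.mul_apply, ih, hθrel]
      congr 2
      refine Subtype.ext ?_
      show g * (g ^ i * a * (g ^ i)⁻¹) * g⁻¹ = g ^ (i + 1) * a * (g ^ (i + 1))⁻¹
      rw [pow_succ' g]
      group
  obtain ⟨c, hc⟩ := Intw.scalar (A := θ ^ P) (fun a w => by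
    rw [hθpow]
    congr 2
    refine Subtype.ext ?_
    show g ^ P * a * (g ^ P)⁻¹ = a
    rw [hgn]
    group) h.isIrr
  have hθinj : Function.Injective θ :=
    (LinearEquiv.ofBijective A hAb).symm.injective.comp e1.injective
  have hc0 : c ≠ 0 := by
    intro e
    obtain ⟨w, hw⟩ := exists_ne (0 : U)
    refine hw ?_
    have hinj : Function.Injective (θ ^ P) := by
      rw [Module.End.coe_pow]; exact hθinj.iterate P
    exact hinj (by rw [map_zero, hc, e, zero_smul]; rfl)
  obtain ⟨d, hd⟩ := IsAlgClosed.exists_pow_nat_eq (k := k) c⁻¹ hPpos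
  set u : Module.End k U := d • θ with hu
  have hd0 : d ≠ 0 := fun e => by
    rw [e, zero_pow hPpos.ne'] at hd; exact inv_ne_zero hc0 hd.symm
  have huP : u ^ P = 1 := by
    rw [hu, smul_pow, hd, hc, smul_smul, inv_mul_cancel₀ hc0, one_smul]; rfl
  have hurel : ∀ (a : N) w, u (h.rep a w) = h.rep ⟨g * a * g⁻¹, hconj a a.2⟩ (u w) := fun a w => by
    rw [hu, LinearMap.smul_apply, LinearMap.smul_apply, map_smul, hθrel]
  set v := u ^ (P - 1) with hv
  have huv : u * v = 1 := by rw [hv, ← pow_succ', Nat.sub_add_cancel hPpos, huP]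
  have hvu : v * u = 1 := by rw [hv, ← pow_succ, Nat.sub_add_cancel hPpos, huP]
  have hvrel : ∀ (a : N) w, v (h.rep a w) = h.rep ⟨g⁻¹ * a * g, hconj' a a.2⟩ (v w) := by
    intro a w
    have h1 := hurel ⟨g⁻¹ * a * g, hconj' a a.2⟩ (v w)
    rw [show u (v w) = w from LinearMap.congr_fun huv w] at h1
    have h2 := congrArg v h1
    rw [show ∀ z, v (u z) = z from LinearMap.congr_fun hvu] at h2
    rw [h2]
    congr 3
    refine Subtype.ext ?_
    show a = g * (g⁻¹ * a * g) * g⁻¹
    group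
  set T := twistOp σ g v
  haveI : CharP (Module.End k (U →ₗ[k] V)) p := by
    haveI : Nontrivial (U →ₗ[k] V) := ⟨U.subtype, 0, fun e => by
      obtain ⟨w, hw⟩ := exists_ne (0 : U)
      exact hw (U.subtype_injective (by rw [e]; rfl))⟩
    exact charP_end p _
  have hTP : (T - 1) ^ P = 0 := by
    rw [hP, sub_one_pow_prime_pow, sub_eq_zero]
    refine LinearMap.ext fun φ => ?_
    rw [twistOp_pow, ← hP, hgn, map_one, hv, ← pow_mul, mul_comm (P - 1), pow_mul, huP, one_pow]
    rfl
  let Good : (U →ₗ[k] V) → Prop := fun φ => Intw h.rep (σ.comp N.subtype) φ ∧ ∀ w, φ w ∈ W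
  have hgood : ∀ φ, Good φ → Good ((T - 1) φ) := by
    rintro φ ⟨h1, h2⟩
    refine ⟨fun a w => ?_, fun w => W.sub_mem (hW _ (h2 _)) (h2 _)⟩
    show σ g (φ (v (h.rep a w))) - φ (h.rep a w) = σ (a : L) (σ g (φ (v w)) - φ w)
    rw [map_sub, h1 a w, hvrel, h1]
    show σ g (σ (g⁻¹ * a * g) (φ (v w))) - σ (a : L) (φ w) = _
    rw [← sigma_mul_apply, ← sigma_mul_apply]
    congr 3
    group
  have hgoodk : ∀ (i : ℕ), Good (((T - 1) ^ i) U.subtype) := by
    intro i
    induction i with
    | zero => exact ⟨fun a w => rfl, fun w => hUW w.2⟩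
    | succ i ih => rw [pow_succ', Module.End.mul_apply]; exact hgood _ ih
  have h0 : U.subtype ≠ 0 := fun e => by
    obtain ⟨w, hw⟩ := exists_ne (0 : U)
    exact hw (U.subtype_injective (by rw [e]; rfl))
  have hexk : ∃ i : ℕ, ((T - 1) ^ i) U.subtype = 0 := ⟨P, by rw [hTP]; rfl⟩
  obtain ⟨i, hi⟩ : ∃ i, Nat.find hexk = i + 1 := by
    refine ⟨Nat.find hexk - 1, ?_⟩
    have : Nat.find hexk ≠ 0 := fun e => h0 (by
      have := Nat.find_spec hexk
      rwa [e, pow_zero] at this)
    omega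
  set φ := ((T - 1) ^ i) U.subtype with hφ
  obtain ⟨hφi, hφW⟩ := hgoodk i
  have hφ0 : φ ≠ 0 := Nat.find_min hexk (by omega)
  have hφfix : T φ = φ := by
    have := Nat.find_spec hexk
    rwa [hi, pow_succ', Module.End.mul_apply, LinearMap.sub_apply, Module.End.one_apply,
      sub_eq_zero] at this
  have hinj := hφi.injective h.isIrr hφ0
  have hU' : IsCst σ N (LinearMap.range φ) := by
    refine ⟨?_, fun e => hφ0 (LinearMap.range_eq_bot.mp e), fun U' hle hinv => ?_⟩
    · rintro a ha _ ⟨w, rfl⟩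
      exact ⟨h.rep ⟨a, ha⟩ w, hφi ⟨a, ha⟩ w⟩
    · rcases h.isIrr.2 (U'.comap φ) (fun a w hw => by
        rw [Submodule.mem_comap] at hw ⊢
        rw [hφi]
        exact hinv _ a.2 _ hw) with e | e
      · left
        rw [eq_bot_iff]
        intro w hw
        obtain ⟨w', rfl⟩ := hle hw
        have : w' ∈ U'.comap φ := hw
        rw [e, Submodule.mem_bot] at this
        rw [this, map_zero]
        exact zero_mem _
      · right
        refine le_antisymm hle ?_
        rintro _ ⟨w, rfl⟩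
        exact e.ge (Submodule.mem_top : w ∈ ⊤)
  refine ⟨LinearMap.range φ, ?_, hU', fun a ha => ?_, ?_⟩
  · rintro _ ⟨w, rfl⟩; exact hφW w
  · refine chi_eq_of_intw h hU' (A := φ.rangeRestrict) (fun b w => Subtype.ext (hφi b w))
      ⟨fun x y e => hinj (congrArg Subtype.val e), φ.surjective_rangeRestrict⟩ ha
  · rintro _ ⟨w, rfl⟩
    refine ⟨u w, ?_⟩
    conv_lhs => rw [← hφfix]
    show σ g (φ (v (u w))) = _
    rw [← Module.End.mul_apply v, hvu, Module.End.one_apply]

/-- Without a full Jordan block on the target, the intertwiners commute with `g`. -/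
theorem intw_commute {R : Subgroup L} {U₀ U' : Submodule k V} (h0 : IsCst σ R U₀) (g : L) {n : ℕ}
    (hn : 1 ≤ n) (hgn : g ^ p ^ n = 1) (hconj : ∀ a ∈ R, g⁻¹ * a * g ∈ R)
    (hg0 : ∀ w ∈ U₀, σ g w ∈ U₀) (hg' : ∀ w ∈ U', σ g w ∈ U')
    (hsum : ∀ w ∈ U', ((σ g - 1) ^ (p ^ n - 1)) w = 0)
    (hne : ∃ w ∈ U₀, ((σ g - 1) ^ (p ^ n - 2)) w ≠ 0)
    (φ : U₀ →ₗ[k] V) (hφ : Intw h0.rep (σ.comp R.subtype) φ) (hφU : ∀ w, φ w ∈ U') :
    ∀ w : U₀, σ g (φ w) = φ ⟨σ g w, hg0 _ w.2⟩ := by
  classical
  haveI := (Submodule.nontrivial_iff_ne_bot (p := U₀)).mpr h0.ne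
  set P := p ^ n with hP
  have hPpos : 0 < P := Nat.pow_pos hp.out.pos
  have hginv := inv_invariant hgn hPpos hg0
  set u : Module.End k U₀ := (σ g).restrict hg0 with hu
  set v : Module.End k U₀ := (σ g⁻¹).restrict hginv with hv
  set T := twistOp σ g v with hT
  have huv : ∀ w, u (v w) = w := fun w => Subtype.ext (sigma_apply_inv g (w : V))
  have hvu : ∀ w, v (u w) = w := fun w => Subtype.ext (sigma_inv_apply g (w : V))
  have hvP : v ^ P = 1 := by
    refine LinearMap.ext fun w => Subtype.ext ?_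
    have : ∀ i : ℕ, (((v ^ i) w : U₀) : V) = σ (g⁻¹ ^ i) w := by
      intro i
      induction i with
      | zero => simp
      | succ i ih =>
        rw [pow_succ', Module.End.mul_apply, pow_succ' g⁻¹, sigma_mul_apply, ← ih]
        rfl
    rw [this, inv_pow, hgn, inv_one, map_one]
    rfl
  haveI : CharP (Module.End k V) p := by
    obtain ⟨w, hw⟩ := exists_ne (0 : U₀)
    haveI : Nontrivial V := ⟨(w : V), 0, fun e => hw (Subtype.ext e)⟩
    exact charP_end p V
  let Good : (U₀ →ₗ[k] V) → Prop := fun ψ => Intw h0.rep (σ.comp R.subtype) ψ ∧ ∀ w, ψ w ∈ U'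
  have hgood : ∀ ψ, Good ψ → Good ((T - 1) ψ) := by
    rintro ψ ⟨h1, h2⟩
    refine ⟨fun a w => ?_, fun w => U'.sub_mem (hg' _ (h2 _)) (h2 _)⟩
    show σ g (ψ (v (h0.rep a w))) - ψ (h0.rep a w) = σ (a : L) (σ g (ψ (v w)) - ψ w)
    rw [show v (h0.rep a w) = h0.rep ⟨g⁻¹ * a * g, hconj a a.2⟩ (v w) from Subtype.ext (by
      show σ g⁻¹ (σ (a : L) (w : V)) = σ (g⁻¹ * a * g) (σ g⁻¹ (w : V))
      rw [← sigma_mul_apply, ← sigma_mul_apply]
      congr 2
      group), map_sub, h1, h1]
    show σ g (σ (g⁻¹ * a * g) (ψ (v w))) - σ (a : L) (ψ w) = _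
    rw [← sigma_mul_apply, ← sigma_mul_apply]
    congr 3
    group
  -- the second step is impossible
  have key : ∀ ψ : U₀ →ₗ[k] V, Good ψ → (T - 1) ((T - 1) ψ) = 0 → (T - 1) ψ = 0 := by
    intro ψ hψ h2
    by_contra h1
    set χ := (T - 1) ψ with hχ
    have e1 : ∀ w, σ g (ψ w) = ψ (u w) + χ (u w) := fun w => by
      rw [hχ, LinearMap.sub_apply, Module.End.one_apply, LinearMap.sub_apply]
      show _ = ψ (u w) + (σ g (ψ (v (u w))) - ψ (u w))
      rw [hvu, add_sub_cancel]
    have e2 : ∀ w, σ g (χ w) = χ (u w) := fun w => by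
      have := LinearMap.congr_fun h2 (u w)
      rw [LinearMap.sub_apply, Module.End.one_apply, LinearMap.sub_apply, LinearMap.zero_apply,
        sub_eq_zero] at this
      rw [← this]
      show σ g (χ w) = σ g (χ (v (u w)))
      rw [hvu]
    have e3 : ∀ i : ℕ, ∀ w, (σ g ^ i) (ψ w) = ψ ((u ^ i) w) + i • χ ((u ^ i) w) := by
      intro i
      induction i with
      | zero => intro w; simp
      | succ i ih =>
        intro w
        rw [pow_succ', Module.End.mul_apply, ih, map_add, map_nsmul, e1, e2, pow_succ',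
          Module.End.mul_apply, succ_nsmul]
        abel
    obtain ⟨w, hw, hwne⟩ := hne
    set w' : U₀ := ⟨w, hw⟩
    have hw' : ∀ (i : ℕ) (z : U₀), (((u - 1) ^ i) z : V) = ((σ g - 1) ^ i) (z : V) := by
      intro i
      induction i with
      | zero => intro z; rfl
      | succ i ih =>
        intro z
        rw [pow_succ', pow_succ', Module.End.mul_apply, Module.End.mul_apply, ← ih]
        rfl
    haveI : CharP (Module.End k U₀) p := charP_end p U₀
    have hu0 : (u - 1) ^ (P - 1) = 0 := by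
      -- transport along the injective `χ`
      refine LinearMap.ext fun z => (hgood ψ hψ).1.injective h0.isIrr h1 ?_
      rw [LinearMap.zero_apply, map_zero]
      have : ∀ (i : ℕ) (z : U₀), χ (((u - 1) ^ i) z) = ((σ g - 1) ^ i) (χ z) := by
        intro i
        induction i with
        | zero => intro z; rfl
        | succ i ih =>
          intro z
          rw [pow_succ', pow_succ', Module.End.mul_apply, Module.End.mul_apply, ← ih,
            LinearMap.sub_apply, LinearMap.sub_apply, Module.End.one_apply, Module.End.one_apply,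
            map_sub, e2]
      rw [this]
      exact hsum _ ((hgood ψ hψ).2 z)
    have h3 := hsum _ (hψ.2 w')
    rw [sub_one_pow_eq_geom, LinearMap.sum_apply, Finset.sum_congr rfl fun i _ => e3 i w',
      Finset.sum_add_distrib, ← map_sum, ← LinearMap.sum_apply] at h3
    rw [sub_one_pow_eq_geom] at hu0
    rw [hu0, LinearMap.zero_apply, map_zero, zero_add] at h3
    rw [Finset.sum_congr rfl fun i _ => (show i • χ ((u ^ i) w') = χ ((i • u ^ i) w') by
        rw [LinearMap.smul_apply, map_nsmul]), ← map_sum, ← LinearMap.sum_apply, weighted_geom u n hn, LinearMap.neg_apply, map_neg,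
      neg_eq_zero] at h3
    refine hwne ?_
    have h4 : u (((u - 1) ^ (P - 2)) w') = 0 := (hgood ψ hψ).1.injective h0.isIrr h1
      (by rw [map_zero]; exact h3)
    have h5 := congrArg v h4
    rw [hvu, map_zero] at h5
    exact (hw' (P - 2) w').symm.trans (congrArg Subtype.val h5)
  have hgoodk : ∀ i : ℕ, Good (((T - 1) ^ i) φ) := by
    intro i
    induction i with
    | zero => exact ⟨hφ, hφU⟩
    | succ i ih => rw [pow_succ', Module.End.mul_apply]; exact hgood _ ih
  haveI : CharP (Module.End k (U₀ →ₗ[k] V)) p := by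
    haveI : Nontrivial (U₀ →ₗ[k] V) := ⟨U₀.subtype, 0, fun e => by
      obtain ⟨w, hw⟩ := exists_ne (0 : U₀)
      exact hw (U₀.subtype_injective (by rw [e]; rfl))⟩
    exact charP_end p _
  have hTP : (T - 1) ^ P = 0 := by
    rw [hP, sub_one_pow_prime_pow, sub_eq_zero]
    refine LinearMap.ext fun ψ => ?_
    rw [hT, twistOp_pow, ← hP, hgn, map_one, hvP]
    rfl
  have hexk : ∃ i : ℕ, ((T - 1) ^ i) φ = 0 := ⟨P, by rw [hTP]; rfl⟩
  have hle : Nat.find hexk ≤ 1 := by
    by_contra hlt
    obtain ⟨i, hi⟩ : ∃ i, Nat.find hexk = i + 2 := ⟨Nat.find hexk - 2, by omega⟩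
    refine Nat.find_min hexk (show i + 1 < Nat.find hexk by omega) ?_
    rw [pow_succ', Module.End.mul_apply]
    refine key _ (hgoodk i) ?_
    rw [← Module.End.mul_apply, ← Module.End.mul_apply, mul_assoc, ← pow_succ', ← pow_succ',
      show i + 1 + 1 = Nat.find hexk by omega]
    exact Nat.find_spec hexk
  intro w
  have h1 : ((T - 1) ^ (1 : ℕ)) φ = 0 := by
    have := Nat.find_spec hexk
    rw [show (1 : ℕ) = (1 - Nat.find hexk) + Nat.find hexk by omega, pow_add, Module.End.mul_apply,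
      this, map_zero]
  rw [pow_one] at h1
  have h2 := LinearMap.congr_fun h1 ⟨σ g w, hg0 _ w.2⟩
  rw [LinearMap.sub_apply, Module.End.one_apply, LinearMap.sub_apply, LinearMap.zero_apply,
    sub_eq_zero] at h2
  rw [← h2]
  show σ g (φ w) = σ g (φ (v ⟨σ g w, hg0 _ w.2⟩))
  rw [show v ⟨σ g w, hg0 _ w.2⟩ = w from hvu w]

end CfsgLib.Gross
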