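import Cfsg.Agent.Lib.Gross.Chain

/-!
Vectors outside the class of a constituent, and the independence of the translates of a constituent
under commuting involutions acting differently on the quotient by the scalars.
-/

set_option autoImplicit false
set_option linter.style.haveILetI false
set_option linter.unusedSectionVars false

open Module CfsgLib.HallHigman

namespace CfsgLib.Gross

variable {k : Type*} [Field k] {V : Type*} [AddCommGroup V] [Module k V]
variable {L : Type*} [Group L] {σ : L →* Module.End k V} {N : Subgroup L} {U : Submodule k V}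

variable (σ N) in
/-- The sum of the constituents of the classes outside the orbit under `K`. -/
def out (K : Subgroup L) (U : Submodule k V) : Submodule k V :=
  ⨆ W : {W : Submodule k V // IsCst σ N W ∧ ∀ y ∈ K, ∃ a ∈ N, chi σ W a ≠ chi σ (U.map (σ y)) a}, W.1

theorem out_anti {K K' : Subgroup L} (h : K' ≤ K) : out σ N K U ≤ out σ N K' U :=
  iSup_le fun W => le_iSup (fun W : {W : Submodule k V // IsCst σ N W ∧
    ∀ y ∈ K', ∃ a ∈ N, chi σ W a ≠ chi σ (U.map (σ y)) a} => W.1)
    ⟨W.1, W.2.1, fun y hy => W.2.2 y (h hy)⟩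

theorem out_inv_mem {K : Subgroup L} {g : L} (hg : g ∈ N) :
    ∀ v ∈ out σ N K U, σ g v ∈ out σ N K U := by
  intro v hv
  have hle : (out σ N K U).map (σ g) ≤ out σ N K U := by
    rw [out, Submodule.map_iSup]
    refine iSup_le fun W => le_trans ?_ (le_iSup _ W)
    rintro _ ⟨w, hw, rfl⟩
    exact W.2.1.inv g hg w hw
  exact hle ⟨v, hv, rfl⟩

variable [hNn : N.Normal]

theorem out_inv {K : Subgroup L} (h : IsCst σ N U) {x : L} (hx : x ∈ K) :
    ∀ v ∈ out σ N K U, σ x v ∈ out σ N K U := by
  intro v hv
  have hle : (out σ N K U).map (σ x) ≤ out σ N K U := by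
    rw [out, Submodule.map_iSup]
    refine iSup_le fun W => ?_
    refine le_iSup_of_le ⟨W.1.map (σ x), W.2.1.translate x, fun y hy => ?_⟩ le_rfl
    obtain ⟨a, ha, hne⟩ := W.2.2 (x⁻¹ * y) (K.mul_mem (K.inv_mem hx) hy)
    refine ⟨x * a * x⁻¹, hNn.conj_mem a ha x, fun e => hne ?_⟩
    rw [W.2.1.chi_translate x (hNn.conj_mem a ha x), h.chi_translate y (hNn.conj_mem a ha x),
      show x⁻¹ * (x * a * x⁻¹) * x = a by group] at e
    rw [h.chi_translate _ ha, e]
    congr 1
    group
  exact hle ⟨v, hv, rfl⟩

theorem mem_out {K : Subgroup L} (h : IsCst σ N U) {g : L} (hg : ∀ y ∈ K, y⁻¹ * g ∉ stabU σ N U)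
    {u : V} (hu : u ∈ U) : σ g u ∈ out σ N K U := by
  refine Submodule.mem_iSup_of_mem ⟨U.map (σ g), h.translate g, fun y hy => ?_⟩ ⟨u, hu, rfl⟩
  by_contra hno
  push Not at hno
  refine hg y hy fun a ha => ?_
  have h1 := hno (g * a * g⁻¹) (hNn.conj_mem a ha g)
  rw [h.chi_translate g (hNn.conj_mem a ha g), h.chi_translate y (hNn.conj_mem a ha g),
    show g⁻¹ * (g * a * g⁻¹) * g = a by group] at h1
  rw [h1]
  congr 1
  group

variable [IsAlgClosed k] [FiniteDimensional k V] [Finite N]

theorem out_zero {K : Subgroup L} (hN : (Nat.card N : k) ≠ 0) {W₀ : Submodule k V}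
    (h : IsCst σ N W₀) (he : ∀ a ∈ N, chi σ W₀ a = chi σ U a) {v : V} (hv : v ∈ W₀)
    (hout : v ∈ out σ N K U) : v = 0 := by
  obtain ⟨s, hs⟩ := Submodule.mem_iSup_iff_exists_finset.mp hout
  obtain ⟨μ, hμ⟩ := (Submodule.mem_iSup_finset_iff_exists_sum _ v).mp hs
  refine eq_zero_of_sum_eq h hN s (fun W => W.1) (fun W _ => W.2.1) (fun W _ => ?_) hv
    (fun W => (μ W : V)) (fun W _ => (μ W).2) hμ.symm
  obtain ⟨a, ha, hne⟩ := W.2.2 1 K.one_mem
  refine ⟨a, ha, fun e => hne ?_⟩
  rw [e, he a ha, map_one, show U.map (1 : Module.End k V) = U from Submodule.map_id U]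

theorem ne_out {K : Subgroup L} (hN : (Nat.card N : k) ≠ 0) (h : IsCst σ N U)
    (hout : ∀ u ∈ U, u ∈ out σ N K U) : False := by
  obtain ⟨u, hu, hu0⟩ := (Submodule.ne_bot_iff U).mp h.ne
  exact hu0 (out_zero hN h (fun _ _ => rfl) hu (hout u hu))

theorem translate_out {K : Subgroup L} (hN : (Nat.card N : k) ≠ 0) (h : IsCst σ N U) {g : L}
    (hg : g ∈ stabU σ N U) {u : V} (hu : u ∈ U) (hout : σ g u ∈ out σ N K U) : u = 0 := by
  refine sigma_injective g ((out_zero hN (h.translate g) (fun a ha => ?_) ⟨u, hu, rfl⟩ hout).trans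
    (map_zero _).symm)
  rw [h.chi_translate g ha, ← hg _ (conj_mem' g ha)]
  congr 1
  group

/-- A `2`-element fixing a class of the quotient acts on it exactly. -/
theorem two_fix [CharP k 2] (h : IsCst σ N U) (hN : (Nat.card N : k) ≠ 0) (hT : Tw σ N U) {Y : Subgroup L}
    (hY : IsPGroup 2 Y) {y : L} (hy : y ∈ Y) (hyS : y ∈ stabU σ N U) {a : L} (ha : a ∈ N)
    (hfix : y * a * y⁻¹ * a⁻¹ ∈ h.zsub) : ∀ u ∈ U, σ (y * a * y⁻¹) u = σ a u := by
  haveI : Fact (Nat.Prime 2) := ⟨Nat.prime_two⟩
  set ζ := y * a * y⁻¹ * a⁻¹ with hζ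
  obtain ⟨hζN, c, hc⟩ := hfix
  have hc' : ∀ u ∈ U, σ (y * a * y⁻¹) u = c • σ a u := fun u hu => by
    rw [← hc _ (h.inv a ha u hu), ← sigma_mul_apply, hζ, inv_mul_cancel_right]
  have hm : ∀ m : ℕ, ∀ u ∈ U, σ (y ^ m * a * (y ^ m)⁻¹) u = c ^ m • σ a u := by
    intro m
    induction m with
    | zero => intro u _; simp
    | succ m ih =>
      intro u hu
      have hd : y ^ m * a * (y ^ m)⁻¹ * a⁻¹ ∈ N :=
        N.mul_mem (hNn.conj_mem a ha _) (N.inv_mem ha)
      have hd' : ∀ w ∈ U, σ (y ^ m * a * (y ^ m)⁻¹ * a⁻¹) w = c ^ m • w := fun w hw => by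
        rw [sigma_mul_apply, ih _ (h.inv _ (N.inv_mem ha) w hw), sigma_apply_inv]
      have h1 := h.conj_scal hN hT hyS hd hd'
      rw [pow_succ' y, show y * y ^ m * a * (y * y ^ m)⁻¹ =
        y * (y ^ m * a * (y ^ m)⁻¹ * a⁻¹) * y⁻¹ * (y * a * y⁻¹) by group, sigma_mul_apply,
        h1 _ (h.inv _ (hNn.conj_mem a ha y) u hu), hc' u hu, smul_smul, pow_succ]
  obtain ⟨i, hi⟩ := hY ⟨y, hy⟩
  have hi' : y ^ 2 ^ i = 1 := congrArg Subtype.val hi
  obtain ⟨u₀, hu₀, hu0⟩ := (Submodule.ne_bot_iff U).mp h.ne
  have h1 := hm (2 ^ i) u₀ hu₀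
  rw [hi', one_mul, inv_one, mul_one] at h1
  have hc1 : c ^ 2 ^ i = 1 := smul_left_injective k
    (fun e => hu0 (sigma_injective a (e.trans (map_zero _).symm))) (h1.symm.trans (one_smul k _).symm)
  have : c = 1 := by
    rw [← sub_eq_zero]
    refine pow_eq_zero_iff (Nat.two_pow_pos i).ne' |>.mp ?_
    rw [sub_pow_char_pow, one_pow, hc1, sub_self]
  intro u hu
  rw [hc' u hu, this, one_smul]

section isolate

variable [CharP k 2] [Finite L] {q : ℕ} [hqp : Fact q.Prime] {ι : Type*} [Fintype ι]

set_option maxHeartbeats 800000 in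
/-- Translates by commuting involutions acting differently are independent modulo the other classes. -/
theorem isolate (hq2 : q ≠ 2) (hpow : ∀ a ∈ N, ∀ c ∈ N, a ^ q * c = c * a ^ q)
    (hN : (Nat.card N : k) ≠ 0) (h : IsCst σ N U) (hT : Tw σ N U) (Y : Subgroup L)
    (hY : IsPGroup 2 Y) (hYS : Y ≤ stabU σ N U) (g : ι → L) (hg : ∀ i, g i ∈ Y)
    (hcomm : ∀ i j, h.qact hN hT ⟨g i, hYS (hg i)⟩ * h.qact hN hT ⟨g j, hYS (hg j)⟩ =
      h.qact hN hT ⟨g j, hYS (hg j)⟩ * h.qact hN hT ⟨g i, hYS (hg i)⟩)
    (hsq : ∀ i, h.qact hN hT ⟨g i, hYS (hg i)⟩ * h.qact hN hT ⟨g i, hYS (hg i)⟩ = 1) (j₀ : ι)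
    (hne : ∀ j, j ≠ j₀ → h.qact hN hT ⟨g j, hYS (hg j)⟩ ≠ h.qact hN hT ⟨g j₀, hYS (hg j₀)⟩) :
    ¬ ∀ u ∈ U, ∑ i, σ (g i) u ∈ out σ N ⊥ U := by
  classical
  intro hall
  haveI : CharP (Module.End k U) 2 := by
    haveI : Nontrivial U := Submodule.nontrivial_iff_ne_bot.mpr h.ne
    exact charP_end 2 U
  set Q := N ⧸ h.zsub.subgroupOf N
  letI : CommGroup Q := { (inferInstance : Group Q) with mul_comm := h.mul_comm_quot hT }
  set F := formOf h hT hqp.out hq2 hpow
  haveI : Finite Q := inferInstance
  set e : ι → MulAut Q := fun i => h.qact hN hT ⟨g i, hYS (hg i)⟩ with he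
  have heF : ∀ i, e i ∈ F.aut := by
    intro i b c
    obtain ⟨b, rfl⟩ := QuotientGroup.mk'_surjective _ b
    obtain ⟨c, rfl⟩ := QuotientGroup.mk'_surjective _ c
    show pairing h (e i (QuotientGroup.mk b)) (e i (QuotientGroup.mk c)) =
      pairing h (QuotientGroup.mk b) (QuotientGroup.mk c)
    rw [he]
    show pairing h (h.qact hN hT ⟨g i, hYS (hg i)⟩ (QuotientGroup.mk b))
      (h.qact hN hT ⟨g i, hYS (hg i)⟩ (QuotientGroup.mk c)) = _
    rw [h.qact_apply, h.qact_apply, pairing_mk h hT, pairing_mk h hT, MulAut.conjNormal_apply,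
      MulAut.conjNormal_apply, h.cm_conj hN hT (hYS (hg i)) b.2 c.2]
  -- joint eigenvectors
  let Sg : (ι → Bool) → Q → Prop := fun r y => ∀ i, e i y = if r i then y else y⁻¹
  let R := {r : ι → Bool // (∃ y : Q, y ≠ 1 ∧ Sg r y) ∧ ∃ i, r i = false}
  have hsep : ∀ j, j ≠ j₀ → ∃ r : R, r.1 j ≠ r.1 j₀ := by
    intro j hj
    set δ := e j * e j₀ with hδ
    have hδ2 : δ * δ = 1 := by
      rw [hδ, show e j * e j₀ * (e j * e j₀) = e j * (e j₀ * e j) * e j₀ by group, ← hcomm j j₀,
        show e j * (e j * e j₀) * e j₀ = e j * e j * (e j₀ * e j₀) by group, hsq, hsq, one_mul]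
    have key : ∀ s : Finset ι, ∃ y : Q, y ≠ 1 ∧ δ y = y⁻¹ ∧ ∀ i ∈ s, e i y = y ∨ e i y = y⁻¹ := by
      intro s
      induction s using Finset.induction with
      | empty =>
        by_contra hno
        push Not at hno
        refine hne j hj (mul_inv_eq_one.mp ?_)
        rw [show (h.qact hN hT ⟨g j₀, hYS (hg j₀)⟩)⁻¹ = e j₀ from inv_eq_of_mul_eq_one_right (hsq j₀)]
        show δ = 1
        refine F.ext hδ2 (fun y hy => ?_) fun y hy => by rw [hy, MulAut.one_apply]
        by_cases hy1 : y = 1
        · rw [hy1, map_one, map_one]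
        · obtain ⟨i, hi, -⟩ := hno y hy1 hy
          exact absurd hi (Finset.notMem_empty i)
      | @insert a s _ ih =>
        obtain ⟨y, hy1, hyδ, hys⟩ := ih
        let K : Subgroup Q := invs δ ⊓ ⨅ i ∈ s,
          (if e i y = y then invs (1 : MulAut Q) ⊔ (e i).toMonoidHom.eqLocus (MonoidHom.id Q)
            else invs (e i))
        have hid : invs (1 : MulAut Q) = ⊥ := by
          refine (Subgroup.eq_bot_iff_forall _).mpr fun v hv => ?_
          rw [mem_invs, MulAut.one_apply] at hv
          exact F.eq_one_of_sq (mul_eq_one_iff_eq_inv.mpr hv)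
        have hmemK : ∀ v, v ∈ K ↔ δ v = v⁻¹ ∧ ∀ i ∈ s, e i v = if e i y = y then v else v⁻¹ := by
          intro v
          simp only [K, Subgroup.mem_inf, Subgroup.mem_iInf, mem_invs, hid, bot_sup_eq]
          refine and_congr_right fun _ => forall₂_congr fun i _ => ?_
          split_ifs with hi
          · exact Iff.rfl
          · exact mem_invs
        have hKy : y ∈ K := (hmemK y).mpr ⟨hyδ, fun i hi => by
          split_ifs with h'
          · exact h'
          · exact (hys i hi).resolve_left h'⟩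
        have hδc : Commute δ (e a) :=
          (show Commute (e j) (e a) from hcomm j a).mul_left (hcomm j₀ a)
        have hKa : ∀ v ∈ K, e a v ∈ K := by
          intro v hv
          obtain ⟨h1, h2⟩ := (hmemK v).mp hv
          refine (hmemK _).mpr ⟨?_, fun i hi => ?_⟩
          · rw [← MulAut.mul_apply, hδc.eq, MulAut.mul_apply, h1, map_inv]
          · rw [← MulAut.mul_apply, show e i * e a = e a * e i from hcomm i a, MulAut.mul_apply, h2 i hi]
            split_ifs
            · rfl
            · rw [map_inv]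
        obtain ⟨c, hcK, hc, b, hbK, hb, hcb⟩ := F.split (hsq a) K hKa hKy
        obtain ⟨v, hvK, hv1, hva⟩ : ∃ v ∈ K, v ≠ 1 ∧ (e a v = v ∨ e a v = v⁻¹) := by
          by_cases hc1 : c = 1
          · exact ⟨b, hbK, fun e => hy1 (by rw [hcb, hc1, e, one_mul]), Or.inl hb⟩
          · exact ⟨c, hcK, hc1, Or.inr hc⟩
        obtain ⟨h1, h2⟩ := (hmemK v).mp hvK
        refine ⟨v, hv1, h1, fun i hi => ?_⟩
        rcases Finset.mem_insert.mp hi with rfl | hi
        · exact hva
        · rw [h2 i hi]
          split_ifs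
          · exact Or.inl rfl
          · exact Or.inr rfl
    obtain ⟨y, hy1, hyδ, hys⟩ := key Finset.univ
    set r : ι → Bool := fun i => decide (e i y = y) with hr
    have hSg : Sg r y := fun i => by
      by_cases hi : e i y = y
      · simp [hr, hi]
      · simp [hr, hi, (hys i (Finset.mem_univ i)).resolve_left hi]
    have hdiff : r j ≠ r j₀ := by
      intro e'
      have : δ y = y := by
        rw [hδ, MulAut.mul_apply, hSg j₀, ← e']
        split_ifs with h'
        · rw [hSg j, if_pos h']
        · rw [map_inv, hSg j, if_neg h', inv_inv]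
      exact hy1 (F.eq_one_of_sq (mul_eq_one_iff_eq_inv.mpr (this.symm.trans hyδ)))
    refine ⟨⟨r, ⟨y, hy1, hSg⟩, ?_⟩, hdiff⟩
    by_contra hno
    push Not at hno
    exact hdiff ((by simpa using hno j : r j = true).trans (by simpa using hno j₀ : r j₀ = true).symm)
  choose y hy1 hyS using fun r : R => r.2.1
  choose i₀ hi₀ using fun r : R => r.2.2
  choose p hp using fun r : R => QuotientGroup.mk'_surjective (h.zsub.subgroupOf N) (y r)
  let p' : R → N := fun r => ⟨(g (i₀ r))⁻¹ * p r * g (i₀ r), conj_mem' _ (p r).2⟩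
  -- conjugation on the eigenvectors
  have hclass : ∀ (i : ι) (v : N),
      (QuotientGroup.mk (⟨(g i)⁻¹ * v * g i, conj_mem' _ v.2⟩ : N) : Q) = e i (QuotientGroup.mk v) := by
    intro i v
    rw [show e i = (e i)⁻¹ from (inv_eq_of_mul_eq_one_right (hsq i)).symm, he]
    show _ = (h.qact hN hT ⟨g i, hYS (hg i)⟩)⁻¹ (QuotientGroup.mk v)
    rw [← map_inv, h.qact_apply]
    exact congrArg QuotientGroup.mk (Subtype.ext (by
      rw [MulAut.conjNormal_apply, Subgroup.coe_inv, inv_inv]))
  have hp'class : ∀ r, (QuotientGroup.mk (p' r) : Q) = (y r)⁻¹ := fun r => by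
    rw [hclass, show (QuotientGroup.mk (p r) : Q) = y r from hp r, hyS r, hi₀ r]
    rfl
  have hfix : ∀ (w : L), w ∈ Y → ∀ hwS : w ∈ stabU σ N U, ∀ v : N,
      h.qact hN hT ⟨w, hwS⟩ (QuotientGroup.mk v) = QuotientGroup.mk v →
      ∀ u ∈ U, σ (w * v * w⁻¹) u = σ v u := by
    intro w hw hwS v hv
    refine two_fix h hN hT hY hw hwS v.2 ?_
    rw [h.qact_apply, QuotientGroup.eq_iff_div_mem, Subgroup.mem_subgroupOf, Subgroup.coe_div,
      MulAut.conjNormal_apply, div_eq_mul_inv] at hv
    exact hv
  have hact : ∀ (r : R) (i : ι), ∀ u ∈ U,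
      σ ((g i)⁻¹ * p r * g i) u = σ (if r.1 i then (p r : L) else (p' r : L)) u := by
    intro r i u hu
    cases hri : r.1 i
    · -- both invert
      simp only [Bool.false_eq_true, if_false]
      set w := (g i)⁻¹ * g (i₀ r) with hw
      have hwY : w ∈ Y := Y.mul_mem (Y.inv_mem (hg i)) (hg _)
      have hwp : (g i)⁻¹ * p r * g i = w * p' r * w⁻¹ := by
        rw [hw]
        show _ = (g i)⁻¹ * g (i₀ r) * ((g (i₀ r))⁻¹ * p r * g (i₀ r)) * ((g i)⁻¹ * g (i₀ r))⁻¹
        group
      rw [hwp]
      refine hfix w hwY (hYS hwY) (p' r) ?_ u hu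
      have h1 := hclass i (p r)
      rw [show (⟨(g i)⁻¹ * (p r : L) * g i, conj_mem' _ (p r).2⟩ : N) =
        MulAut.conjNormal w (p' r) from Subtype.ext (by rw [MulAut.conjNormal_apply]; exact hwp),
        show (QuotientGroup.mk (p r) : Q) = y r from hp r, hyS r, hri] at h1
      rw [h.qact_apply, h1, hp'class]
      rfl
    · simp only [if_true]
      rw [show (g i)⁻¹ * (p r : L) * g i = (g i)⁻¹ * p r * ((g i)⁻¹)⁻¹ by rw [inv_inv]]
      refine hfix _ (Y.inv_mem (hg i)) (hYS (Y.inv_mem (hg i))) (p r) ?_ u hu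
      have h1 := hclass i (p r)
      rw [show (QuotientGroup.mk (p r) : Q) = y r from hp r, hyS r, hri] at h1
      rw [h.qact_apply, show (QuotientGroup.mk (p r) : Q) = y r from hp r]
      simp only [if_true] at h1
      refine Eq.trans ?_ h1
      exact congrArg QuotientGroup.mk (Subtype.ext (by rw [MulAut.conjNormal_apply, inv_inv]))
  -- the killing operators
  let D : R → Module.End k U := fun r => h.rep (p r) + h.rep (p' r)
  let X : List R → Module.End k U := fun rs => (rs.map D).prod
  have horth : ∀ r r', ∀ a b : N, ((QuotientGroup.mk a : Q) = y r ∨ (QuotientGroup.mk a : Q) = (y r)⁻¹) →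
      ((QuotientGroup.mk b : Q) = y r' ∨ (QuotientGroup.mk b : Q) = (y r')⁻¹) →
      h.rep a * h.rep b = h.rep b * h.rep a := by
    intro r r' a b ha hb
    have hB : F.B (y r) (y r') = 1 := by
      by_cases e' : r = r'
      · rw [e', F.self]
      obtain ⟨i, hi⟩ : ∃ i, r.1 i ≠ r'.1 i := Function.ne_iff.mp fun e'' => e' (Subtype.ext e'')
      cases hri : r.1 i
      · have hri' : r'.1 i = true := by simpa [hri] using hi
        exact F.fix_invs (heF i) (by rw [hyS r i, hri]; rfl) (by rw [hyS r' i, hri']; rfl)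
      · have hri' : r'.1 i = false := by simpa [hri] using hi
        exact F.flip (F.fix_invs (heF i) (by rw [hyS r' i, hri']; rfl) (by rw [hyS r i, hri]; rfl))
    have hB' : F.B (QuotientGroup.mk a) (QuotientGroup.mk b) = 1 := by
      have hi : ∀ c, F.B c (y r') = 1 → F.B c (y r')⁻¹ = 1 := fun c hc =>
        F.flip (by rw [F.inv_left, F.flip hc, inv_one])
      rcases ha with ha | ha <;> rcases hb with hb | hb <;> rw [ha, hb]
      · exact hB
      · exact hi _ hB
      · rw [F.inv_left, hB, inv_one]
      · exact hi _ (by rw [F.inv_left, hB, inv_one])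
    refine LinearMap.ext fun u => Subtype.ext ?_
    show σ a (σ b (u : V)) = σ b (σ a (u : V))
    have hcm : h.cm (a : L) b = 1 := (pairing_mk h hT a b).symm.trans hB'
    rw [h.cm_spec hT a.2 b.2 _ u.2, hcm, one_smul]
  have hcommX : ∀ (r : R) (a : N), ((QuotientGroup.mk a : Q) = y r ∨ (QuotientGroup.mk a : Q) = (y r)⁻¹) →
      ∀ rs, Commute (h.rep a) (X rs) := fun r a ha rs =>
    Commute.list_prod_right _ _ fun w hw => by
      obtain ⟨r', -, rfl⟩ := List.mem_map.mp hw
      exact Commute.add_right (horth r r' a (p r') ha (Or.inl (hp r')))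
        (horth r r' a (p' r') ha (Or.inr (hp'class r')))
  have hstep : ∀ rs : List R, ∀ u : U,
      ∑ i, (if ∀ r ∈ rs, r.1 i = r.1 j₀ then σ (g i) ((X rs u : U) : V) else 0) ∈ out σ N ⊥ U := by
    intro rs
    induction rs with
    | nil =>
      intro u
      simpa [X] using hall _ u.2
    | cons r rs ih =>
      intro u
      set c : N := if r.1 j₀ then p' r else p r with hc
      have hcr : (QuotientGroup.mk c : Q) = y r ∨ (QuotientGroup.mk c : Q) = (y r)⁻¹ := by
        rw [hc]; split_ifs
        · exact Or.inr (hp'class r)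
        · exact Or.inl (hp r)
      have h1 := out_inv_mem (p r).2 _ (ih u)
      have h2 := ih (h.rep c u)
      have h3 := Submodule.add_mem _ h1 h2
      rw [map_sum, ← Finset.sum_add_distrib] at h3
      convert h3 using 1
      refine Finset.sum_congr rfl fun i _ => ?_
      have hXc : ((X rs (h.rep c u) : U) : V) = σ (c : L) ((X rs u : U) : V) := by
        have := LinearMap.congr_fun (hcommX r c hcr rs).eq u
        simp only [Module.End.mul_apply] at this
        rw [← this]
        rfl
      have hXr : ((X (r :: rs) u : U) : V) =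
          σ (p r : L) ((X rs u : U) : V) + σ (p' r : L) ((X rs u : U) : V) := by
        show (((List.map D (r :: rs)).prod u : U) : V) = _
        rw [List.map_cons, List.prod_cons, Module.End.mul_apply]
        rfl
      by_cases hi : ∀ r' ∈ rs, r'.1 i = r'.1 j₀
      · rw [if_pos hi, if_pos hi]
        have hg' : σ (p r : L) (σ (g i) ((X rs u : U) : V)) =
            σ (g i) (σ (if r.1 i then (p r : L) else (p' r : L)) ((X rs u : U) : V)) := by
          rw [← hact r i _ (X rs u).2, ← sigma_mul_apply, ← sigma_mul_apply]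
          congr 2
          group
        rw [hg', hXc, ← map_add]
        by_cases hri : r.1 i = r.1 j₀
        · rw [if_pos (fun r' hr' => (List.mem_cons.mp hr').elim (fun e' => e' ▸ hri) (hi r')), hXr, hc, hri]
          cases r.1 j₀
          · simp only [Bool.false_eq_true, if_false]; rw [add_comm]
          · simp only [if_true]
        · rw [if_neg (fun h' => hri (h' r List.mem_cons_self)), hc]
          have hzero : ∀ w : V, w + w = 0 := fun w => by
            rw [← two_smul k w, show (2 : k) = 0 from CharTwo.two_eq_zero, zero_smul]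
          cases hj : r.1 j₀ <;> cases hi' : r.1 i <;> simp_all
      · rw [if_neg hi, if_neg hi, if_neg (fun h' => hi fun r' hr' => h' r' (List.mem_cons_of_mem _ hr')), map_zero, add_zero]
  -- the operator is not zero
  have hindep : ∀ (s : Finset R) (f : R → Q), (∀ r ∈ s, Sg r.1 (f r)) → ∏ r ∈ s, f r = 1 →
      ∀ r ∈ s, f r = 1 := by
    intro s
    induction s using Finset.strongInduction with
    | H s ih =>
      intro f hf hprod
      by_contra hno
      push Not at hno
      obtain ⟨r, hr, hr1⟩ := hno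
      by_cases hone : s = {r}
      · rw [hone, Finset.prod_singleton] at hprod; exact hr1 hprod
      obtain ⟨r', hr', hrr'⟩ : ∃ r' ∈ s, r' ≠ r := by
        by_contra hall'
        push Not at hall'
        exact hone (Finset.eq_singleton_iff_unique_mem.mpr ⟨hr, hall'⟩)
      obtain ⟨i, hi⟩ : ∃ i, r.1 i ≠ r'.1 i :=
        Function.ne_iff.mp fun e' => hrr' (Subtype.ext e').symm
      have hlt : ∀ b : Bool, s.filter (fun t => t.1 i = b) ⊂ s := fun b => by
        refine Finset.filter_ssubset.mpr ?_
        by_cases hb : r.1 i = b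
        · exact ⟨r', hr', fun e' => hi (hb.trans e'.symm)⟩
        · exact ⟨r, hr, hb⟩
      set st := s.filter fun t => t.1 i = true
      set sf := s.filter fun t => t.1 i = false
      have hsplit : (∏ t ∈ st, f t) * ∏ t ∈ sf, f t = 1 := by
        rw [← hprod, ← Finset.prod_filter_mul_prod_filter_not s (fun t => t.1 i = true)]
        congr 1
        exact Finset.prod_congr (Finset.filter_congr fun t _ => by simp) fun _ _ => rfl
      have hsplit' : (∏ t ∈ st, f t) * (∏ t ∈ sf, f t)⁻¹ = 1 := by
        have := congrArg (e i) hsplit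
        rw [map_one, map_mul, map_prod, map_prod] at this
        rw [← this, ← Finset.prod_inv_distrib]
        congr 1 <;> refine Finset.prod_congr rfl fun t ht => ?_
        · obtain ⟨hts, hti⟩ := Finset.mem_filter.mp ht
          rw [hf t hts i, hti]; rfl
        · obtain ⟨hts, hti⟩ := Finset.mem_filter.mp ht
          rw [hf t hts i, hti]; rfl
      rw [mul_inv_eq_one] at hsplit'
      have hB1 : ∏ t ∈ sf, f t = 1 := F.eq_one_of_sq (by rwa [hsplit'] at hsplit)
      have hA1 : ∏ t ∈ st, f t = 1 := hsplit'.trans hB1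
      cases hb : r.1 i
      · exact hr1 (ih sf (hlt false) f (fun t ht => hf t (Finset.mem_filter.mp ht).1) hB1 r
          (Finset.mem_filter.mpr ⟨hr, hb⟩))
      · exact hr1 (ih st (hlt true) f (fun t ht => hf t (Finset.mem_filter.mp ht).1) hA1 r
          (Finset.mem_filter.mpr ⟨hr, hb⟩))
  have hSgi : ∀ (r : R) (t : Q), Sg r.1 t → Sg r.1 t⁻¹ := fun r t ht i => by
    rw [map_inv, ht i]; split_ifs <;> rfl
  have htr0 : ∀ (rs : List R), rs.Nodup → ∀ v : N,
      (∀ f : R → Q, (∀ r, Sg r.1 (f r)) →
        (QuotientGroup.mk v : Q) * (rs.map y).prod * (rs.map f).prod ≠ 1) →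
      LinearMap.trace k U (h.rep v * X rs) = 0 := by
    intro rs
    induction rs with
    | nil =>
      intro _ v hv
      have hv1 := hv (fun _ => 1) fun r i => by rw [map_one]; split_ifs <;> simp
      simp only [List.map_nil, List.prod_nil, mul_one] at hv1
      rw [show X ([] : List R) = 1 from rfl, mul_one, ← h.chi_rep]
      refine h.chi_eq_zero hT v.2 fun hs => hv1 ?_
      exact (QuotientGroup.eq_one_iff v).mpr (Subgroup.mem_subgroupOf.mpr ⟨v.2, hs⟩)
    | cons r rs ih =>
      intro hnd v hv
      obtain ⟨hr, hnd'⟩ := List.nodup_cons.mp hnd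
      rw [show X (r :: rs) = (h.rep (p r) + h.rep (p' r)) * X rs from List.prod_cons, ← mul_assoc,
        mul_add, ← map_mul, ← map_mul, add_mul, map_add, ih hnd' _ ?_, ih hnd' _ ?_, add_zero]
      all_goals intro f hf
      · have hv' := hv (Function.update f r (y r * y r)⁻¹) fun t => by
          by_cases ht : t = r
          · subst ht
            rw [Function.update_self]
            exact hSgi t _ fun i => by rw [map_mul, hyS t i]; split_ifs <;> simp
          · rw [Function.update_of_ne ht]; exact hf t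
        rw [List.map_cons, List.prod_cons, List.map_cons, List.prod_cons, Function.update_self,
          List.map_congr_left (fun t ht => Function.update_of_ne (ne_of_mem_of_not_mem ht hr) _ f)] at hv'
        rw [QuotientGroup.mk_mul, hp'class]
        intro e'
        refine hv' (Eq.trans ?_ e')
        generalize (rs.map y).prod = A
        generalize (rs.map f).prod = B
        rw [mul_inv_rev]
        apply Additive.ofMul.injective
        simp only [ofMul_mul, ofMul_inv]
        abel
      · have hv' := hv (Function.update f r 1) fun t => by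
          by_cases ht : t = r
          · subst ht; rw [Function.update_self]; intro i; rw [map_one]; split_ifs <;> simp
          · rw [Function.update_of_ne ht]; exact hf t
        rw [List.map_cons, List.prod_cons, List.map_cons, List.prod_cons, Function.update_self, one_mul,
          List.map_congr_left (fun t ht => Function.update_of_ne (ne_of_mem_of_not_mem ht hr) _ f)] at hv'
        rw [QuotientGroup.mk_mul, show (QuotientGroup.mk (p r) : Q) = y r from hp r]
        intro e'
        exact hv' (by rw [← mul_assoc (QuotientGroup.mk v : Q), e'])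
  have htr1 : ∀ (rs : List R), rs.Nodup → ∀ v : N,
      (QuotientGroup.mk v : Q) * (rs.map y).prod = 1 → LinearMap.trace k U (h.rep v * X rs) ≠ 0 := by
    intro rs
    induction rs with
    | nil =>
      intro _ v hv
      simp only [List.map_nil, List.prod_nil, mul_one] at hv
      rw [show X ([] : List R) = 1 from rfl, mul_one, ← h.chi_rep]
      exact (h.scal_iff hN hT v.2).mp (Subgroup.mem_subgroupOf.mp ((QuotientGroup.eq_one_iff v).mp hv)).2
    | cons r rs ih =>
      intro hnd v hv
      obtain ⟨hr, hnd'⟩ := List.nodup_cons.mp hnd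
      rw [List.map_cons, List.prod_cons, ← mul_assoc] at hv
      rw [show X (r :: rs) = (h.rep (p r) + h.rep (p' r)) * X rs from List.prod_cons, ← mul_assoc,
        mul_add, ← map_mul, ← map_mul, add_mul, map_add,
        htr0 rs hnd' (v * p' r) ?_, add_zero]
      · refine ih hnd' _ ?_
        rw [QuotientGroup.mk_mul, show (QuotientGroup.mk (p r) : Q) = y r from hp r]
        exact hv
      · intro f hf e'
        rw [QuotientGroup.mk_mul, hp'class] at e'
        -- the squares would be dependent
        set f' := Function.update f r (y r * y r)⁻¹ with hf'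
        have hmap : rs.map f' = rs.map f := List.map_congr_left
          fun t ht => Function.update_of_ne (ne_of_mem_of_not_mem ht hr) _ f
        have hprod : ∏ t ∈ (r :: rs).toFinset, f' t = 1 := by
          rw [List.prod_toFinset f' hnd, List.map_cons, List.prod_cons, hmap, hf', Function.update_self]
          refine Eq.trans ?_ e'
          calc (y r * y r)⁻¹ * (rs.map f).prod
              = (y r * y r)⁻¹ * ((QuotientGroup.mk v : Q) * y r * (rs.map y).prod) * (rs.map f).prod := by
                rw [hv, mul_one]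
            _ = _ := by
                generalize (rs.map y).prod = A
                generalize (rs.map f).prod = B
                apply Additive.ofMul.injective
                simp only [ofMul_mul, ofMul_inv]
                abel
        have h1 := hindep _ f' (fun t _ => ?_) hprod r (by simp)
        · rw [hf', Function.update_self, inv_eq_one] at h1
          exact hy1 r (F.eq_one_of_sq h1)
        · rw [hf']
          by_cases ht : t = r
          · subst ht; rw [Function.update_self]
            exact hSgi t _ fun i => by rw [map_mul, hyS t i]; split_ifs <;> simp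
          · rw [Function.update_of_ne ht]; exact hf t
  haveI : Fintype R := Fintype.ofFinite R
  set all := (Finset.univ : Finset R).toList
  have hX0 : ∀ u : U, X all u = 0 := by
    intro u
    refine Subtype.ext (translate_out (K := ⊥) hN h (hYS (hg j₀)) (X all u).2 ?_)
    have h1 := hstep all u
    rw [Finset.sum_eq_single_of_mem j₀ (Finset.mem_univ _), if_pos fun r _ => rfl] at h1
    swap
    · intro j _ hj
      refine if_neg fun h' => ?_
      obtain ⟨r, hr⟩ := hsep j hj
      exact hr (h' r (by simp [all]))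
    exact h1
  obtain ⟨v, hv⟩ := QuotientGroup.mk'_surjective (h.zsub.subgroupOf N) ((all.map y).prod)⁻¹
  refine htr1 all (Finset.nodup_toList _) v ?_ ?_
  · rw [show (QuotientGroup.mk v : Q) = _ from hv, inv_mul_cancel]
  · rw [show X all = 0 from LinearMap.ext hX0, mul_zero, map_zero]

end isolate

end CfsgLib.Gross
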