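import Cfsg.Agent.Lib.HallHigman.PLength

/-!
The linear groups attached to the layers of the upper `2`-series when the `2`-elements are killed by
`2 ^ f` modulo a layer.
-/

set_option autoImplicit false
set_option linter.style.haveILetI false
set_option linter.unusedSectionVars false

open Module CfsgLib.HallHigman

namespace CfsgLib.Gross

/-- Matrices over a bigger field. -/
noncomputable def toBar {F : Type*} [Field F] {A : Type*} [AddCommGroup A] [Module F A]
    [FiniteDimensional F A] (K : Type*) [Field K] [Algebra F K] :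
    Module.End F A →+* Module.End K (Fin (finrank F A) → K) :=
  ((Matrix.toLinAlgEquiv' (R := K) (n := Fin (finrank F A))).toRingEquiv.toRingHom.comp
    (RingHom.mapMatrix (algebraMap F K))).comp
      (LinearMap.toMatrixAlgEquiv (Module.finBasis F A)).toRingEquiv.toRingHom

variable {F : Type*} [Field F] {A : Type*} [AddCommGroup A] [Module F A] [FiniteDimensional F A]
variable (K : Type*) [Field K] [Algebra F K]

theorem toBar_apply (φ : Module.End F A) :
    toBar K φ = Matrix.toLin'
      ((LinearMap.toMatrix (Module.finBasis F A) (Module.finBasis F A) φ).map (algebraMap F K)) := rfl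

theorem toBar_injective : Function.Injective (toBar (F := F) (A := A) K) := by
  intro a b e
  rw [toBar_apply, toBar_apply] at e
  exact (LinearMap.toMatrix _ _).injective
    (Matrix.map_injective (algebraMap F K).injective (Matrix.toLin'.injective e))

theorem finrank_range_toBar (φ : Module.End F A) :
    finrank K (LinearMap.range (toBar K φ)) ≤ finrank F (LinearMap.range φ) := by
  classical
  set b := Module.finBasis F A
  set c := Module.finBasis F (LinearMap.range φ)
  have hφ : φ = (LinearMap.range φ).subtype ∘ₗ φ.rangeRestrict := rfl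
  have hM : LinearMap.toMatrix b b φ =
      LinearMap.toMatrix c b (LinearMap.range φ).subtype * LinearMap.toMatrix b c φ.rangeRestrict := by
    conv_lhs => rw [hφ]
    exact LinearMap.toMatrix_comp b c b _ _
  rw [toBar_apply, hM, Matrix.map_mul, Matrix.toLin'_mul, LinearMap.range_comp]
  refine (Submodule.finrank_map_le _ _).trans ((Submodule.finrank_le _).trans ?_)
  rw [Module.finrank_fin_fun]

theorem sub_one_pow_comp {H : Type*} [Monoid H] {R S : Type*} [Ring R] [Ring S] (Ψ : R →+* S)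
    (ρ : H →* R) (x : H) (n : ℕ) (h : (ρ x - 1) ^ n = 0) : (Ψ.toMonoidHom.comp ρ x - 1) ^ n = 0 := by
  show (Ψ (ρ x) - 1) ^ n = 0
  rw [← map_one Ψ, ← map_sub, ← map_pow, h, map_zero]

variable {G : Type*} [Group G] [Finite G]

set_option maxHeartbeats 400000 in
/-- The faithful representation on a layer, in characteristic two. -/
theorem exists_rep (hsol : Cfsg.IsPSolvable 2 G) (j f : ℕ)
    (hP : ∀ z : G, (∃ i, z ^ 2 ^ i = 1) → z ^ 2 ^ f ∈ (Cfsg.upperPSeries 2 G (2 * j)).1) :
    Cfsg.pCore 2 (G ⧸ (Cfsg.upperPSeries 2 G (2 * (j + 1))).1) = ⊥ ∧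
    (∀ x : G ⧸ (Cfsg.upperPSeries 2 G (2 * (j + 1))).1, (∃ i, x ^ 2 ^ i = 1) → x ^ 2 ^ f = 1) ∧
    ∃ (d : ℕ) (σ : G ⧸ (Cfsg.upperPSeries 2 G (2 * (j + 1))).1 →*
        Module.End (AlgebraicClosure (ZMod 2)) (Fin d → AlgebraicClosure (ZMod 2))),
      Function.Injective σ ∧ ∀ x, x ^ 2 ^ f = 1 → (∃ i, x ^ 2 ^ i = 1) →
        (σ x - 1) ^ (2 ^ f - 1) = 0 := by
  classical
  haveI : Fact (Nat.Prime 2) := ⟨Nat.prime_two⟩
  set U₁ := (Cfsg.upperPSeries 2 G (2 * j + 1)).1 with hU₁
  set W := (Cfsg.upperPSeries 2 G (2 * (j + 1))).1 with hW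
  set π₁ := QuotientGroup.mk' U₁ with hπ₁
  have hπ₁s : Function.Surjective π₁ := QuotientGroup.mk'_surjective U₁
  haveI := Fitting.pCore_normal (G := G ⧸ U₁) 2
  set O := Cfsg.pCore 2 (G ⧸ U₁) with hO
  set π₂ := QuotientGroup.mk' O with hπ₂
  obtain ⟨φ, hφ, φmk, hcomm, hexp⟩ :=
    exists_action (p := 2) (PSolvable.isPSolvable_of_surjective π₁ hπ₁s hsol) (pPrimeCore_quotient_odd j)
  letI : CommGroup (O ⧸ frattini O) :=
    { (inferInstance : Group (O ⧸ frattini O)) with mul_comm := hcomm }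
  letI : Module (ZMod 2) (Additive (O ⧸ frattini O)) :=
    AddCommGroup.zmodModule (n := 2) (G := Additive (O ⧸ frattini O)) fun v =>
      Additive.toMul.injective (hexp (Additive.toMul v))
  haveI : Finite (Additive (O ⧸ frattini O)) := inferInstanceAs (Finite (O ⧸ frattini O))
  haveI : FiniteDimensional (ZMod 2) (Additive (O ⧸ frattini O)) := Module.Finite.of_finite
  set k := AlgebraicClosure (ZMod 2)
  have hW' : W = (π₂.comp π₁).ker := by
    rw [hW, upperPSeries_odd_succ, ← MonoidHom.comap_ker, hπ₂, QuotientGroup.ker_mk']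
  let e : G ⧸ W →* (G ⧸ U₁) ⧸ O := QuotientGroup.lift W (π₂.comp π₁) hW'.le
  have he : Function.Injective e := by
    rw [injective_iff_map_eq_one]
    intro x hx
    obtain ⟨g, rfl⟩ := QuotientGroup.mk'_surjective W x
    refine (QuotientGroup.eq_one_iff g).mpr ?_
    rw [hW']
    exact hx
  have hes : Function.Surjective e := fun y => by
    obtain ⟨y₁, rfl⟩ := QuotientGroup.mk'_surjective O y
    obtain ⟨g, rfl⟩ := hπ₁s y₁
    exact ⟨QuotientGroup.mk' W g, rfl⟩
  have hOp : Cfsg.pCore 2 ((G ⧸ U₁) ⧸ O) = ⊥ := le_bot_iff.mp ZJ.pCore_quotient_pCore_le_bot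
  have hall : ∀ w : G ⧸ U₁, (∃ i, w ^ 2 ^ i = 1) → w ^ 2 ^ f = 1 := by
    intro w hw
    obtain ⟨z, rfl, hz⟩ := exists_pElement_lift hπ₁s w hw
    rw [← map_pow]
    exact (QuotientGroup.eq_one_iff _).mpr (upperPSeries_le_succ' _ (hP z hz))
  refine ⟨?_, ?_, ?_⟩
  · refine le_bot_iff.mp fun x hx => he ?_
    rw [map_one, ← Subgroup.mem_bot, ← hOp]
    exact Fitting.le_pCore ((Fitting.pCore_normal 2).map e hes)
      ((Fitting.pCore_isPGroup 2).map e) (Subgroup.mem_map_of_mem e hx)
  · intro x hx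
    obtain ⟨z, rfl, hz⟩ := exists_pElement_lift (QuotientGroup.mk'_surjective W) x hx
    rw [← map_pow]
    refine (QuotientGroup.eq_one_iff _).mpr ?_
    exact upperPSeries_le_succ' _ (upperPSeries_le_succ' _ (hP z hz))
  refine ⟨_, (toBar k).toMonoidHom.comp ((endOfAut (p := 2) φ).comp e), ?_, ?_⟩
  · intro a b hab
    have hab' : endOfAut (p := 2) φ (e a) = endOfAut (p := 2) φ (e b) := toBar_injective k hab
    exact he (hφ (MulEquiv.ext fun v =>
      Additive.ofMul.injective (LinearMap.congr_fun hab' (Additive.ofMul v))))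
  intro x hxf hx
  refine sub_one_pow_comp _ _ x _ ?_
  rw [MonoidHom.comp_apply]
  by_cases hnt : Nontrivial (Additive (O ⧸ frattini O))
  swap
  · rw [not_nontrivial_iff_subsingleton] at hnt
    exact LinearMap.ext fun v => Subsingleton.elim _ _
  haveI : CharP (Module.End (ZMod 2) (Additive (O ⧸ frattini O))) 2 := charP_end 2 _
  rw [sub_one_pow_eq_geom]
  refine LinearMap.ext fun w => ?_
  obtain ⟨v, hv⟩ := QuotientGroup.mk'_surjective (frattini O) (Additive.toMul w)
  -- a lift of `x` which is a `2`-element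
  obtain ⟨y, hy, hy2⟩ := exists_pElement_lift (QuotientGroup.mk'_surjective O) (e x) (by
    obtain ⟨i, hi⟩ := hx
    exact ⟨i, by rw [← map_pow, hi, map_one]⟩)
  let wN : ℕ → O := fun N => Nat.rec (motive := fun _ => O) 1 (fun _ u => v * MulAut.conjNormal y u) N
  have hw : ∀ N, (wN N : G ⧸ U₁) = ((v : G ⧸ U₁) * y) ^ N * (y ^ N)⁻¹ := by
    intro N
    induction N with
    | zero => simp [wN]
    | succ N ih =>
      show ((v * MulAut.conjNormal y (wN N) : O) : G ⧸ U₁) = _
      rw [Subgroup.coe_mul, MulAut.conjNormal_apply, ih, pow_succ', pow_succ' y]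
      group
  have h1 := sum_pow_apply (p := 2) φ (e x) (QuotientGroup.mk v) (fun N => QuotientGroup.mk (wN N)) rfl
    (fun i => by
      show QuotientGroup.mk (wN (i + 1)) = _
      rw [← hy, QuotientGroup.mk'_apply, φmk, ← QuotientGroup.mk_mul]) (2 ^ f)
  have hvy : ∃ i, ((v : G ⧸ U₁) * y) ^ 2 ^ i = 1 := by
    obtain ⟨i, hi⟩ := hy2
    let P := O ⊔ Subgroup.zpowers y
    have hPp : IsPGroup 2 P := by
      refine IsPGroup.to_sup_of_normal_left (Fitting.pCore_isPGroup 2) ?_
      rintro ⟨u, hu⟩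
      obtain ⟨m, rfl⟩ := Subgroup.mem_zpowers_iff.mp hu
      refine ⟨i, Subtype.ext ?_⟩
      show (y ^ m) ^ 2 ^ i = 1
      rw [← zpow_natCast, ← zpow_mul, mul_comm m, zpow_mul, zpow_natCast, hi, one_zpow]
    obtain ⟨l, hl⟩ := hPp ⟨_, mul_mem (Subgroup.mem_sup_left v.2)
      (Subgroup.mem_sup_right (Subgroup.mem_zpowers y))⟩
    exact ⟨l, congrArg Subtype.val hl⟩
  have hzero : wN (2 ^ f) = 1 := Subtype.ext (by
    rw [hw, hall _ hvy, hall _ hy2, inv_one, mul_one]; rfl)
  rw [hzero, QuotientGroup.mk_one] at h1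
  rw [LinearMap.zero_apply, show w = Additive.ofMul (QuotientGroup.mk v) from hv.symm]
  exact h1.symm

end CfsgLib.Gross
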