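import Cfsg.Agent.Lib.Gross.Core
import Cfsg.Agent.Lib.Gross.Layer
import Cfsg.Agent.Lib.Gross.Plane

/-!
Gross's bound on the `2`-length of a soluble group: the exponent drops every second layer.
-/

set_option autoImplicit false
set_option linter.style.haveILetI false
set_option linter.unusedSectionVars false

open Module CfsgLib.HallHigman
open scoped commutatorElement

namespace CfsgLib.Gross

theorem toBar_sub_one {F : Type*} [Field F] {A : Type*} [AddCommGroup A] [Module F A]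
    [FiniteDimensional F A] {K : Type*} [Field K] [Algebra F K] (φ : Module.End F A) :
    toBar K (φ - 1) = toBar K φ - 1 := by rw [map_sub, map_one]

/-- An element of prime power order centralising every core lies in the core of its prime. -/
theorem mem_pCore_of_centralizes {H : Type*} [Group H] [Finite H] [Group.IsSolvable H] {p : ℕ}
    [Fact p.Prime] {c : H} (hc : ∃ i, c ^ p ^ i = 1)
    (h : ∀ ℓ, ℓ.Prime → ∀ v ∈ Cfsg.pCore ℓ H, c * v = v * c) : c ∈ Cfsg.pCore p H := by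
  haveI := Fitting.fittingSubgroup_normal (G := H)
  have hall : ∀ ℓ, ℓ.Prime → Cfsg.pCore ℓ H ≤ Subgroup.centralizer ({c} : Set H) :=
    fun ℓ hℓ v hv => Subgroup.mem_centralizer_singleton_iff.mpr (h ℓ hℓ v hv).symm
  have hcF : c ∈ Cfsg.fittingSubgroup H := PSolvable.centralizer_fittingSubgroup_le fun v hv =>
    Subgroup.mem_centralizer_singleton_iff.mp (Signalizer.fittingSubgroup_le_of_pCore_le hall hv)
  obtain ⟨i, hi⟩ := hc
  refine FpfPQ.le_pCore_of_nilpotent (X := Subgroup.zpowers c) Fitting.fittingSubgroup_isNilpotent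
    (Subgroup.zpowers_le.mpr hcF) ?_ (Subgroup.mem_zpowers c)
  rintro ⟨y, hy⟩
  obtain ⟨m, rfl⟩ := Subgroup.mem_zpowers_iff.mp hy
  refine ⟨i, Subtype.ext ?_⟩
  show (c ^ m) ^ p ^ i = 1
  rw [← zpow_natCast, ← zpow_mul, mul_comm m, zpow_mul, zpow_natCast, hi, one_zpow]

/-- The elements moving a subgroup only inside its centre. -/
def centMod {L : Type*} [Group L] (N : Subgroup L) [hNn : N.Normal] : Subgroup L where
  carrier := {g | ∀ v ∈ N, ∀ a ∈ N, g * v * g⁻¹ * v⁻¹ * a = a * (g * v * g⁻¹ * v⁻¹)}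
  one_mem' := fun v _ a _ => by simp
  mul_mem' := fun {g h} hg hh v hv a ha => by
    have h1 := hh v hv (g⁻¹ * a * g) (by simpa using hNn.conj_mem a ha g⁻¹)
    have h2 := hg v hv a ha
    calc g * h * v * (g * h)⁻¹ * v⁻¹ * a
        = g * (h * v * h⁻¹ * v⁻¹) * g⁻¹ * (g * v * g⁻¹ * v⁻¹ * a) := by group
      _ = g * (h * v * h⁻¹ * v⁻¹) * g⁻¹ * (a * (g * v * g⁻¹ * v⁻¹)) := by rw [h2]
      _ = g * (h * v * h⁻¹ * v⁻¹ * (g⁻¹ * a * g)) * v * g⁻¹ * v⁻¹ := by group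
      _ = g * (g⁻¹ * a * g * (h * v * h⁻¹ * v⁻¹)) * v * g⁻¹ * v⁻¹ := by rw [h1]
      _ = a * (g * h * v * (g * h)⁻¹ * v⁻¹) := by group
  inv_mem' := fun {g} hg v hv a ha => by
    have hgv : g⁻¹ * v * g ∈ N := by simpa using hNn.conj_mem v hv g⁻¹
    have hga : Commute (g * (g⁻¹ * v * g) * g⁻¹ * (g⁻¹ * v * g)⁻¹) a := hg (g⁻¹ * v * g) hgv a ha
    have e : g⁻¹ * v * g⁻¹⁻¹ * v⁻¹ = (g * (g⁻¹ * v * g) * g⁻¹ * (g⁻¹ * v * g)⁻¹)⁻¹ := by group
    rw [e]
    exact hga.inv_left.eq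

instance centMod_normal {L : Type*} [Group L] (N : Subgroup L) [hNn : N.Normal] :
    (centMod N).Normal := by
  refine ⟨fun g hg x v hv a ha => ?_⟩
  have h1 := hg (x⁻¹ * v * x) (by simpa using hNn.conj_mem v hv x⁻¹) (x⁻¹ * a * x)
    (by simpa using hNn.conj_mem a ha x⁻¹)
  set d := g * (x⁻¹ * v * x) * g⁻¹ * (x⁻¹ * v * x)⁻¹ with hd
  have e : x * g * x⁻¹ * v * (x * g * x⁻¹)⁻¹ * v⁻¹ = x * d * x⁻¹ := by rw [hd]; group
  rw [e]
  calc x * d * x⁻¹ * a = x * (d * (x⁻¹ * a * x)) * x⁻¹ := by group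
    _ = x * (x⁻¹ * a * x * d) * x⁻¹ := by rw [h1]
    _ = a * (x * d * x⁻¹) := by group

section image

variable {k : Type*} [Field k] [IsAlgClosed k] [CharP k 2] {V : Type*} [AddCommGroup V] [Module k V]
  [FiniteDimensional k V]
variable {L : Type*} [Group L] [Finite L] {σ : L →* Module.End k V}

variable (σ) in
/-- The kernel of the action on all quotients by scalars. -/
noncomputable def kf (N : Subgroup L) [N.Normal] : Subgroup L := fixAll σ N ⊓ centMod N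

instance kf_normal (N : Subgroup L) [N.Normal] : (kf σ N).Normal := by
  rw [kf]; exact Subgroup.normal_inf_normal _ _

variable {N : Subgroup L} [hNn : N.Normal]

theorem qker_of_mem_kf (hN : (Nat.card N : k) ≠ 0) {U : Submodule k V} (h : IsCst σ N U)
    (hT : Tw σ N U) {g : L} (hg : g ∈ kf σ N) : g ∈ h.qker hN hT := by
  obtain ⟨h1, h2⟩ := Subgroup.mem_inf.mp hg
  rw [h.mem_qker hN hT]
  refine ⟨mem_fixAll.mp h1 U h, fun v hv => ?_⟩
  have hd : g * v * g⁻¹ * v⁻¹ ∈ N := N.mul_mem (hNn.conj_mem v hv g) (N.inv_mem hv)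
  exact ⟨hd, h.scal_of_cm hT hd fun a ha => h.cm_eq hT hd ha fun w _ => by
    rw [one_smul, ← sigma_mul_apply, h2 v hv a ha, sigma_mul_apply]⟩

theorem mem_kf_of_qker (hinj : Function.Injective σ) (hN : (Nat.card N : k) ≠ 0)
    (hT : ∀ U, IsCst σ N U → Tw σ N U) {g : L} (hg : ∀ U, ∀ h : IsCst σ N U, g ∈ h.qker hN (hT U h)) :
    g ∈ kf σ N := by
  refine Subgroup.mem_inf.mpr ⟨mem_fixAll.mpr fun U h => ((h.mem_qker hN (hT U h)).mp (hg U h)).1,
    fun v hv a ha => ?_⟩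
  set d := g * v * g⁻¹ * v⁻¹ with hd
  have hdN : d ∈ N := N.mul_mem (hNn.conj_mem v hv g) (N.inv_mem hv)
  have h1 : σ (d * a * d⁻¹ * a⁻¹) = 1 := eq_one_of_trivial hN
    (N.mul_mem (N.mul_mem (N.mul_mem hdN ha) (N.inv_mem hdN)) (N.inv_mem ha)) fun U h w hw => by
      obtain ⟨-, c, hc⟩ := ((h.mem_qker hN (hT U h)).mp (hg U h)).2 v hv
      rw [sigma_mul_apply, sigma_mul_apply, sigma_mul_apply,
        hc _ (h.inv a ha _ (h.inv _ (N.inv_mem hdN) _ (h.inv _ (N.inv_mem ha) w hw))),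
        Scal.inv_apply h.ne hc _ (h.inv _ (N.inv_mem ha) w hw), map_smul, smul_smul,
        mul_inv_cancel₀ (Scal.ne_zero h.ne hc), one_smul, sigma_apply_inv]
  have h2 : d * a * d⁻¹ * a⁻¹ = 1 := hinj (by rw [h1, map_one])
  rwa [mul_inv_eq_one, mul_inv_eq_iff_eq_mul] at h2

variable {q r : ℕ} [hqp : Fact q.Prime] [hrp : Fact r.Prime] {x : L} {f : ℕ}

/-- On one quotient by scalars the derived subgroup acts inside the core. -/
theorem core_image_cst [Group.IsSolvable L] (hq2 : q ≠ 2) (hNq : IsPGroup q N)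
    (hcent : ∀ a ∈ N, ∀ b ∈ N, ∀ c ∈ N, a * b * a⁻¹ * b⁻¹ * c = c * (a * b * a⁻¹ * b⁻¹))
    (hpow : ∀ a ∈ N, ∀ c ∈ N, a ^ q * c = c * a ^ q)
    (hN : (Nat.card N : k) ≠ 0) (hf : 1 ≤ f) (hx : x ^ 2 ^ f = 1)
    (hdeg : (σ x - 1) ^ (2 ^ f - 1) = 0) (hr2 : r ≠ 2) {g : ℕ} (hrg : r + 1 = 2 ^ g)
    (Y : Subgroup L) (hY : IsPGroup r Y) (hxY : ∀ y ∈ Y, x * y * x⁻¹ ∈ Y)
    (hYz : Y ≤ ⁅Y, Subgroup.zpowers (x ^ 2 ^ (f - 1))⁆) {U : Submodule k V} (h : IsCst σ N U)
    (hT : Tw σ N U) :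
    ∀ c ∈ ⁅Y, Y⁆, ∃ hc : c ∈ stabU σ N U,
      (h.qact hN hT).rangeRestrict ⟨c, hc⟩ ∈ Cfsg.pCore q (h.qact hN hT).range := by
  classical
  set z := x ^ 2 ^ (f - 1) with hz
  set S := stabU σ N U with hS
  have hzS : z ∈ S := mem_fixAll.mp (involution_mem_fixAll hN hf hx hdeg) U h
  have hYS : Y ≤ S := (hYz.trans (commutator_le_of_conj
    (Subgroup.zpowers_le.mpr (involution_mem_fixAll hN hf hx hdeg))
    fun y _ s hs => fixAll_normal.conj_mem s hs y)).trans fun y hy => mem_fixAll.mp hy U h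
  intro c hc
  have hcS : c ∈ S := hYS (Subgroup.commutator_le_self Y hc)
  refine ⟨hcS, ?_⟩
  by_cases hmove : z ∈ h.qker hN hT
  · have hYk : Y ≤ h.qker hN hT := hYz.trans (commutator_le_of_conj (Subgroup.zpowers_le.mpr hmove)
      fun y hy s hs => h.conj_qker hN hT (hYS hy) hs)
    obtain ⟨c', hc', he⟩ := hYk (Subgroup.commutator_le_self Y hc)
    have : (h.qact hN hT).rangeRestrict ⟨c, hcS⟩ = 1 := Subtype.ext (by
      rw [show (⟨c, hcS⟩ : S) = c' from Subtype.ext he.symm]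
      exact hc')
    rw [this]
    exact one_mem _
  have hmove' : ¬ ∀ v ∈ N, z * v * z⁻¹ * v⁻¹ ∈ h.zsub :=
    fun h' => hmove ((h.mem_qker hN hT).mpr ⟨hzS, h'⟩)
  obtain ⟨a, haf, huS, hq, R, -, hgR, hcard, -⟩ := plane hq2 hNq hcent hf hx hdeg h hmove'
  set u : S := ⟨x ^ 2 ^ a, huS⟩ with hu
  set Q := N ⧸ h.zsub.subgroupOf N with hQ
  letI : CommGroup Q := { (inferInstance : Group Q) with mul_comm := h.mul_comm_quot hT }
  letI : Module (ZMod q) (Additive Q) :=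
    AddCommGroup.zmodModule (n := q) (G := Additive Q) fun v =>
      Additive.toMul.injective (h.quot_exp hT hpow (Additive.toMul v))
  haveI : Finite (Additive Q) := inferInstanceAs (Finite Q)
  haveI : FiniteDimensional (ZMod q) (Additive Q) := Module.Finite.of_finite
  set Lq := (h.qact hN hT).range
  let π : S →* Lq := (h.qact hN hT).rangeRestrict
  haveI : Group.IsSolvable S := inferInstance
  haveI : Group.IsSolvable Lq :=
    Group.isSolvable_of_surjective (f := π) (h.qact hN hT).rangeRestrict_surjective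
  let ρ : Lq →* Module.End (ZMod q) (Additive Q) := endOfAut Lq.subtype
  set kb := AlgebraicClosure (ZMod q)
  haveI : CharP kb q := charP_of_injective_algebraMap (algebraMap (ZMod q) kb).injective q
  have hρ : Function.Injective ρ := fun a b e => Subtype.ext (MulEquiv.ext fun v =>
    Additive.ofMul.injective (LinearMap.congr_fun e (Additive.ofMul v)))
  let τ : Lq →* Module.End kb (Fin (finrank (ZMod q) (Additive Q)) → kb) :=
    (toBar kb).toMonoidHom.comp ρ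
  have hτ : Function.Injective τ := (toBar_injective kb).comp hρ
  -- `u` moves a plane only
  have hrank : finrank (ZMod q) (LinearMap.range (ρ (π u) - 1)) ≤ 2 := by
    have hle : Nat.card (LinearMap.range (ρ (π u) - 1)) ≤ q ^ 2 := by
      rw [← hcard]
      have hmem : ∀ w : LinearMap.range (ρ (π u) - 1), Additive.toMul (w : Additive Q) ∈
          (R.subgroupOf N).map (QuotientGroup.mk' (h.zsub.subgroupOf N)) := by
        rintro ⟨_, w, rfl⟩
        obtain ⟨⟨v, hv⟩, hvw⟩ :=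
          QuotientGroup.mk'_surjective (h.zsub.subgroupOf N) (Additive.toMul w)
        have hw' : w = Additive.ofMul (QuotientGroup.mk' _ (⟨v, hv⟩ : N)) :=
          Additive.toMul.injective hvw.symm
        subst hw'
        refine ⟨⟨x ^ 2 ^ a * v * (x ^ 2 ^ a)⁻¹ * v⁻¹,
          N.mul_mem (hNn.conj_mem v hv _) (N.inv_mem hv)⟩, Subgroup.mem_subgroupOf.mpr (hgR v hv), ?_⟩
        show _ = Additive.toMul ((ρ (π u) - 1) _)
        rw [LinearMap.sub_apply, Module.End.one_apply, toMul_sub]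
        show _ = h.qact hN hT u (QuotientGroup.mk' _ (⟨v, hv⟩ : N)) / _
        rw [QuotientGroup.mk'_apply, QuotientGroup.mk'_apply, h.qact_mk hN hT u v hv (hNn.conj_mem v hv _),
          toMul_ofMul, div_eq_mul_inv, ← QuotientGroup.mk_inv, ← QuotientGroup.mk_mul]
        rfl
      exact Nat.card_le_card_of_injective (fun w => (⟨_, hmem w⟩ :
        (R.subgroupOf N).map (QuotientGroup.mk' (h.zsub.subgroupOf N))))
        fun w w' e => Subtype.ext (Additive.toMul.injective (Subtype.mk.inj e))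
    rw [Module.natCard_eq_pow_finrank (K := ZMod q), Nat.card_zmod] at hle
    exact (Nat.pow_le_pow_iff_right hqp.out.one_lt).mp hle
  have hrk : finrank kb (LinearMap.range (τ (π u) - 1)) ≤ 2 := by
    show finrank kb (LinearMap.range (toBar kb (ρ (π u)) - 1)) ≤ 2
    exact (congrArg (fun φ => finrank kb (LinearMap.range φ)) (toBar_sub_one (ρ (π u)))).symm.trans_le
      ((finrank_range_toBar kb _).trans hrank)
  -- transfer the hypotheses
  set YS := Y.subgroupOf S with hYSdef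
  have hzu : u ^ 2 ^ (f - a - 1) = ⟨z, hzS⟩ := Subtype.ext (by
    rw [SubmonoidClass.coe_pow, hu]
    show (x ^ 2 ^ a) ^ 2 ^ (f - a - 1) = z
    rw [hz, ← pow_mul, ← pow_add, show a + (f - a - 1) = f - 1 by omega])
  have hu1 : π u ^ 2 ^ (f - a) = 1 := by
    rw [← map_pow, show u ^ 2 ^ (f - a) = 1 from Subtype.ext (by
      rw [SubmonoidClass.coe_pow, hu]
      show (x ^ 2 ^ a) ^ 2 ^ (f - a) = 1
      rw [← pow_mul, ← pow_add, show a + (f - a) = f by omega, hx]), map_one]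
  have hconj : ∀ y ∈ YS.map π, π u * y * (π u)⁻¹ ∈ YS.map π := by
    have hxpow : ∀ i : ℕ, ∀ y ∈ Y, x ^ i * y * (x ^ i)⁻¹ ∈ Y := by
      intro i
      induction i with
      | zero => intro y hy; simpa using hy
      | succ i ih =>
        intro y hy
        rw [pow_succ' x, show x * x ^ i * y * (x * x ^ i)⁻¹ = x * (x ^ i * y * (x ^ i)⁻¹) * x⁻¹ by group]
        exact hxY _ (ih y hy)
    rintro _ ⟨y, hy, rfl⟩
    exact ⟨u * y * u⁻¹, hxpow _ y hy, by rw [map_mul, map_mul, map_inv]⟩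
  have hcomm : YS ≤ ⁅YS, Subgroup.zpowers (⟨z, hzS⟩ : S)⁆ := by
    rw [← Subgroup.map_le_map_iff_of_injective S.subtype_injective, Subgroup.map_commutator,
      MonoidHom.map_zpowers, hYSdef, Subgroup.map_subgroupOf_eq_of_le hYS]
    exact hYz
  have hcomm' : YS.map π ≤ ⁅YS.map π, Subgroup.zpowers (π u ^ 2 ^ (f - a - 1))⁆ := by
    refine (Subgroup.map_mono hcomm).trans ?_
    rw [Subgroup.map_commutator, MonoidHom.map_zpowers, ← map_pow, hzu]
  have key := core (k := kb) (q := q) (r := r) (f := f - a) (g := g) (by omega) hq hr2 hrg _ rfl τ hτ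
    (π u) hu1 hrk (YS.map π) ((hY.comap_of_injective _ S.subtype_injective).map π) hconj hcomm'
  refine key ?_
  rw [← Subgroup.map_commutator]
  refine Subgroup.mem_map_of_mem π ?_
  rw [← Subgroup.mem_map_iff_mem S.subtype_injective, Subgroup.map_commutator, hYSdef,
    Subgroup.map_subgroupOf_eq_of_le hYS]
  exact hc

/-- Modulo the kernel on all quotients by scalars the derived subgroup lies in the core. -/
theorem core_image [Group.IsSolvable L] (hinj : Function.Injective σ) (hq2 : q ≠ 2)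
    (hNq : IsPGroup q N)
    (hcent : ∀ a ∈ N, ∀ b ∈ N, ∀ c ∈ N, a * b * a⁻¹ * b⁻¹ * c = c * (a * b * a⁻¹ * b⁻¹))
    (hpow : ∀ a ∈ N, ∀ c ∈ N, a ^ q * c = c * a ^ q)
    (hf : 1 ≤ f) (hx : x ^ 2 ^ f = 1) (hdeg : (σ x - 1) ^ (2 ^ f - 1) = 0) (hr2 : r ≠ 2) {g : ℕ}
    (hrg : r + 1 = 2 ^ g) (Y : Subgroup L) (hY : IsPGroup r Y) (hxY : ∀ y ∈ Y, x * y * x⁻¹ ∈ Y)
    (hYz : Y ≤ ⁅Y, Subgroup.zpowers (x ^ 2 ^ (f - 1))⁆) :
    ⁅Y, Y⁆ ≤ (Cfsg.pCore q (L ⧸ kf σ N)).comap (QuotientGroup.mk' (kf σ N)) := by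
  classical
  obtain ⟨m, hm⟩ := hNq.exists_card_eq
  have hN : (Nat.card N : k) ≠ 0 := by
    rw [hm]
    exact nat_ne_zero_of_coprime (p := 2)
      (((Nat.coprime_primes hqp.out Nat.prime_two).mpr hq2).pow_left _)
  have hT : ∀ U, IsCst σ N U → Tw σ N U := fun U h => h.tw_of_central hcent
  haveI : Fact (Nat.Prime 2) := ⟨Nat.prime_two⟩
  let D : {U : Submodule k V // IsCst σ N U} → Subgroup L := fun U =>
    ((Cfsg.pCore q (U.2.qact hN (hT U.1 U.2)).range).comap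
      (U.2.qact hN (hT U.1 U.2)).rangeRestrict).map (stabU σ N U.1).subtype
  set F := fixAll σ N
  set W := F ⊓ ⨅ U, D U with hW
  have hCW : ⁅Y, Y⁆ ≤ W := by
    intro c hc
    have hcF : c ∈ F := (hYz.trans (commutator_le_of_conj
      (Subgroup.zpowers_le.mpr (involution_mem_fixAll hN hf hx hdeg))
      fun y _ s hs => fixAll_normal.conj_mem s hs y)) (Subgroup.commutator_le_self Y hc)
    refine Subgroup.mem_inf.mpr ⟨hcF, Subgroup.mem_iInf.mpr fun U => ?_⟩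
    obtain ⟨hcS, hcO⟩ := core_image_cst hq2 hNq hcent hpow hN hf hx hdeg hr2 hrg Y hY hxY hYz U.2
      (hT U.1 U.2) c hc
    exact ⟨⟨c, hcS⟩, hcO, rfl⟩
  refine hCW.trans fun w hw => ?_
  set π := QuotientGroup.mk' (kf σ N)
  rw [Subgroup.mem_comap]
  -- the image of `W` is a normal `q`-subgroup of the image of `F`
  haveI hFn : (F.map π).Normal := fixAll_normal.map π (QuotientGroup.mk'_surjective _)
  set W' := (W.map π).subgroupOf (F.map π) with hW'
  haveI : W'.Normal := by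
    refine ⟨fun w' hw' y => ?_⟩
    rw [hW', Subgroup.mem_subgroupOf] at hw' ⊢
    obtain ⟨w₀, hw₀, he₀⟩ := hw'
    obtain ⟨y₀, hy₀, hey⟩ := y.2
    refine ⟨y₀ * w₀ * y₀⁻¹, ?_, by rw [map_mul, map_mul, map_inv, he₀, hey]; rfl⟩
    obtain ⟨hwF, hwD⟩ := Subgroup.mem_inf.mp hw₀
    refine Subgroup.mem_inf.mpr ⟨fixAll_normal.conj_mem _ hwF y₀, Subgroup.mem_iInf.mpr fun U => ?_⟩
    obtain ⟨w₁, hw₁, rfl⟩ := Subgroup.mem_iInf.mp hwD U
    refine ⟨⟨y₀, mem_fixAll.mp hy₀ U.1 U.2⟩ * w₁ * (⟨y₀, mem_fixAll.mp hy₀ U.1 U.2⟩)⁻¹, ?_, rfl⟩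
    exact ((Fitting.pCore_normal q).comap _).conj_mem _ hw₁ _
  have hWp : IsPGroup q W' := by
    rintro ⟨⟨w', hwF'⟩, hw'⟩
    rw [hW', Subgroup.mem_subgroupOf] at hw'
    obtain ⟨w₀, hw₀, rfl⟩ := hw'
    refine ⟨Nat.card L, Subtype.ext (Subtype.ext ?_)⟩
    rw [SubmonoidClass.coe_pow, SubmonoidClass.coe_pow]
    show π w₀ ^ q ^ Nat.card L = 1
    rw [← map_pow]
    refine (QuotientGroup.eq_one_iff _).mpr (mem_kf_of_qker hinj hN hT fun U h => ?_)
    obtain ⟨w₁, hw₁, rfl⟩ := Subgroup.mem_iInf.mp (Subgroup.mem_inf.mp hw₀).2 ⟨U, h⟩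
    refine ⟨w₁ ^ q ^ Nat.card L, ?_, rfl⟩
    set φ := h.qact hN (hT U h)
    obtain ⟨i, hi⟩ := Fitting.pCore_isPGroup q (G := φ.range) ⟨_, hw₁⟩
    have hi' : φ w₁ ^ q ^ i = 1 := congrArg Subtype.val (congrArg Subtype.val hi)
    obtain ⟨j, -, hj⟩ := (Nat.dvd_prime_pow hqp.out).mp (orderOf_dvd_of_pow_eq_one hi')
    have hjle : j ≤ Nat.card L :=
      (Nat.lt_pow_self hqp.out.one_lt).le.trans (hj ▸ ((orderOf_map_dvd φ w₁).trans
        (orderOf_dvd_natCard _)).trans (Subgroup.card_subgroup_dvd_card _) |> Nat.le_of_dvd Nat.card_pos)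
    show φ (w₁ ^ q ^ Nat.card L) = 1
    rw [map_pow]
    exact orderOf_dvd_iff_pow_eq_one.mp (hj ▸ pow_dvd_pow q hjle)
  have h1 : W' ≤ Cfsg.pCore q (F.map π) := Fitting.le_pCore inferInstance hWp
  have h2 : (Cfsg.pCore q (F.map π)).map (F.map π).subtype ≤ Cfsg.pCore q (L ⧸ kf σ N) :=
    Fitting.le_pCore ConjAct.normal_of_characteristic_of_normal ((Fitting.pCore_isPGroup q).map _)
  exact h2 ⟨⟨π w, Subgroup.mem_map_of_mem π (Subgroup.mem_inf.mp hw).1⟩,
    h1 (Subgroup.mem_subgroupOf.mpr (Subgroup.mem_map_of_mem π hw)), rfl⟩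

end image

/-- The drop of the exponent over two layers. -/
theorem two_step {k : Type*} [Field k] [IsAlgClosed k] [CharP k 2] {V V' : Type*} [AddCommGroup V]
    [Module k V] [FiniteDimensional k V] [AddCommGroup V'] [Module k V'] [FiniteDimensional k V']
    {H H' : Type*} [Group H] [Finite H] [Group.IsSolvable H] [Group H'] [Finite H'] (π : H →* H')
    (hπ : Function.Surjective π) (hker : Cfsg.pPrimeCore 2 H ≤ π.ker) (hO : Cfsg.pCore 2 H = ⊥)
    (hO' : Cfsg.pCore 2 H' = ⊥) {f : ℕ} (hf : 1 ≤ f)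
    (hexp : ∀ x : H, (∃ i, x ^ 2 ^ i = 1) → x ^ 2 ^ f = 1) (σ : H →* Module.End k V)
    (hσ : Function.Injective σ) (σ' : H' →* Module.End k V') (hσ' : Function.Injective σ')
    (hdeg : ∀ x, x ^ 2 ^ f = 1 → (∃ i, x ^ 2 ^ i = 1) → (σ x - 1) ^ (2 ^ f - 1) = 0)
    (hdeg' : ∀ x, x ^ 2 ^ f = 1 → (∃ i, x ^ 2 ^ i = 1) → (σ' x - 1) ^ (2 ^ f - 1) = 0)
    (x' : H') (hx' : ∃ i, x' ^ 2 ^ i = 1) : x' ^ 2 ^ (f - 1) = 1 := by
  classical
  haveI : Fact (Nat.Prime 2) := ⟨Nat.prime_two⟩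
  haveI : Group.IsSolvable H' := Group.isSolvable_of_surjective (f := π) hπ
  by_contra hne
  have hx'f : x' ^ 2 ^ f = 1 := by
    obtain ⟨x, hx, hx2⟩ := exists_pElement_lift hπ x' hx'
    rw [← hx, ← map_pow, hexp x hx2, map_one]
  set z' := x' ^ 2 ^ (f - 1) with hz'
  have hz'2 : z' ^ 2 = 1 := by rw [hz', ← pow_mul, ← pow_succ, Nat.sub_add_cancel hf, hx'f]
  -- a core moved by the involution
  obtain ⟨r, hr, hr2, hmoved⟩ : ∃ r, r.Prime ∧ r ≠ 2 ∧
      ¬ ∀ v ∈ Cfsg.pCore r H', z' * v = v * z' := by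
    by_contra hno
    push Not at hno
    refine hne (Subgroup.mem_bot.mp (hO' ▸ mem_pCore_of_centralizes ⟨1, by rw [pow_one]; exact hz'2⟩ ?_))
    intro ℓ hℓ v hv
    by_cases hℓ2 : ℓ = 2
    · subst hℓ2
      rw [hO', Subgroup.mem_bot] at hv
      rw [hv, mul_one, one_mul]
    · exact hno ℓ hℓ hℓ2 v hv
  haveI := Fact.mk hr
  obtain ⟨K, hKn, hKp, hKcent, hKpow, hKcr⟩ := exists_crit_sub (H := H') r
  haveI := hKn
  have hz'cop : (orderOf z').Coprime r := Nat.Coprime.coprime_dvd_left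
    (orderOf_dvd_of_pow_eq_one hz'2) ((Nat.coprime_primes Nat.prime_two hr).mpr (Ne.symm hr2))
  obtain ⟨mK, hmK⟩ := hKp.exists_card_eq
  have hKN : (Nat.card K : k) ≠ 0 := by
    rw [hmK]
    exact nat_ne_zero_of_coprime (p := 2)
      (((Nat.coprime_primes hr Nat.prime_two).mpr hr2).pow_left _)
  have hKT : ∀ U, IsCst σ' K U → Tw σ' K U := fun U h => h.tw_of_central hKcent
  obtain ⟨U, hU, hUmove⟩ : ∃ U, ∃ hU : IsCst σ' K U, z' ∉ hU.qker hKN (hKT U hU) := by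
    by_contra hno
    push Not at hno
    exact hmoved (hKcr z' hz'cop (centralizes_of_qker hσ' hKN hKT
      (by rw [hmK]; exact hz'cop.pow_right _) hno))
  have hz'S : z' ∈ stabU σ' K U :=
    mem_fixAll.mp (involution_mem_fixAll hKN hf hx'f (hdeg' x' hx'f hx')) U hU
  obtain ⟨a, haf, -, hrg, R, -, -, -, r₁, hr₁R, r₂, hr₂R, hr₁, hr₂, hinv₁, hinv₂, ω, hω1, hω⟩ :=
    plane hr2 hKp hKcent hf hx'f (hdeg' x' hx'f hx') hU
      (fun h' => hUmove ((hU.mem_qker hKN (hKT U hU)).mpr ⟨hz'S, h'⟩))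
  -- the commutator subgroup is not abelian
  set Y := ⁅K, Subgroup.zpowers z'⁆ with hY
  have hKN' : Subgroup.zpowers z' ≤ Subgroup.normalizer (K : Set H') :=
    Subgroup.le_normalizer_of_normal
  have hYK : Y ≤ K := Coprime.commutator_le_left_of_le_normalizer hKN'
  have hz'card : (Nat.card (Subgroup.zpowers z')).Coprime (Nat.card K) := by
    rw [Nat.card_zpowers, hmK]
    exact hz'cop.pow_right _
  have hYnab : ⁅Y, Y⁆ ≠ ⊥ := by
    intro hbot
    have hy : ∀ s ∈ K, ⁅s, z'⁆ ∈ Y := fun s hs =>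
      Subgroup.commutator_mem_commutator hs (Subgroup.mem_zpowers z')
    have hsq : ∀ s ∈ K, z' * s * z'⁻¹ * s ∈ hU.zsub → ∀ t ∈ K,
        hU.cm ⁅s, z'⁆ t = hU.cm s t * hU.cm s t := by
      intro s hs hsz t ht
      set d := z' * s * z'⁻¹ * s with hd
      have hT := hKT U hU
      rw [show ⁅s, z'⁆ = s * s * d⁻¹ by rw [hd, commutatorElement_def]; group,
        hU.cm_mul_left hT (K.mul_mem hs hs) (K.inv_mem hsz.1) ht, hU.cm_mul_left hT hs hs ht]
      have h1 := hU.cm_swap hT ht (K.inv_mem hsz.1)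
      rw [hU.cm_zsub_right hT ht (hU.zsub.inv_mem hsz), mul_one] at h1
      rw [h1, mul_one]
    have hT := hKT U hU
    have hy₁ := hYK (hy r₁ hr₁)
    have hy₂ := hYK (hy r₂ hr₂)
    have hω12 : hU.cm r₁ r₂ = ω := hU.cm_eq hT hr₁ hr₂ hω
    have h4 : hU.cm ⁅r₁, z'⁆ ⁅r₂, z'⁆ = 1 := hU.cm_eq hT hy₁ hy₂ fun w _ => by
      rw [one_smul, ← sigma_mul_apply, ← sigma_mul_apply]
      have := commutatorElement_eq_one_iff_mul_comm.mp (Subgroup.mem_bot.mp
        (hbot ▸ Subgroup.commutator_mem_commutator (hy r₁ hr₁) (hy r₂ hr₂)))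
      rw [this]
    rw [hsq r₁ hr₁ hinv₁ _ hy₂] at h4
    have h5 : hU.cm r₁ ⁅r₂, z'⁆ = ω * ω := by
      have e1 := hU.cm_swap hT hr₁ hy₂
      have e2 := hU.cm_swap hT hr₁ hr₂
      rw [hsq r₂ hr₂ hinv₂ r₁ hr₁] at e1
      rw [hω12] at e2
      linear_combination (ω * ω) * e1 - hU.cm r₁ ⁅r₂, z'⁆ * (hU.cm r₂ r₁ * ω + 1) * e2
    rw [h5] at h4
    have h6 : (ω - 1) ^ (2 ^ 2) = 0 := by
      rw [sub_pow_char_pow, one_pow]
      linear_combination h4
    exact hω1 (sub_eq_zero.mp ((pow_eq_zero_iff (by norm_num)).mp h6))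
  have hYY : Y ≤ ⁅Y, Subgroup.zpowers z'⁆ :=
    (Coprime.commutator_commutator_eq hKN' hz'card (Or.inl inferInstance)).ge
  have hz'Y : x' ∈ Subgroup.normalizer (Y : Set H') := by
    refine Coprime.le_normalizer_commutator (A := Subgroup.zpowers x')
      Subgroup.le_normalizer_of_normal ?_ (Subgroup.mem_zpowers x')
    rw [Subgroup.zpowers_le, hz']
    refine PrimaryParts.mem_normalizer_of_conj_mem fun w hw => ?_
    obtain ⟨m, rfl⟩ := Subgroup.mem_zpowers_iff.mp hw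
    have : Commute x' ((x' ^ 2 ^ (f - 1)) ^ m) := ((Commute.refl x').pow_right _).zpow_right m
    rw [this.eq, mul_inv_cancel_right]
    exact Subgroup.zpow_mem _ (Subgroup.mem_zpowers _) m
  -- lift to `H`
  set Yh := Y.comap π with hYh
  let P : Sylow r Yh := default
  set P₀ := (P : Subgroup Yh).map Yh.subtype with hP₀
  have hP₀Y : P₀ ≤ Yh := Subgroup.map_subtype_le _
  have hP₀p : IsPGroup r P₀ := P.2.map _
  have hπP : P₀.map π = Y := by
    let π' : Yh →* Y := π.subgroupComap Y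
    have hπ's : Function.Surjective π' := fun y => by
      obtain ⟨g, hg⟩ := hπ y
      exact ⟨⟨g, show π g ∈ Y by rw [hg]; exact y.2⟩, Subtype.ext hg⟩
    have htop : ((P.mapSurjective hπ's : Sylow r Y) : Subgroup Y) = ⊤ := by
      have hYp : IsPGroup r Y := hKp.to_le hYK
      exact ((P.mapSurjective hπ's).3 (hYp.to_subgroup ⊤) le_top).symm
    apply le_antisymm
    · rintro _ ⟨p, hp, rfl⟩
      exact hP₀Y hp
    · intro y hy
      obtain ⟨p, hp, hpy⟩ : (⟨y, hy⟩ : Y) ∈ ((P.mapSurjective hπ's : Sylow r Y) : Subgroup Y) :=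
        htop ▸ Subgroup.mem_top _
      exact ⟨p, ⟨p, hp, rfl⟩, congrArg Subtype.val hpy⟩
  set M := Subgroup.normalizer (P₀ : Set H) with hM
  have hx'M : x' ∈ M.map π := by
    obtain ⟨x, hx⟩ := hπ x'
    have hxY : ∀ y ∈ Yh, x * y * x⁻¹ ∈ Yh := fun y hy => by
      rw [hYh, Subgroup.mem_comap, map_mul, map_mul, map_inv, hx]
      exact (Subgroup.mem_normalizer_iff.mp hz'Y _).mp hy
    let α : Yh →* Yh := MonoidHom.mk' (fun y => ⟨x * y * x⁻¹, hxY y y.2⟩) fun y y' => Subtype.ext (by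
      show x * (y * y' : Yh) * x⁻¹ = x * y * x⁻¹ * (x * y' * x⁻¹)
      rw [Subgroup.coe_mul]; group)
    have hαs : Function.Surjective α := Finite.injective_iff_surjective.mp fun y y' e =>
      Subtype.ext ((MulAut.conj x).injective (congrArg Subtype.val e))
    obtain ⟨y, hy⟩ := MulAction.exists_smul_eq Yh P (P.mapSurjective hαs)
    have hn : (y : H)⁻¹ * x ∈ M := by
      refine PrimaryParts.mem_normalizer_of_conj_mem ?_
      rintro _ ⟨p, hp, rfl⟩
      have hmem : α p ∈ ((y • P : Sylow r Yh) : Subgroup Yh) := hy ▸ Subgroup.mem_map_of_mem α hp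
      rw [Sylow.coe_subgroup_smul, Subgroup.mem_pointwise_smul_iff_inv_smul_mem] at hmem
      refine ⟨_, hmem, ?_⟩
      simp only [Subgroup.coe_subtype, MulAut.smul_def, ← map_inv, MulAut.conj_apply, Subgroup.coe_mul,
        Subgroup.coe_inv, inv_inv, α, MonoidHom.mk'_apply]
      group
    obtain ⟨p, hp, hpy⟩ : π y ∈ P₀.map π := hπP.symm ▸ y.2
    refine ⟨p * ((y : H)⁻¹ * x), M.mul_mem (Subgroup.le_normalizer hp) hn, ?_⟩
    rw [map_mul, map_mul, map_inv, hpy, hx, mul_inv_cancel_left]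
  obtain ⟨x₁, hx₁, hx₁2⟩ := exists_pElement_lift (f := π.subgroupMap M)
    (π.subgroupMap_surjective M) ⟨x', hx'M⟩ (by
      obtain ⟨i, hi⟩ := hx'
      exact ⟨i, Subtype.ext hi⟩)
  have hπx₁ : π (x₁ : H) = x' := congrArg Subtype.val hx₁
  have hx₁2' : ∃ i, (x₁ : H) ^ 2 ^ i = 1 := by
    obtain ⟨i, hi⟩ := hx₁2
    exact ⟨i, congrArg Subtype.val hi⟩
  have hx₁f := hexp _ hx₁2'
  set z₁ := (x₁ : H) ^ 2 ^ (f - 1) with hz₁
  have hπz₁ : π z₁ = z' := by rw [hz₁, map_pow, hπx₁]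
  have hz₁2 : z₁ ^ 2 = 1 := by rw [hz₁, ← pow_mul, ← pow_succ, Nat.sub_add_cancel hf, hx₁f]
  have hz₁M : Subgroup.zpowers z₁ ≤ Subgroup.normalizer (P₀ : Set H) :=
    Subgroup.zpowers_le.mpr (pow_mem x₁.2 _)
  obtain ⟨mP, hmP⟩ := hP₀p.exists_card_eq
  have hz₁card : (Nat.card (Subgroup.zpowers z₁)).Coprime (Nat.card P₀) := by
    rw [Nat.card_zpowers, hmP]
    exact (Nat.Coprime.coprime_dvd_left (orderOf_dvd_of_pow_eq_one hz₁2)
      ((Nat.coprime_primes Nat.prime_two hr).mpr (Ne.symm hr2))).pow_right _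
  set Y₁ := ⁅P₀, Subgroup.zpowers z₁⁆ with hY₁
  have hY₁P : Y₁ ≤ P₀ := Coprime.commutator_le_left_of_le_normalizer hz₁M
  have hY₁p : IsPGroup r Y₁ := hP₀p.to_le hY₁P
  have hY₁Y₁ : Y₁ ≤ ⁅Y₁, Subgroup.zpowers z₁⁆ :=
    (Coprime.commutator_commutator_eq hz₁M hz₁card (Or.inl inferInstance)).ge
  have hπY₁ : Y₁.map π = Y := by
    rw [hY₁, Subgroup.map_commutator, hπP, MonoidHom.map_zpowers, hπz₁, hY]
    exact le_antisymm (Subgroup.commutator_mono hYK le_rfl) hYY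
  have hx₁Y₁ : ∀ y ∈ Y₁, (x₁ : H) * y * (x₁ : H)⁻¹ ∈ Y₁ := by
    intro y hy
    refine (Subgroup.mem_normalizer_iff.mp (Coprime.le_normalizer_commutator
      (A := Subgroup.zpowers (x₁ : H)) (Subgroup.zpowers_le.mpr x₁.2) ?_
      (Subgroup.mem_zpowers _)) y).mp hy
    rw [Subgroup.zpowers_le, hz₁]
    refine PrimaryParts.mem_normalizer_of_conj_mem fun w hw => ?_
    obtain ⟨m, rfl⟩ := Subgroup.mem_zpowers_iff.mp hw
    have : Commute (x₁ : H) (((x₁ : H) ^ 2 ^ (f - 1)) ^ m) :=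
      ((Commute.refl _).pow_right _).zpow_right m
    rw [this.eq, mul_inv_cancel_right]
    exact Subgroup.zpow_mem _ (Subgroup.mem_zpowers _) m
  set C := ⁅Y₁, Y₁⁆ with hC
  have hC0 : ¬ C ≤ π.ker := by
    intro hle
    refine hYnab ?_
    rw [← hπY₁, ← Subgroup.map_commutator, ← hC, Subgroup.map_eq_bot_iff]
    exact hle
  apply hC0
  refine le_trans ?_ hker
  -- the cores of `H`
  have hcore : ∀ (ℓ : ℕ), ℓ.Prime → ℓ ≠ 2 → ∃ (N : Subgroup H) (_ : N.Normal),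
      (Nat.card N : k) ≠ 0 ∧ IsPGroup ℓ N ∧
      (∀ a ∈ N, ∀ b ∈ N, ∀ c ∈ N, a * b * a⁻¹ * b⁻¹ * c = c * (a * b * a⁻¹ * b⁻¹)) ∧
      C ≤ (Cfsg.pCore ℓ (H ⧸ kf σ N)).comap (QuotientGroup.mk' (kf σ N)) ∧
      ∀ c : H, (orderOf c).Coprime ℓ → c ∈ kf σ N → ∀ v ∈ Cfsg.pCore ℓ H, c * v = v * c := by
    intro ℓ hℓ hℓ2
    haveI := Fact.mk hℓ
    obtain ⟨N, hNn, hNp, hcent, hpow, hcr⟩ := exists_crit_sub (H := H) ℓ
    haveI := hNn
    obtain ⟨m, hm⟩ := hNp.exists_card_eq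
    have hN : (Nat.card N : k) ≠ 0 := by
      rw [hm]
      exact nat_ne_zero_of_coprime (p := 2)
        (((Nat.coprime_primes hℓ Nat.prime_two).mpr hℓ2).pow_left _)
    refine ⟨N, hNn, hN, hNp, hcent, core_image hσ hℓ2 hNp hcent hpow hf hx₁f
      (hdeg _ hx₁f hx₁2') hr2 hrg Y₁ hY₁p hx₁Y₁ hY₁Y₁, fun c hc hck => ?_⟩
    have hT : ∀ U, IsCst σ N U → Tw σ N U := fun U h => h.tw_of_central hcent
    exact hcr c hc (centralizes_of_qker hσ hN hT (by rw [hm]; exact hc.pow_right _)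
      fun U h => qker_of_mem_kf hN h (hT U h) hck)
  have hCp : IsPGroup r C := hY₁p.to_le (Subgroup.commutator_le_self Y₁)
  obtain ⟨Nr, hNrn, -, -, -, hCr, hNrc⟩ := hcore r hr hr2
  haveI := hNrn
  set M₀ := (Cfsg.pCore r (H ⧸ kf σ Nr)).comap (QuotientGroup.mk' (kf σ Nr)) ⊓
    ⨅ ℓ : {ℓ : ℕ // ℓ.Prime ∧ ℓ ≠ r}, Subgroup.centralizer (Cfsg.pCore (ℓ : ℕ) H : Set H) with hM₀
  haveI hMn : M₀.Normal := by
    haveI : ((Cfsg.pCore r (H ⧸ kf σ Nr)).comap (QuotientGroup.mk' (kf σ Nr))).Normal :=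
      (Fitting.pCore_normal r).comap _
    haveI : (⨅ ℓ : {ℓ : ℕ // ℓ.Prime ∧ ℓ ≠ r},
        Subgroup.centralizer (Cfsg.pCore (ℓ : ℕ) H : Set H)).Normal :=
      Subgroup.normal_iInf_normal fun ℓ => by
        haveI := Fitting.pCore_normal (G := H) (ℓ : ℕ)
        infer_instance
    rw [hM₀]
    exact Subgroup.normal_inf_normal _ _
  have hCM : C ≤ M₀ := by
    refine le_inf hCr (le_iInf fun ⟨ℓ, hℓ, hℓr⟩ => fun c hc => ?_)
    haveI := Fact.mk hℓ
    rw [Subgroup.mem_centralizer_iff]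
    intro v hv
    by_cases hℓ2 : ℓ = 2
    · subst hℓ2
      rw [show v = 1 by
        have : v ∈ Cfsg.pCore 2 H := hv
        rwa [hO, Subgroup.mem_bot] at this]
      rw [one_mul, mul_one]
    obtain ⟨N, hNn, -, -, -, hCℓ, hNc⟩ := hcore ℓ hℓ hℓ2
    haveI := hNn
    obtain ⟨i, hi⟩ := hCp ⟨c, hc⟩
    have hi' : c ^ r ^ i = 1 := congrArg Subtype.val hi
    have hcop : (orderOf c).Coprime ℓ := Nat.Coprime.coprime_dvd_left (orderOf_dvd_of_pow_eq_one hi')
      (((Nat.coprime_primes hr hℓ).mpr (Ne.symm hℓr)).pow_left i)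
    refine (hNc c hcop ?_ v hv).symm
    obtain ⟨j, hj⟩ := Fitting.pCore_isPGroup ℓ (G := H ⧸ kf σ N) ⟨_, hCℓ hc⟩
    refine (QuotientGroup.eq_one_iff c).mp (orderOf_eq_one_iff.mp (Nat.eq_one_of_dvd_coprimes
      (((Nat.coprime_primes hr hℓ).mpr (Ne.symm hℓr)).pow i j) ?_ ?_))
    · exact orderOf_dvd_of_pow_eq_one (by rw [← QuotientGroup.mk_pow, hi', QuotientGroup.mk_one])
    · exact orderOf_dvd_of_pow_eq_one (congrArg Subtype.val hj)
  refine hCM.trans ?_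
  -- `M₀` is nilpotent
  have hcentral : ∀ m ∈ M₀, (orderOf m).Coprime r → ∀ y ∈ M₀, y * m = m * y := by
    intro m hm hcop
    obtain ⟨hm1, hm2⟩ := Subgroup.mem_inf.mp hm
    have hmk : m ∈ kf σ Nr := by
      obtain ⟨j, hj⟩ := Fitting.pCore_isPGroup r (G := H ⧸ kf σ Nr) ⟨_, hm1⟩
      refine (QuotientGroup.eq_one_iff m).mp (orderOf_eq_one_iff.mp (Nat.eq_one_of_dvd_coprimes
        (hcop.pow_right j) ?_ ?_))
      · exact orderOf_map_dvd (QuotientGroup.mk' (kf σ Nr)) m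
      · exact orderOf_dvd_of_pow_eq_one (congrArg Subtype.val hj)
    have hall : ∀ ℓ, ℓ.Prime → ∀ v ∈ Cfsg.pCore ℓ H, m * v = v * m := by
      intro ℓ hℓ v hv
      by_cases hℓr : ℓ = r
      · subst hℓr; exact hNrc m hcop hmk v hv
      · exact (Subgroup.mem_centralizer_iff.mp (Subgroup.mem_iInf.mp hm2 ⟨ℓ, hℓ, hℓr⟩) v hv).symm
    intro y hy
    suffices m ∈ Subgroup.centralizer ({y} : Set H) from
      (Subgroup.mem_centralizer_singleton_iff.mp this).symm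
    refine PrimaryParts.mem_of_primePow_parts fun w hw p i hp hwo => ?_
    haveI := Fact.mk hp
    rw [Subgroup.mem_centralizer_singleton_iff]
    rcases Nat.eq_zero_or_pos i with rfl | hi
    · rw [pow_zero, orderOf_eq_one_iff] at hwo
      rw [hwo, one_mul, mul_one]
    have hpr : p ≠ r := by
      rintro rfl
      have h1 : p ^ i ∣ orderOf m := hwo ▸ orderOf_dvd_of_mem_zpowers hw
      exact (hp.coprime_iff_not_dvd.mp hcop.symm) ((dvd_pow_self p (by omega)).trans h1)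
    have hwc : w ∈ Cfsg.pCore p H := mem_pCore_of_centralizes
      ⟨i, by rw [← hwo, pow_orderOf_eq_one]⟩ fun ℓ hℓ v hv => by
        obtain ⟨t, rfl⟩ := Subgroup.mem_zpowers_iff.mp hw
        exact (Commute.zpow_left (hall ℓ hℓ v hv) t).eq
    exact Subgroup.mem_centralizer_iff.mp
      (Subgroup.mem_iInf.mp (Subgroup.mem_inf.mp hy).2 ⟨p, hp, hpr⟩) w hwc
  have hnil : Group.IsNilpotent M₀ := by
    have hp : IsPGroup r (M₀ ⧸ Subgroup.center M₀) := by
      intro y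
      obtain ⟨⟨y, hy⟩, rfl⟩ := QuotientGroup.mk'_surjective (Subgroup.center M₀) y
      obtain ⟨i, n', hn', hord⟩ := Nat.exists_eq_pow_mul_and_not_dvd (orderOf_pos y).ne' r hr.ne_one
      refine ⟨i, ?_⟩
      rw [← map_pow]
      refine (QuotientGroup.eq_one_iff _).mpr (Subgroup.mem_center_iff.mpr fun w => Subtype.ext ?_)
      refine hcentral _ (M₀.pow_mem hy _) ?_ w w.2
      rw [orderOf_pow, hord, Nat.gcd_eq_right (Dvd.intro n' rfl),
        Nat.mul_div_cancel_left _ (Nat.pow_pos hr.pos)]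
      exact (hr.coprime_iff_not_dvd.mpr hn').symm
    exact Group.of_quotient_center_nilpotent hp.isNilpotent
  refine Transfer.le_pPrimeCore hMn ?_
  rw [Nat.coprime_comm, Nat.prime_two.coprime_iff_not_dvd]
  intro h2
  let T : Sylow 2 M₀ := default
  have hall := ((Group.isNilpotent_of_finite_tfae (G := M₀)).out 0 3).mp hnil
  haveI : (T : Subgroup M₀).Normal := hall 2 inferInstance T
  haveI : (T : Subgroup M₀).Characteristic := T.characteristic_of_normal inferInstance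
  have hle : (T : Subgroup M₀).map M₀.subtype ≤ ⊥ :=
    hO ▸ Fitting.le_pCore ConjAct.normal_of_characteristic_of_normal (T.2.map _)
  have hTbot : (T : Subgroup M₀) = ⊥ :=
    (Subgroup.map_eq_bot_iff_of_injective _ M₀.subtype_injective).mp (le_bot_iff.mp hle)
  have := T.not_dvd_index
  rw [hTbot, Subgroup.index_bot] at this
  exact this h2

variable {G : Type*} [Group G] [Finite G]

/-- The `2`-length is at most `2 e - 1`. -/
theorem two_length [hsol : Group.IsSolvable G] (e : ℕ) (he : 1 ≤ e)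
    (hexp : ∀ (P : Sylow 2 G), ∀ x ∈ (P : Subgroup G), x ^ 2 ^ e = 1) :
    Cfsg.PLengthLE 2 (2 * e - 1) G := by
  classical
  haveI : Fact (Nat.Prime 2) := ⟨Nat.prime_two⟩
  haveI : CharP (AlgebraicClosure (ZMod 2)) 2 :=
    charP_of_injective_algebraMap (algebraMap (ZMod 2) (AlgebraicClosure (ZMod 2))).injective 2
  have hps : Cfsg.IsPSolvable 2 G := PSolvable.isPSolvable_of_isSolvable hsol
  have key : ∀ n, n + 1 ≤ e → ∀ z : G, (∃ i, z ^ 2 ^ i = 1) →
      z ^ 2 ^ (e - n) ∈ (Cfsg.upperPSeries 2 G (2 * (2 * n))).1 := by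
    intro n
    induction n with
    | zero =>
      intro _ z hz
      rw [Nat.sub_zero, exp_of_sylow e hexp z hz]
      exact one_mem _
    | succ n ih =>
      intro hn z hz
      have hP := ih (by omega)
      have hP' : ∀ w : G, (∃ i, w ^ 2 ^ i = 1) →
          w ^ 2 ^ (e - n) ∈ (Cfsg.upperPSeries 2 G (2 * (2 * n + 1))).1 := fun w hw =>
        upperPSeries_le_succ' _ (upperPSeries_le_succ' _ (hP w hw))
      obtain ⟨hO, hH, d, σ, hσ, hdeg⟩ := exists_rep hps (2 * n) (e - n) hP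
      obtain ⟨hO', -, d', σ', hσ', hdeg'⟩ := exists_rep hps (2 * n + 1) (e - n) hP'
      rw [show 2 * (2 * (n + 1)) = 2 * (2 * n + 1 + 1) by ring, show e - (n + 1) = e - n - 1 by omega]
      set W := (Cfsg.upperPSeries 2 G (2 * (2 * n + 1))).1 with hW
      set W' := (Cfsg.upperPSeries 2 G (2 * (2 * n + 1 + 1))).1 with hW'
      have hWW : W ≤ W'.comap (MonoidHom.id G) :=
        (upperPSeries_le_succ' _).trans (upperPSeries_le_succ' _)
      let π : G ⧸ W →* G ⧸ W' := QuotientGroup.map W W' (MonoidHom.id G) hWW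
      have hπ : Function.Surjective π := fun y => by
        obtain ⟨g, rfl⟩ := QuotientGroup.mk'_surjective W' y
        exact ⟨QuotientGroup.mk' W g, rfl⟩
      have hker : Cfsg.pPrimeCore 2 (G ⧸ W) ≤ π.ker := by
        intro y hy
        obtain ⟨g, rfl⟩ := QuotientGroup.mk'_surjective W y
        refine MonoidHom.mem_ker.mpr ((QuotientGroup.eq_one_iff g).mpr ?_)
        refine upperPSeries_le_succ' _ ?_
        show g ∈ (Cfsg.upperPSeries 2 G (2 * (2 * n + 1) + 1)).1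
        rw [upperPSeries_even_succ]
        exact hy
      haveI : Group.IsSolvable (G ⧸ W) :=
        Group.isSolvable_of_surjective (f := QuotientGroup.mk' W) (QuotientGroup.mk'_surjective W)
      have h1 := two_step π hπ hker hO hO' (by omega) hH σ hσ σ' hσ' hdeg hdeg' (QuotientGroup.mk' W' z)
        (by obtain ⟨i, hi⟩ := hz; exact ⟨i, by rw [← map_pow, hi, map_one]⟩)
      rw [← map_pow] at h1
      exact (QuotientGroup.eq_one_iff _).mp h1
  refine pLengthLE_of_mem _ fun z hz => ?_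
  have hP := key (e - 1) (by omega)
  rw [show e - (e - 1) = 1 by omega] at hP
  obtain ⟨-, hH, d, σ, hσ, hdeg⟩ := exists_rep hps (2 * (e - 1)) 1 hP
  rw [show 2 * (2 * e - 1) = 2 * (2 * (e - 1) + 1) by omega]
  set W := (Cfsg.upperPSeries 2 G (2 * (2 * (e - 1) + 1))).1
  have hz' : ∃ i, (QuotientGroup.mk' W z) ^ 2 ^ i = 1 := by
    obtain ⟨i, hi⟩ := hz
    exact ⟨i, by rw [← map_pow, hi, map_one]⟩
  have h1 := hdeg _ (hH _ hz') hz'
  rw [show (2 : ℕ) ^ 1 - 1 = 1 from rfl, pow_one, sub_eq_zero] at h1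
  exact (QuotientGroup.eq_one_iff z).mp (hσ (h1.trans σ.map_one.symm))

end CfsgLib.Gross
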