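import Cfsg.Agent.Lib.Gross.Core
import Cfsg.Agent.Lib.Gross.Layer
import Cfsg.Agent.Lib.Gross.Fixed
import Cfsg.Agent.Lib.HallHigman.FermatSeries

/-!
Odd `p`: the last derived subgroup of a Sylow subgroup of a `p`-soluble group with trivial `p'`-core
lies in the `p`-core.
-/

set_option autoImplicit false
set_option linter.style.haveILetI false
set_option linter.unusedSectionVars false

open Module CfsgLib.HallHigman
open scoped commutatorElement

namespace CfsgLib.Gross

theorem quad_pow {R : Type*} [Ring R] {A B : R} (hAB : A * B = 1) (hT : (A - 1) * (A - 1) = 0)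
    (M : R) :
    A * (A * (A * M * B) * B) * B - 3 • (A * (A * M * B) * B) + 3 • (A * M * B) - M = 0 ∧
      A * (A * M * B) * B - 2 • (A * M * B) + M = -2 • ((A - 1) * M * (A - 1)) := by
  have hB : B = 1 - (A - 1) := by
    calc B = (1 - (A - 1) * (A - 1)) * B := by rw [hT, sub_zero, one_mul]
      _ = (2 • 1 - A) * (A * B) := by noncomm_ring
      _ = _ := by rw [hAB, mul_one]; abel
  obtain ⟨T, rfl⟩ : ∃ T, A = 1 + T := ⟨A - 1, by abel⟩
  rw [add_sub_cancel_left] at hT hB
  subst hB
  have hT' : ∀ X, T * (T * X) = 0 := fun X => by rw [← mul_assoc, hT, zero_mul]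
  constructor
  · noncomm_ring [hT, hT']
  · rw [add_sub_cancel_left]
    noncomm_ring [hT, hT']

section general

variable {k : Type*} [Field k] [IsAlgClosed k] {V : Type*} [AddCommGroup V] [Module k V]
  [FiniteDimensional k V]
variable {L : Type*} [Group L] [Finite L] {σ : L →* Module.End k V} {N : Subgroup L} [hNn : N.Normal]
variable {U : Submodule k V} {p : ℕ} [hp : Fact p.Prime]

/-- Outside the stabiliser an element of odd order gives three independent translates. -/
theorem translates_ne (h : IsCst σ N U) {x : L} {n : ℕ} (hp2 : p ≠ 2) (hx : x ^ p ^ n = 1)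
    (hxS : x ∉ stabU σ N U) : ∀ i j, i < j → j < 3 →
      ∃ a ∈ N, chi σ (U.map (σ (x ^ i))) a ≠ chi σ (U.map (σ (x ^ j))) a := by
  intro i j hij hj
  by_contra hno
  push Not at hno
  have hmem : (x ^ i)⁻¹ * x ^ j ∈ stabU σ N U := by
    intro a ha
    have h1 := hno (x ^ j * a * (x ^ j)⁻¹) (hNn.conj_mem a ha _)
    rw [h.chi_translate _ (hNn.conj_mem a ha _), h.chi_translate _ (hNn.conj_mem a ha _),
      show (x ^ j)⁻¹ * (x ^ j * a * (x ^ j)⁻¹) * x ^ j = a by group] at h1
    rw [← h1]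
    congr 1
    group
  rw [show x ^ j = x ^ i * x ^ (j - i) by rw [← pow_add, Nat.add_sub_cancel' hij.le],
    inv_mul_cancel_left] at hmem
  have hcop : Nat.Coprime (j - i) (orderOf x) := by
    refine Nat.Coprime.coprime_dvd_right (orderOf_dvd_of_pow_eq_one hx) (Nat.Coprime.pow_right n ?_)
    rw [Nat.coprime_comm, hp.out.coprime_iff_not_dvd]
    intro hd
    have := Nat.le_of_dvd (by omega) hd
    have := hp.out.two_le
    omega
  obtain ⟨t, ht⟩ := exists_pow_eq_self_of_coprime hcop
  exact hxS (ht ▸ pow_mem hmem t)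

theorem translates_pairwise (h : IsCst σ N U) {x : L} {n : ℕ} (hp2 : p ≠ 2) (hx : x ^ p ^ n = 1)
    (hxS : x ∉ stabU σ N U) : ∀ i ∈ Finset.range 3, ∀ j ∈ Finset.range 3, i ≠ j →
      ∃ a ∈ N, chi σ (U.map (σ (x ^ i))) a ≠ chi σ (U.map (σ (x ^ j))) a := by
  intro i hi j hj hij
  rw [Finset.mem_range] at hi hj
  rcases Nat.lt_or_gt_of_ne hij with hlt | hgt
  · exact translates_ne h hp2 hx hxS i j hlt hj
  · obtain ⟨a, ha, hne⟩ := translates_ne h hp2 hx hxS j i hgt hi
    exact ⟨a, ha, hne.symm⟩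

/-- A quadratic element fixes every character. -/
theorem mem_fixAll_of_sq (hN : (Nat.card N : k) ≠ 0) (hp2 : p ≠ 2) {x : L} {n : ℕ}
    (hx : x ^ p ^ n = 1) (hsq : (σ x - 1) * (σ x - 1) = 0) : x ∈ fixAll σ N := by
  refine mem_fixAll.mpr fun U h => ?_
  by_contra hxS
  obtain ⟨w, hw, hw0⟩ := (Submodule.ne_bot_iff U).mp h.ne
  let co : ℕ → k := fun i => if i = 1 then -2 else 1
  have h0 : ∑ i ∈ Finset.range 3, co i • σ (x ^ i) w = 0 := by
    rw [Finset.sum_range_succ, Finset.sum_range_succ, Finset.sum_range_one]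
    simp only [co, if_true, zero_ne_one, OfNat.ofNat_ne_one, if_false, pow_zero, map_one, pow_one,
      pow_two, map_mul, Module.End.one_apply, Module.End.mul_apply]
    have h1 := LinearMap.congr_fun hsq w
    simp only [Module.End.mul_apply, LinearMap.sub_apply, Module.End.one_apply, map_sub,
      LinearMap.zero_apply] at h1
    rw [← h1]
    module
  have h1 := eq_zero_of_sum_zero hN (Finset.range 3) (fun i => U.map (σ (x ^ i)))
    (fun i _ => h.translate _) (translates_pairwise h hp2 hx hxS) (fun i => co i • σ (x ^ i) w)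
    (fun i _ => Submodule.smul_mem _ _ ⟨w, hw, rfl⟩) h0 0 (by simp)
  simp only [co, zero_ne_one, if_false, one_smul, pow_zero, map_one, Module.End.one_apply] at h1
  exact hw0 h1

/-- An element which the products with a quadratic element annihilate fixes the moved class. -/
theorem mem_stab_of_cubic (h : IsCst σ N U) (hN : (Nat.card N : k) ≠ 0) (hp2 : p ≠ 2) {a b : L}
    (ha : a ∈ fixAll σ N) (haU : ∀ w ∈ U, σ a w ∈ U) {u : V} (hu : u ∈ U) (hau : σ a u ≠ u) {n : ℕ}
    (hb : b ^ p ^ n = 1) (hcub : (σ a - 1) * ((σ b - 1) * (σ b - 1)) = 0) : b ∈ stabU σ N U := by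
  by_contra hbS
  let co : ℕ → k := fun i => if i = 1 then -2 else 1
  let W : ℕ → Submodule k V := fun i => U.map (σ (b ^ i))
  -- the translates by `a` have the same characters
  have hchi : ∀ i : ℕ, ∀ v ∈ N, chi σ ((W i).map (σ a)) v = chi σ (W i) v := by
    intro i v hv
    have hi := h.translate (b ^ i)
    rw [hi.chi_translate a hv]
    have h1 := mem_fixAll.mp ha _ hi (a⁻¹ * v * a) (conj_mem' a hv)
    rw [show a * (a⁻¹ * v * a) * a⁻¹ = v by group] at h1
    exact h1.symm
  let W' : ℕ × Bool → Submodule k V := fun i => bif i.2 then (W i.1).map (σ a) else W i.1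
  let f : ℕ × Bool → V := fun i =>
    bif i.2 then (-co i.1) • σ a (σ (b ^ i.1) u) else co i.1 • σ (b ^ i.1) u
  have he : (σ a u - u) = ∑ i ∈ (({1, 2} : Finset ℕ) ×ˢ (Finset.univ : Finset Bool)), f i := by
    have h1 := LinearMap.congr_fun hcub u
    simp only [Module.End.mul_apply, LinearMap.sub_apply, Module.End.one_apply, map_sub,
      LinearMap.zero_apply] at h1
    rw [Finset.sum_product, Finset.sum_pair (by norm_num)]
    simp only [Fintype.sum_bool, f, co, cond_true, cond_false, if_true, OfNat.ofNat_ne_one, if_false,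
      pow_one, pow_two, map_mul, Module.End.mul_apply]
    rw [← sub_eq_zero, ← h1]
    module
  refine hau (sub_eq_zero.mp (eq_zero_of_sum_eq h hN _ W' ?_ ?_ (U.sub_mem (haU u hu) hu) f ?_ he))
  · rintro ⟨i, t⟩ -
    cases t
    · exact h.translate _
    · exact (h.translate _).translate a
  · rintro ⟨i, t⟩ hi
    have hi' : i = 1 ∨ i = 2 := by simpa using hi
    obtain ⟨v, hv, hne⟩ := translates_pairwise h hp2 hb hbS i
      (Finset.mem_range.mpr (by omega)) 0 (by simp) (by omega)
    refine ⟨v, hv, ?_⟩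
    have h0 : U.map (σ (b ^ 0)) = U := by rw [pow_zero, map_one]; exact Submodule.map_id U
    rw [h0] at hne
    cases t
    · exact hne
    · show chi σ ((W i).map (σ a)) v ≠ _
      rw [hchi i v hv]; exact hne
  · rintro ⟨i, t⟩ -
    cases t
    · exact Submodule.smul_mem _ _ ⟨u, hu, rfl⟩
    · exact Submodule.smul_mem _ _ ⟨_, ⟨u, hu, rfl⟩, rfl⟩

/-- A copy of a constituent invariant under an element fixing its character. -/
theorem exists_copy [CharP k p] (h : IsCst σ N U) (hN : (Nat.card N : k) ≠ 0) (hT : Tw σ N U) {a : L}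
    (ha : a ∈ stabU σ N U) {n : ℕ} (hap : a ^ p ^ n = 1) :
    ∃ U', ∃ h' : IsCst σ N U', (∀ v ∈ N, chi σ U' v = chi σ U v) ∧ (∀ w ∈ U', σ a w ∈ U') ∧
      ∀ (_ : Tw σ N U'), h'.zsub = h.zsub := by
  obtain ⟨U', -, h', hchi, hinv⟩ := exists_fixed (p := p) h hN hT (le_top (a := U)) a
    (fun _ _ => trivial) hap (fun b hb => hNn.conj_mem b hb a) ha
  refine ⟨U', h', hchi, hinv, fun hT' => ?_⟩
  ext b
  rw [h'.mem_zsub, h.mem_zsub]
  refine and_congr_right fun hb => ?_
  rw [h'.scal_iff hN hT' hb, h.scal_iff hN hT hb, hchi b hb]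

/-- The elements of `N` fixed by `a` modulo the scalars. -/
noncomputable def fixq (h : IsCst σ N U) (hN : (Nat.card N : k) ≠ 0) (hT : Tw σ N U) {a : L}
    (ha : a ∈ stabU σ N U) : Subgroup N :=
  ((h.qact hN hT ⟨a, ha⟩).toMonoidHom.eqLocus (MonoidHom.id _)).comap
    (QuotientGroup.mk' (h.zsub.subgroupOf N))

theorem mem_fixq (h : IsCst σ N U) (hN : (Nat.card N : k) ≠ 0) (hT : Tw σ N U) {a : L}
    (ha : a ∈ stabU σ N U) {v : N} :
    v ∈ fixq h hN hT ha ↔ a * (v : L) * a⁻¹ * (v : L)⁻¹ ∈ h.zsub := by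
  obtain ⟨v, hv⟩ := v
  show h.qact hN hT ⟨a, ha⟩ (QuotientGroup.mk (⟨v, hv⟩ : N)) = QuotientGroup.mk (⟨v, hv⟩ : N) ↔ _
  rw [h.qact_mk hN hT ⟨a, ha⟩ v hv (hNn.conj_mem v hv a), QuotientGroup.eq_iff_div_mem,
    Subgroup.mem_subgroupOf, Subgroup.coe_div, div_eq_mul_inv]

set_option maxHeartbeats 800000 in
/-- A quadratic element centralises a subgroup of index at most four modulo the scalars. -/
theorem index_fixq_le [CharP k p] (h : IsCst σ N U) (hN : (Nat.card N : k) ≠ 0) (hT : Tw σ N U)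
    (hTall : ∀ U', IsCst σ N U' → Tw σ N U') {a : L} (ha : a ∈ stabU σ N U) (hap : a ^ p = 1)
    (hsq : (σ a - 1) * (σ a - 1) = 0) (hp2 : p ≠ 2) :
    (fixq h hN hT ha).index ≤ 4 ∧ (p ≠ 3 → fixq h hN hT ha = ⊤) := by
  classical
  obtain ⟨U', h', hchi, hinv, hz⟩ := exists_copy h hN hT ha (n := 1) (by rwa [pow_one])
  have hT' := hTall U' h'
  have hzsub := hz hT'
  have ha' : a ∈ stabU σ N U' := fun b hb => by
    rw [hchi _ (hNn.conj_mem b hb a), hchi b hb]; exact ha b hb
  have heq : fixq h hN hT ha = fixq h' hN hT' ha' := by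
    ext v
    rw [mem_fixq, mem_fixq, hzsub]
  rw [heq]
  clear! U
  haveI : Nontrivial U' := Submodule.nontrivial_iff_ne_bot.mpr h'.ne
  set A : Module.End k U' := (σ a).restrict hinv with hA
  have hai : ∀ w ∈ U', σ a⁻¹ w ∈ U' := inv_invariant (m := p) hap hp.out.pos hinv
  set B : Module.End k U' := (σ a⁻¹).restrict hai with hB
  have hAB : A * B = 1 := LinearMap.ext fun w => Subtype.ext (sigma_apply_inv a (w : V))
  have hT2 : (A - 1) * (A - 1) = 0 := LinearMap.ext fun w => Subtype.ext (LinearMap.congr_fun hsq w)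
  let cj : N → N := fun v => ⟨a * v * a⁻¹, hNn.conj_mem v v.2 a⟩
  have hrel : ∀ v : N, h'.rep (cj v) = A * h'.rep v * B := fun v => LinearMap.ext fun w => Subtype.ext (by
    show σ (a * v * a⁻¹) (w : V) = σ a (σ v (σ a⁻¹ w))
    rw [sigma_mul_apply, sigma_mul_apply])
  set Q := N ⧸ h'.zsub.subgroupOf N
  let mk : N → Q := fun v => QuotientGroup.mk v
  set f : MulAut Q := h'.qact hN hT' ⟨a, ha'⟩ with hf
  have hfmk : ∀ v : N, f (mk v) = mk (cj v) := fun v => h'.qact_mk hN hT' ⟨a, ha'⟩ v v.2 _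
  have hfp : ∀ y, (f ^ p) y = y := fun y => by
    rw [hf, ← map_pow, show (⟨a, ha'⟩ : stabU σ N U') ^ p = 1 from Subtype.ext hap, map_one,
      MulAut.one_apply]
  have htr : ∀ v w : N, LinearMap.trace k U' (h'.rep v * h'.rep w⁻¹) =
      if mk v = mk w then LinearMap.trace k U' (h'.rep v * h'.rep w⁻¹) else 0 := by
    intro v w
    split_ifs with he
    · rfl
    · rw [← map_mul, ← h'.chi_rep]
      refine h'.chi_eq_zero hT' (v * w⁻¹).2 fun hs => he ?_
      refine QuotientGroup.eq_iff_div_mem.mpr (Subgroup.mem_subgroupOf.mpr ?_)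
      rw [div_eq_mul_inv]
      exact ⟨(v * w⁻¹).2, hs⟩
  have htr1 : ∀ v : N, LinearMap.trace k U' (h'.rep v * h'.rep v⁻¹) = (finrank k U' : k) := fun v => by
    rw [← map_mul, mul_inv_cancel, map_one, LinearMap.trace_one]
  have hd : (finrank k U' : k) ≠ 0 := h'.finrank_ne_zero hN
  -- the orbits of moved classes are free
  have hfree : ∀ y : Q, f y ≠ y → ∀ i, 0 < i → i < p → (f ^ i) y ≠ y := by
    intro y hy i hi hip he
    have hi' : ¬ p ^ 1 ∣ i := by rw [pow_one]; exact fun hd => absurd (Nat.le_of_dvd hi hd) (by omega)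
    obtain ⟨t, ht⟩ := exists_mul_modEq (p := p) (n := 1) le_rfl hi'
    rw [Nat.sub_self, pow_zero, pow_one] at ht
    have hpow : ∀ t : ℕ, ((f ^ i) ^ t) y = y := by
      intro t
      induction t with
      | zero => rfl
      | succ t ih => rw [pow_succ', MulAut.mul_apply, ih, he]
    refine hy ?_
    have hf1 : f ^ p = 1 := MulEquiv.ext hfp
    have : f = (f ^ i) ^ t := by
      rw [← pow_mul]
      nth_rw 1 [← pow_one f]
      exact pow_eq_pow_iff_modEq.mpr (ht.symm.of_dvd (orderOf_dvd_of_pow_eq_one hf1))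
    rw [this]
    exact hpow t
  by_cases hp3 : p = 3
  swap
  · have htop : fixq h' hN hT' ha' = ⊤ := by
      rw [Subgroup.eq_top_iff']
      intro v
      by_contra hv
      have hy : f (mk v) ≠ mk v := hv
      have h3 := (quad_pow hAB hT2 (h'.rep v)).1
      rw [← hrel, ← hrel, ← hrel] at h3
      have h4 := congrArg (fun X => LinearMap.trace k U' (X * h'.rep v⁻¹)) h3
      simp only [sub_mul, add_mul, smul_mul_assoc, map_sub, map_add, map_nsmul, zero_mul, map_zero] at h4
      have hne : ∀ i, 0 < i → i < 4 → (f ^ i) (mk v) ≠ mk v := fun i hi hi4 =>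
        hfree _ hy i hi (by
          have := hp.out.two_le
          have : p ≠ 4 := fun e => by rw [e] at hp; exact absurd hp.out (by norm_num)
          omega)
      have e1 : mk (cj v) = (f ^ 1) (mk v) := by rw [pow_one, hfmk]
      have e2 : mk (cj (cj v)) = (f ^ 2) (mk v) := by rw [pow_two, MulAut.mul_apply, hfmk, hfmk]
      have e3 : mk (cj (cj (cj v))) = (f ^ 3) (mk v) := by
        rw [show (3 : ℕ) = 1 + 2 from rfl, pow_add, MulAut.mul_apply, ← e2, pow_one, hfmk]
      rw [htr (cj (cj (cj v))), htr (cj (cj v)), htr (cj v), if_neg (by rw [e3]; exact hne 3 (by norm_num) (by norm_num)),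
        if_neg (by rw [e2]; exact hne 2 (by norm_num) (by norm_num)), if_neg (by rw [e1]; exact hne 1 one_pos (by norm_num)),
        smul_zero, sub_zero, add_zero, zero_sub, neg_eq_zero, htr1] at h4
      exact hd h4
    exact ⟨by rw [htop, Subgroup.index_top]; norm_num, fun _ => htop⟩
  subst hp3
  refine ⟨?_, fun e => absurd rfl e⟩
  haveI : CharP (Module.End k U') 3 := charP_end 3 U'
  set C : Subgroup Q := f.toMonoidHom.eqLocus (MonoidHom.id Q) with hC
  show (C.comap (QuotientGroup.mk' (h'.zsub.subgroupOf N))).index ≤ 4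
  rw [Subgroup.index_comap_of_surjective _ (QuotientGroup.mk'_surjective _)]
  haveI : Finite Q := inferInstance
  letI := Fintype.ofFinite Q
  -- one sum for each moved orbit
  let orb : Q → Finset Q := fun y => {y, f y, f (f y)}
  set moved : Finset Q := Finset.univ.filter fun y => f y ≠ y with hmoved
  set O : Finset (Finset Q) := moved.image orb with hO
  have hf3 : ∀ y, f (f (f y)) = y := fun y => by
    have := hfp y
    rwa [show f ^ 3 = f * (f * f) by rw [← pow_two, ← pow_succ']] at this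
  have hOcard : moved.card ≤ 3 * O.card := by
    refine Finset.card_le_mul_card_image (f := orb) moved 3 fun o ho => ?_
    obtain ⟨y, -, rfl⟩ := Finset.mem_image.mp ho
    refine le_trans (Finset.card_le_card (fun z hz => ?_)) (Finset.card_le_three (a := y) (b := f y) (c := f (f y)))
    rw [Finset.mem_filter] at hz
    have : z ∈ orb z := by simp [orb]
    rwa [hz.2] at this
  have hrepr : ∀ o : O, ∃ v : N, f (mk v) ≠ mk v ∧ orb (mk v) = o.1 := by
    rintro ⟨o, ho⟩
    obtain ⟨y, hy, rfl⟩ := Finset.mem_image.mp ho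
    obtain ⟨v, rfl⟩ := QuotientGroup.mk'_surjective (h'.zsub.subgroupOf N) y
    exact ⟨v, (Finset.mem_filter.mp hy).2, rfl⟩
  choose rp hrp hrpo using hrepr
  let X : O → Module.End k U' := fun o => (A - 1) * h'.rep (rp o) * (A - 1)
  have hX : ∀ v : N, (A - 1) * h'.rep v * (A - 1) =
      h'.rep (cj (cj v)) + h'.rep (cj v) + h'.rep v := by
    intro v
    have h2 := (quad_pow hAB hT2 (h'.rep v)).2
    rw [← hrel, ← hrel] at h2
    have h30 : ∀ Y : Module.End k U', 3 • Y = 0 := fun Y => by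
      rw [← Nat.cast_smul_eq_nsmul k, show ((3 : ℕ) : k) = 0 from CharP.cast_eq_zero k 3, zero_smul]
    have e : (A - 1) * h'.rep v * (A - 1) =
        -2 • ((A - 1) * h'.rep v * (A - 1)) + 3 • ((A - 1) * h'.rep v * (A - 1)) := by module
    rw [e, h30, add_zero, ← h2]
    have e' : h'.rep (cj (cj v)) + h'.rep (cj v) + h'.rep v =
        h'.rep (cj (cj v)) - 2 • h'.rep (cj v) + h'.rep v + 3 • h'.rep (cj v) := by module
    rw [e', h30, add_zero]
  have hli : LinearIndependent k X := by
    rw [Fintype.linearIndependent_iff]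
    intro c hc o
    have h4 := congrArg (fun Z => LinearMap.trace k U' (Z * h'.rep (rp o)⁻¹)) hc
    simp only [Finset.sum_mul, zero_mul, map_zero, map_sum, smul_mul_assoc, map_smul, X, hX,
      add_mul, map_add] at h4
    have hne : ∀ o' : O, o' ≠ o → ∀ z ∈ orb (mk (rp o')), z ≠ mk (rp o) := by
      intro o' hne z hz he
      refine hne (Subtype.ext ?_)
      rw [← hrpo o', ← hrpo o, ← he]
      simp only [orb, Finset.mem_insert, Finset.mem_singleton] at hz
      rcases hz with rfl | rfl | rfl <;> ext t <;>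
        simp only [orb, hf3, Finset.mem_insert, Finset.mem_singleton] <;> tauto
    rw [Finset.sum_eq_single o] at h4
    · rw [htr (cj (cj (rp o))), htr (cj (rp o)), if_neg, if_neg, zero_add, zero_add, htr1,
        smul_eq_mul] at h4
      · exact (mul_eq_zero.mp h4).resolve_right hd
      · rw [← hfmk]; exact hrp o
      · rw [← hfmk, ← hfmk]
        exact fun e => hrp o (by
          have := congrArg f e
          rw [hf3] at this
          exact this.symm)
    · intro o' _ hno
      rw [htr (cj (cj (rp o'))), htr (cj (rp o')), htr (rp o'), if_neg, if_neg, if_neg]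
      · simp
      · exact hne o' hno _ (by simp [orb])
      · rw [← hfmk]; exact hne o' hno _ (by simp [orb])
      · rw [← hfmk, ← hfmk]; exact hne o' hno _ (by simp [orb])
    · exact fun hn => absurd (Finset.mem_univ o) hn
  set t := finrank k (LinearMap.range (A - 1)) with ht
  have htd : 2 * t ≤ finrank k U' := by
    have h1 := LinearMap.finrank_range_add_finrank_ker (A - 1)
    have h2 : LinearMap.range (A - 1) ≤ LinearMap.ker (A - 1) := by
      rintro _ ⟨w, rfl⟩
      exact LinearMap.congr_fun hT2 w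
    have := Submodule.finrank_mono h2
    omega
  have hOle : O.card ≤ t * t := by
    set K := LinearMap.ker (A - 1)
    set I := LinearMap.range (A - 1)
    let Ψ : ((U' ⧸ K) →ₗ[k] I) →ₗ[k] Module.End k U' :=
      { toFun := fun g => I.subtype ∘ₗ g ∘ₗ K.mkQ
        map_add' := fun g g' => by rw [LinearMap.add_comp, LinearMap.comp_add]
        map_smul' := fun c g => by rw [LinearMap.smul_comp, LinearMap.comp_smul]; rfl }
    have hle : Submodule.span k (Set.range X) ≤ LinearMap.range Ψ := Submodule.span_le.mpr (by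
      rintro _ ⟨o, rfl⟩
      exact ⟨(A - 1).rangeRestrict ∘ₗ h'.rep (rp o) ∘ₗ K.liftQ (A - 1) le_rfl,
        LinearMap.ext fun w => rfl⟩)
    have h1 := (Submodule.finrank_mono hle).trans (LinearMap.finrank_range_le Ψ)
    rw [finrank_span_eq_card hli, Fintype.card_coe, Module.finrank_linearMap] at h1
    have h2 : finrank k (U' ⧸ K) = t := (LinearMap.quotKerEquivRange (A - 1)).finrank_eq
    rwa [h2] at h1
  have hsplit : moved.card + Nat.card C = Nat.card Q := by
    rw [Nat.card_eq_fintype_card (α := Q), ← Finset.card_univ,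
      ← Finset.card_filter_add_card_filter_not (s := (Finset.univ : Finset Q)) (fun y => f y ≠ y)]
    congr 1
    rw [Nat.card_eq_fintype_card, Fintype.card_subtype]
    refine congrArg Finset.card (Finset.filter_congr fun y _ => ?_)
    rw [not_not]
    exact Iff.rfl
  have hQ : Nat.card Q = finrank k U' ^ 2 := h'.card_quotient hN hT'
  have hidx : C.index * Nat.card C = Nat.card Q := C.index_mul_card
  have hCpos : 0 < Nat.card C := Nat.card_pos
  by_contra hlt
  push Not at hlt
  have h5 : 5 * Nat.card C ≤ Nat.card Q := hidx ▸ Nat.mul_le_mul_right _ hlt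
  have h6 : 4 * (t * t) ≤ Nat.card Q := by
    rw [hQ, sq]
    calc 4 * (t * t) = (2 * t) * (2 * t) := by ring
      _ ≤ _ := Nat.mul_le_mul htd htd
  omega

end general

/-- Three elements moved cyclically and the identity. -/
theorem four_le {Q : Type*} [Group Q] [Finite Q] (α : MulAut Q) {I : Subgroup Q}
    (hI : ∀ y ∈ I, α y ∈ I) (hα3 : ∀ y, α (α (α y)) = y) (hfpf : ∀ y ∈ I, α y = y → y = 1)
    (hne : I ≠ ⊥) : 4 ≤ Nat.card I := by
  classical
  letI := Fintype.ofFinite I
  obtain ⟨z, hz, hz1⟩ := I.bot_or_exists_ne_one.resolve_left hne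
  have h01 : α z ≠ z := fun e => hz1 (hfpf z hz e)
  have h02 : α (α z) ≠ z := fun e => h01 (by
    have := congrArg α e
    rw [hα3] at this
    exact this.symm)
  have h12 : α (α z) ≠ α z := fun e => h01 (α.injective e)
  have n1 : α z ≠ 1 := fun e => hz1 (α.injective (by rw [e, map_one]))
  have n2 : α (α z) ≠ 1 := fun e => n1 (α.injective (by rw [e, map_one]))
  have hcard : ({1, ⟨z, hz⟩, ⟨α z, hI z hz⟩, ⟨α (α z), hI _ (hI z hz)⟩} : Finset I).card = 4 :=
    Finset.card_eq_four.mpr ⟨_, _, _, _,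
      fun e => hz1 (congrArg Subtype.val e).symm, fun e => n1 (congrArg Subtype.val e).symm,
      fun e => n2 (congrArg Subtype.val e).symm, fun e => h01 (congrArg Subtype.val e).symm,
      fun e => h02 (congrArg Subtype.val e).symm, fun e => h12 (congrArg Subtype.val e).symm, rfl⟩
  rw [← hcard, Nat.card_eq_fintype_card]
  exact Finset.card_le_univ _

/-- A `3`-group of automorphisms with commutators moving a plane only over the field with two
elements. -/
theorem commutator_trivial {Q : Type*} [CommGroup Q] [Finite Q] (hQcop : ∀ y : Q, y ^ 3 = 1 → y = 1)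
    {B : Type*} [Group B] [Finite B] (hB : IsPGroup 3 B) (g : B →* MulAut Q)
    (hA : ∀ a ∈ ⁅(⊤ : Subgroup B), (⊤ : Subgroup B)⁆, ∀ c ∈ ⁅(⊤ : Subgroup B), (⊤ : Subgroup B)⁆,
      a * c = c * a)
    (hsmall : ∀ c ∈ ⁅(⊤ : Subgroup B), (⊤ : Subgroup B)⁆,
      Nat.card ((g c).toMonoidHom * (MonoidHom.id Q)⁻¹).range ≤ 4)
    {a : B} (ha : a ∈ ⁅(⊤ : Subgroup B), (⊤ : Subgroup B)⁆) (ha3 : a ^ 3 = 1) : g a = 1 := by
  classical
  by_contra hα1
  let δ : MulAut Q → (Q →* Q) := fun φ => φ.toMonoidHom * (MonoidHom.id Q)⁻¹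
  have hδ : ∀ (φ : MulAut Q) (y : Q), δ φ y = φ y * y⁻¹ := fun _ _ => rfl
  set α := g a with hα
  have hα3 : ∀ y, α (α (α y)) = y := fun y => by
    rw [← MulAut.mul_apply, ← MulAut.mul_apply, hα, ← map_mul, ← map_mul,
      show a * a * a = 1 by rw [← pow_two, ← pow_succ, ha3], map_one, MulAut.one_apply]
  set R := (δ α).range with hR
  have hfpf : ∀ y ∈ R, α y = y → y = 1 := by
    rintro _ ⟨y, rfl⟩ he
    refine hQcop _ ?_
    set d := δ α y with hd
    have e1 : α y = d * y := by rw [hd, hδ, inv_mul_cancel_right]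
    have h1 := hα3 y
    rw [e1, map_mul, he, e1, map_mul, map_mul, he, e1, ← mul_assoc, ← mul_assoc] at h1
    rw [pow_succ, pow_two]
    exact mul_eq_right.mp h1
  have hαR : ∀ y ∈ R, α y ∈ R := by
    rintro _ ⟨y, rfl⟩
    exact ⟨α y, by simp only [hδ, map_mul, map_inv]⟩
  have hRne : R ≠ ⊥ := fun e => hα1 (MulEquiv.ext fun y => by
    have : δ α y ∈ R := ⟨y, rfl⟩
    rw [e, Subgroup.mem_bot, hδ, mul_inv_eq_one] at this
    exact this)
  have hR4 : Nat.card R = 4 := le_antisymm (hsmall a ha) (four_le α hαR hα3 hfpf hRne)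
  -- the conjugates have the same range
  have hBR : ∀ b : B, ∀ y ∈ R, g b y ∈ R := by
    intro b
    set β := g b with hβ
    have hcA : b * a * b⁻¹ ∈ ⁅(⊤ : Subgroup B), (⊤ : Subgroup B)⁆ :=
      (Subgroup.commutator_normal ⊤ ⊤).conj_mem a ha b
    set α' := g (b * a * b⁻¹) with hα'
    have hαβ : ∀ y, α' (β y) = β (α y) := fun y => by
      rw [← MulAut.mul_apply, ← MulAut.mul_apply, hα', hβ, hα, ← map_mul, ← map_mul, inv_mul_cancel_right]
    have hcomm : ∀ y, α' (α y) = α (α' y) := fun y => by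
      rw [← MulAut.mul_apply, ← MulAut.mul_apply, hα', hα, ← map_mul, ← map_mul, hA _ hcA _ ha]
    set R' := (δ α').range with hR'
    have hmap : ∀ y ∈ R, β y ∈ R' := by
      rintro _ ⟨y, rfl⟩
      exact ⟨β y, by simp only [hδ, map_mul, map_inv, hαβ]⟩
    suffices heq : R' ≤ R from fun y hy => heq (hmap y hy)
    have hαR' : ∀ y ∈ R', α y ∈ R' := by
      rintro _ ⟨y, rfl⟩
      exact ⟨α y, by simp only [hδ, map_mul, map_inv, hcomm]⟩
    by_cases hI : R ⊓ R' = ⊥
    swap
    · have hI4 : 4 ≤ Nat.card (R ⊓ R' : Subgroup Q) :=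
        four_le α (fun y hy => ⟨hαR y hy.1, hαR' y hy.2⟩) hα3 (fun y hy => hfpf y hy.1) hI
      have h4' : Nat.card R' ≤ 4 := hsmall _ hcA
      have e2 : R ⊓ R' = R' := Subgroup.eq_of_le_of_card_ge inf_le_right (by omega)
      exact inf_eq_right.mp e2
    exfalso
    -- the product would move too much
    have hpr := hsmall _ (mul_mem ha hcA)
    rw [map_mul] at hpr
    have htriv : ∀ y ∈ R, α' y = y := by
      intro y hy
      have hαα' : ∀ z ∈ R, α' z ∈ R := by
        rintro _ ⟨z, rfl⟩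
        exact ⟨α' z, by simp only [hδ, map_mul, map_inv, hcomm]⟩
      have hmem : α' y * y⁻¹ ∈ R ⊓ R' := ⟨R.mul_mem (hαα' y hy) (R.inv_mem hy), y, hδ α' y⟩
      rw [hI, Subgroup.mem_bot, mul_inv_eq_one] at hmem
      exact hmem
    have htriv' : ∀ y ∈ R', α y = y := by
      intro y hy
      have hmem : α y * y⁻¹ ∈ R ⊓ R' := ⟨⟨y, hδ α y⟩, R'.mul_mem (hαR' y hy) (R'.inv_mem hy)⟩
      rw [hI, Subgroup.mem_bot, mul_inv_eq_one] at hmem
      exact hmem
    have hinjR : ∀ y ∈ R, δ (α * α') y = 1 → y = 1 := by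
      intro y hy he
      rw [hδ, MulAut.mul_apply, htriv y hy, mul_inv_eq_one] at he
      exact hfpf y hy he
    have hR2 : ∀ y ∈ R, δ (α * α') y ∈ R := fun y hy => by
      rw [hδ, MulAut.mul_apply, htriv y hy]
      exact R.mul_mem (hαR y hy) (R.inv_mem hy)
    obtain ⟨w', hw', hw'1⟩ : ∃ w ∈ R', α' w ≠ w := by
      by_contra hno
      push Not at hno
      obtain ⟨y, hy, hy1⟩ := R.bot_or_exists_ne_one.resolve_left hRne
      refine hy1 (hfpf y hy (β.injective ?_))
      rw [← hαβ]
      exact hno _ (hmap y hy)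
    let Φ : R ⊕ Unit → (δ (α * α')).range := Sum.elim
      (fun y => ⟨δ (α * α') y, y, rfl⟩) (fun _ => ⟨δ (α * α') w', w', rfl⟩)
    have hΦ : Function.Injective Φ := by
      have hw : δ (α * α') w' ∉ R := by
        intro hmem
        rw [hδ, MulAut.mul_apply, ← hcomm] at hmem
        have h1 : α' (α w') * w'⁻¹ ∈ R ⊓ R' := ⟨hmem, by
          rw [htriv' w' hw']; exact ⟨w', hδ α' w'⟩⟩
        rw [hI, Subgroup.mem_bot, htriv' w' hw', mul_inv_eq_one] at h1
        exact hw'1 h1
      rintro (y | ⟨⟩) (y' | ⟨⟩) e₀ <;> have e := congrArg Subtype.val e₀ <;>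
        simp only [Φ, Sum.elim_inl, Sum.elim_inr] at e
      · have h1 : δ (α * α') ((y : Q) * (y' : Q)⁻¹) = 1 := by rw [map_mul, map_inv, e, mul_inv_cancel]
        exact congrArg Sum.inl (Subtype.ext (mul_inv_eq_one.mp
          (hinjR _ (R.mul_mem y.2 (R.inv_mem y'.2)) h1)))
      · exact absurd (e ▸ hR2 y y.2) hw
      · exact absurd (e ▸ hR2 y' y'.2) hw
      · rfl
    have h5 := (Nat.card_le_card_of_injective Φ hΦ).trans hpr
    rw [Nat.card_sum, hR4, Nat.card_unique] at h5
    omega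
  -- the action on `R` is abelian
  have hinv : ∀ b : B, ∀ y, g b⁻¹ (g b y) = y := fun b y => by
    rw [← MulAut.mul_apply, ← map_mul, inv_mul_cancel, map_one, MulAut.one_apply]
  let ψ : B →* Equiv.Perm R :=
    MonoidHom.mk' (fun b =>
      { toFun := fun y => ⟨g b y, hBR b y y.2⟩
        invFun := fun y => ⟨g b⁻¹ y, hBR b⁻¹ y y.2⟩
        left_inv := fun y => Subtype.ext (hinv b y)
        right_inv := fun y => Subtype.ext (by simpa using hinv b⁻¹ y) })
      fun b b' => Equiv.ext fun y => Subtype.ext (by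
        show g (b * b') y = g b (g b' y)
        rw [map_mul, MulAut.mul_apply])
  have hIp : IsPGroup 3 ψ.range := hB.of_surjective _ ψ.rangeRestrict_surjective
  obtain ⟨j, hj⟩ := IsPGroup.iff_card.mp hIp
  have hdvd : 3 ^ j ∣ (Nat.card R).factorial := by
    rw [← hj, ← Nat.card_perm]
    exact Subgroup.card_subgroup_dvd_card _
  rw [hR4] at hdvd
  have hj1 : j ≤ 1 := by
    by_contra hlt
    have h9 : 3 ^ 2 ∣ (4 : ℕ).factorial := (pow_dvd_pow 3 (by omega : 2 ≤ j)).trans hdvd
    norm_num [Nat.factorial] at h9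
  have hψc : ∀ x y : ψ.range, x * y = y * x := by
    interval_cases j
    · haveI : Subsingleton ψ.range := (Nat.card_eq_one_iff_unique.mp (by simpa using hj)).1
      exact fun x y => Subsingleton.elim _ _
    · haveI : IsCyclic ψ.range := isCyclic_of_prime_card (p := 3) (by simpa using hj)
      exact fun x y => IsCyclic.commutative.is_comm.comm x y
  have hle : ⁅(⊤ : Subgroup B), (⊤ : Subgroup B)⁆ ≤ ψ.ker := Subgroup.commutator_le.mpr fun x _ y _ => by
    rw [MonoidHom.mem_ker, map_commutatorElement, commutatorElement_eq_one_iff_mul_comm]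
    exact congrArg Subtype.val (hψc ⟨_, x, rfl⟩ ⟨_, y, rfl⟩)
  obtain ⟨y, hy, hy1⟩ := R.bot_or_exists_ne_one.resolve_left hRne
  exact hy1 (hfpf y hy (congrArg (fun e : Equiv.Perm R => ((e ⟨y, hy⟩ : R) : Q))
    (MonoidHom.mem_ker.mp (hle ha))))

/-- In odd characteristic no abelian commutator subgroup is quadratic in this way. -/
theorem eq_one_of_quadratic {k : Type*} [Field k] [IsAlgClosed k] {p q : ℕ} [hp : Fact p.Prime]
    [hqp : Fact q.Prime] [CharP k p] (hp2 : p ≠ 2) (hqp' : q ≠ p) {V : Type*} [AddCommGroup V]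
    [Module k V] [FiniteDimensional k V] {L : Type*} [Group L] [Finite L] (σ : L →* Module.End k V)
    (hinj : Function.Injective σ) (B : Subgroup L) (hB : IsPGroup p B)
    (hA : ∀ a ∈ ⁅B, B⁆, ∀ a' ∈ ⁅B, B⁆, a * a' = a' * a)
    (hquad : ∀ a ∈ ⁅B, B⁆, (σ a - 1) * (σ a - 1) = 0)
    (hcub : ∀ a ∈ ⁅B, B⁆, ∀ b ∈ B, (σ a - 1) * ((σ b - 1) * (σ b - 1)) = 0) :
    ∀ a ∈ ⁅B, B⁆, ∀ v ∈ Cfsg.pCore q L, a * v = v * a := by
  classical
  obtain ⟨K, hKn, hKp, hcent, -, hcr⟩ := exists_crit_sub (H := L) q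
  haveI := hKn
  obtain ⟨m, hm⟩ := hKp.exists_card_eq
  have hN : (Nat.card K : k) ≠ 0 := by
    rw [hm]
    exact nat_ne_zero_of_coprime (p := p) (((Nat.coprime_primes hqp.out hp.out).mpr hqp').pow_left _)
  have hT : ∀ U, IsCst σ K U → Tw σ K U := fun U h => h.tw_of_central hcent
  have hAB : ⁅B, B⁆ ≤ B := Subgroup.commutator_le_self B
  have hpow : ∀ b ∈ B, ∃ n, b ^ p ^ n = 1 := fun b hb => by
    obtain ⟨n, hn⟩ := hB ⟨b, hb⟩
    exact ⟨n, congrArg Subtype.val hn⟩
  have hap : ∀ a ∈ ⁅B, B⁆, a ^ p = 1 := by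
    intro a ha
    by_cases hnt : Nontrivial V
    swap
    · rw [not_nontrivial_iff_subsingleton] at hnt
      exact hinj (LinearMap.ext fun v => Subsingleton.elim _ _)
    haveI : CharP (Module.End k V) p := charP_end p V
    refine hinj ?_
    rw [map_pow, map_one, ← sub_eq_zero]
    have h1 := sub_one_pow_prime_pow (p := p) (σ a) 1
    rw [pow_one] at h1
    rw [← h1, show p = 2 + (p - 2) by have := hp.out.two_le; omega, pow_add, sq, hquad a ha, zero_mul]
  have hfix : ∀ a ∈ ⁅B, B⁆, a ∈ fixAll σ K := fun a ha =>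
    mem_fixAll_of_sq hN hp2 (n := 1) (by rw [pow_one]; exact hap a ha) (hquad a ha)
  intro a ha
  have hcop : (orderOf a).Coprime q := Nat.Coprime.coprime_dvd_left
    (orderOf_dvd_of_pow_eq_one (hap a ha)) ((Nat.coprime_primes hp.out hqp.out).mpr (Ne.symm hqp'))
  refine hcr a hcop (centralizes_of_qker hinj hN hT (by rw [hm]; exact hcop.pow_right _) fun U h => ?_)
  by_contra hnot
  have hTU := hT U h
  have haS : a ∈ stabU σ K U := mem_fixAll.mp (hfix a ha) U h
  -- `B` stabilises the class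
  obtain ⟨U', h', hchi, hinv, hz⟩ :=
    exists_copy (p := p) h hN hTU haS (n := 1) (by rw [pow_one]; exact hap a ha)
  have hzsub := hz (hT U' h')
  obtain ⟨u, hu, hau⟩ : ∃ u ∈ U', σ a u ≠ u := by
    by_contra hno
    push Not at hno
    refine hnot ((h.mem_qker hN hTU).mpr ⟨haS, fun v hv => hzsub ▸
      ⟨K.mul_mem (hKn.conj_mem v hv a) (K.inv_mem hv), 1, fun w hw => ?_⟩⟩)
    have hai : ∀ w ∈ U', σ a⁻¹ w ∈ U' := inv_invariant (m := p) (hap a ha) hp.out.pos hinv
    have hw' := h'.inv _ (K.inv_mem hv) w hw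
    rw [one_smul, sigma_mul_apply, sigma_mul_apply, sigma_mul_apply,
      hno _ (h'.inv v hv _ (hai _ hw'))]
    conv_lhs => arg 2; rw [← hno _ (hai _ hw'), sigma_apply_inv]
    rw [sigma_apply_inv]
  have hBS : ∀ b ∈ B, b ∈ stabU σ K U := by
    intro b hb
    obtain ⟨n, hn⟩ := hpow b hb
    intro v hv
    rw [← hchi _ (hKn.conj_mem v hv b), ← hchi v hv]
    exact mem_stab_of_cubic h' hN hp2 (hfix a ha) hinv hu hau hn (hcub a ha b hb) v hv
  -- the action on the quotient
  set Q := K ⧸ h.zsub.subgroupOf K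
  letI : CommGroup Q := { (inferInstance : Group Q) with mul_comm := h.mul_comm_quot hTU }
  let g : B →* MulAut Q := (h.qact hN hTU).comp (Subgroup.inclusion hBS)
  let δ : MulAut Q → (Q →* Q) := fun φ => φ.toMonoidHom * (MonoidHom.id Q)⁻¹
  have hδ : ∀ (φ : MulAut Q) (y : Q), δ φ y = φ y * y⁻¹ := fun _ _ => rfl
  have hsmall : ∀ c (hc : c ∈ ⁅B, B⁆), Nat.card (δ (g ⟨c, hAB hc⟩)).range ≤ 4 ∧
      (p ≠ 3 → g ⟨c, hAB hc⟩ = 1) := by
    intro c hc
    obtain ⟨h1, h2⟩ := index_fixq_le h hN hTU hT (hBS c (hAB hc)) (hap c hc) (hquad c hc) hp2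
    have hker : fixq h hN hTU (hBS c (hAB hc)) =
        (δ (g ⟨c, hAB hc⟩)).ker.comap (QuotientGroup.mk' (h.zsub.subgroupOf K)) := by
      ext v
      rw [Subgroup.mem_comap, MonoidHom.mem_ker, hδ, mul_inv_eq_one]
      exact Iff.rfl
    constructor
    · rw [← Nat.card_congr (QuotientGroup.quotientKerEquivRange (δ (g ⟨c, hAB hc⟩))).toEquiv,
        ← Subgroup.index_eq_card]
      rwa [hker, Subgroup.index_comap_of_surjective _ (QuotientGroup.mk'_surjective _)] at h1
    · intro hp3
      refine MulEquiv.ext fun y => ?_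
      obtain ⟨v, rfl⟩ := QuotientGroup.mk'_surjective (h.zsub.subgroupOf K) y
      have hmem : v ∈ fixq h hN hTU (hBS c (hAB hc)) := h2 hp3 ▸ Subgroup.mem_top v
      exact hmem
  have hα1 : g ⟨a, hAB ha⟩ ≠ 1 := fun e => hnot ⟨⟨a, haS⟩, e, rfl⟩
  have hp3 : p = 3 := by
    by_contra hne
    exact hα1 ((hsmall a ha).2 hne)
  subst hp3
  have hQcop : ∀ y : Q, y ^ 3 = 1 → y = 1 := fun y hy => by
    obtain ⟨j, hj⟩ := hKp.to_quotient (h.zsub.subgroupOf K) y
    exact orderOf_eq_one_iff.mp (Nat.eq_one_of_dvd_coprimes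
      (((Nat.coprime_primes Nat.prime_three hqp.out).mpr (Ne.symm hqp')).pow_right j)
      (orderOf_dvd_of_pow_eq_one hy) (orderOf_dvd_of_pow_eq_one hj))
  have hmap : ⁅(⊤ : Subgroup B), (⊤ : Subgroup B)⁆.map B.subtype = ⁅B, B⁆ := by
    rw [Subgroup.map_commutator, ← MonoidHom.range_eq_map, Subgroup.range_subtype]
  have hmem : ∀ {c : B}, c ∈ ⁅(⊤ : Subgroup B), (⊤ : Subgroup B)⁆ → (c : L) ∈ ⁅B, B⁆ :=
    fun hc => hmap ▸ Subgroup.mem_map_of_mem B.subtype hc
  exact hα1 (commutator_trivial hQcop hB g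
    (fun c hc c' hc' => Subtype.ext (hA _ (hmem hc) _ (hmem hc')))
    (fun c hc => (hsmall c (hmem hc)).1)
    (by rw [← Subgroup.mem_map_iff_mem B.subtype_injective, hmap]; exact ha)
    (Subtype.ext (hap a ha)))

variable {G : Type*} [Group G] [Finite G] {p : ℕ} [hp : Fact p.Prime]

set_option maxHeartbeats 800000 in
/-- The last derived subgroup of a Sylow subgroup lies in the `p`-core. -/
theorem derived_le_pCore (hsol : Cfsg.IsPSolvable p G) (hO : Cfsg.pPrimeCore p G = ⊥) (hp2 : p ≠ 2)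
    (P : Sylow p G) (n : ℕ) (hn : derivedSeries P (n + 1) = ⊥) :
    (derivedSeries P n).map (P : Subgroup G).subtype ≤ Cfsg.pCore p G := by
  classical
  haveI hOn := Fitting.pCore_normal (G := G) p
  have hOP : Cfsg.pCore p G ≤ P := pCore_le_sylow_of P
  rcases Nat.eq_zero_or_pos n with rfl | hn0
  · rintro _ ⟨⟨x, hx⟩, -, rfl⟩
    refine PSolvable.centralizer_pCore_le hsol hO ?_
    rw [Subgroup.mem_centralizer_iff]
    intro v hv
    rw [derivedSeries_one, commutator_def, Subgroup.commutator_eq_bot_iff_le_centralizer] at hn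
    exact congrArg Subtype.val (Subgroup.mem_centralizer_iff.mp (hn (Subgroup.mem_top ⟨x, hx⟩))
      ⟨v, hOP hv⟩ (Subgroup.mem_top _))
  obtain ⟨m, rfl⟩ : ∃ m, n = m + 1 := ⟨n - 1, by omega⟩
  set B := (derivedSeries P m).map (P : Subgroup G).subtype with hB
  set A := ⁅B, B⁆ with hA
  have hAd : (derivedSeries P (m + 1)).map (P : Subgroup G).subtype = A := by
    rw [derivedSeries_succ, Subgroup.map_commutator, hA]
  have hAab : ∀ a ∈ A, ∀ a' ∈ A, a * a' = a' * a := by
    have h1 : ⁅A, A⁆ = ⊥ := by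
      rw [← hAd, ← Subgroup.map_commutator, ← derivedSeries_succ, hn, Subgroup.map_bot]
    exact fun a ha a' ha' => commutatorElement_eq_one_iff_mul_comm.mp
      (Subgroup.mem_bot.mp (h1 ▸ Subgroup.commutator_mem_commutator ha ha'))
  rw [hAd]
  have hBP : B ≤ P := Subgroup.map_subtype_le _
  have hPB : ∀ v ∈ (P : Subgroup G), ∀ b ∈ B, v * b * v⁻¹ ∈ B := by
    rintro v hv _ ⟨b, hb, rfl⟩
    exact ⟨_, (derivedSeries_normal P m).conj_mem b hb ⟨v, hv⟩, rfl⟩
  have hPA : ∀ v ∈ (P : Subgroup G), ∀ b ∈ A, v * b * v⁻¹ ∈ A := by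
    rintro v hv b hb
    rw [← hAd] at hb ⊢
    obtain ⟨b, hb, rfl⟩ := hb
    exact ⟨_, (derivedSeries_normal P (m + 1)).conj_mem b hb ⟨v, hv⟩, rfl⟩
  obtain ⟨φ, hφ, φmk, hcomm, hexp⟩ := exists_action (p := p) hsol hO
  set O := Cfsg.pCore p G with hOdef
  letI : CommGroup (O ⧸ frattini O) :=
    { (inferInstance : Group (O ⧸ frattini O)) with mul_comm := hcomm }
  letI : Module (ZMod p) (Additive (O ⧸ frattini O)) :=
    AddCommGroup.zmodModule (n := p) (G := Additive (O ⧸ frattini O)) fun v =>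
      Additive.toMul.injective (hexp (Additive.toMul v))
  haveI : Finite (Additive (O ⧸ frattini O)) := inferInstanceAs (Finite (O ⧸ frattini O))
  haveI : FiniteDimensional (ZMod p) (Additive (O ⧸ frattini O)) := Module.Finite.of_finite
  let ρ : G →* Module.End (ZMod p) (Additive (O ⧸ frattini O)) :=
    (endOfAut φ).comp (QuotientGroup.mk' O)
  have hstep : ∀ (g : G) (v : O),
      (ρ g - 1) (Additive.ofMul (QuotientGroup.mk v)) =
        Additive.ofMul (QuotientGroup.mk (MulAut.conjNormal g v * v⁻¹)) := by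
    intro g v
    rw [LinearMap.sub_apply, Module.End.one_apply]
    show Additive.ofMul (φ (QuotientGroup.mk g) (QuotientGroup.mk v)) - _ = _
    rw [φmk, QuotientGroup.mk_mul, QuotientGroup.mk_inv, ofMul_mul, ofMul_inv, sub_eq_add_neg]
  have hkill : ∀ (g : G) (v : O), g * (v : G) = (v : G) * g →
      (ρ g - 1) (Additive.ofMul (QuotientGroup.mk v)) = 0 := by
    intro g v hgv
    rw [hstep, show MulAut.conjNormal g v * v⁻¹ = 1 from Subtype.ext (by
      rw [Subgroup.coe_mul, MulAut.conjNormal_apply, hgv, Subgroup.coe_inv, mul_inv_cancel_right,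
        mul_inv_cancel]; rfl), QuotientGroup.mk_one]
    rfl
  have hquad : ∀ a ∈ A, (ρ a - 1) * (ρ a - 1) = 0 := by
    intro a ha
    refine LinearMap.ext fun w => ?_
    obtain ⟨v, hv⟩ := QuotientGroup.mk'_surjective (frattini O) (Additive.toMul w)
    rw [Module.End.mul_apply, show w = Additive.ofMul (QuotientGroup.mk v) from hv.symm, hstep,
      LinearMap.zero_apply]
    refine hkill a _ (hAab a ha _ ?_)
    rw [Subgroup.coe_mul, MulAut.conjNormal_apply, Subgroup.coe_inv, mul_assoc, mul_assoc]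
    refine mul_mem ha ?_
    rw [← mul_assoc]
    exact hPA v (hOP v.2) _ (inv_mem ha)
  have hcub : ∀ a ∈ A, ∀ b ∈ B, (ρ a - 1) * ((ρ b - 1) * (ρ b - 1)) = 0 := by
    intro a ha b hb
    refine LinearMap.ext fun w => ?_
    obtain ⟨v, hv⟩ := QuotientGroup.mk'_surjective (frattini O) (Additive.toMul w)
    rw [Module.End.mul_apply, Module.End.mul_apply,
      show w = Additive.ofMul (QuotientGroup.mk v) from hv.symm, hstep, hstep, LinearMap.zero_apply]
    refine hkill a _ (hAab a ha _ ?_)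
    set c := MulAut.conjNormal b v * v⁻¹ with hc
    have hcB : (c : G) ∈ B := by
      rw [hc, Subgroup.coe_mul, MulAut.conjNormal_apply, Subgroup.coe_inv, mul_assoc, mul_assoc]
      refine mul_mem hb ?_
      rw [← mul_assoc]
      exact hPB v (hOP v.2) _ (inv_mem hb)
    rw [Subgroup.coe_mul, MulAut.conjNormal_apply, Subgroup.coe_inv, hA,
      show b * (c : G) * b⁻¹ * (c : G)⁻¹ = ⁅b, (c : G)⁆ from (commutatorElement_def _ _).symm]
    exact Subgroup.commutator_mem_commutator hb hcB
  -- pass to the quotient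
  set π := QuotientGroup.mk' O with hπ
  have hπs : Function.Surjective π := QuotientGroup.mk'_surjective O
  have hOH : Cfsg.pCore p (G ⧸ O) = ⊥ := le_bot_iff.mp ZJ.pCore_quotient_pCore_le_bot
  have hsolH := PSolvable.isPSolvable_of_surjective π hπs hsol
  set R := Cfsg.pPrimeCore p (G ⧸ O) with hRdef
  haveI hRn : R.Normal := Transfer.pPrimeCore_normal p _
  set Bq := B.map π with hBq
  set Aq := A.map π with hAq
  have hBp : IsPGroup p Bq := (P.2.to_le hBP).map π
  have hAqB : Aq = ⁅Bq, Bq⁆ := by rw [hAq, hA, Subgroup.map_commutator]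
  set k := AlgebraicClosure (ZMod p)
  haveI : CharP k p := charP_of_injective_algebraMap (algebraMap (ZMod p) k).injective p
  let σ : (G ⧸ O) →* Module.End k
      (Fin (finrank (ZMod p) (Additive (O ⧸ frattini O))) → k) :=
    (toBar k).toMonoidHom.comp (endOfAut (p := p) φ)
  have hσ : Function.Injective σ := by
    intro x y hxy
    have h1 : endOfAut (p := p) φ x = endOfAut (p := p) φ y := toBar_injective k hxy
    exact hφ (MulEquiv.ext fun v =>
      Additive.ofMul.injective (LinearMap.congr_fun h1 (Additive.ofMul v)))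
  have hzero : ∀ {X : Module.End (ZMod p) (Additive (O ⧸ frattini O))}, X = 0 →
      toBar k X = 0 := fun hX => by rw [hX, map_zero]
  have hcen : Aq ≤ Subgroup.centralizer (R : Set (G ⧸ O)) := by
    intro y hy
    rw [Subgroup.mem_centralizer_iff]
    intro g hg
    suffices hall : R ≤ Subgroup.centralizer ({y} : Set (G ⧸ O)) from
      Subgroup.mem_centralizer_singleton_iff.mp (hall hg)
    have hRB : Bq ≤ Subgroup.normalizer (R : Set (G ⧸ O)) := Subgroup.le_normalizer_of_normal
    have hcopB : (Nat.card Bq).Coprime (Nat.card R) := by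
      obtain ⟨i, hi⟩ := hBp.exists_card_eq
      rw [hi]
      exact ((Transfer.pPrimeCore_coprime (G := G ⧸ O) p).symm).pow_left i
    haveI : Group.IsSolvable Bq := by
      haveI := hBp.isNilpotent
      infer_instance
    have hdvd : Nat.card R ∣ Nat.card (R ⊓ Subgroup.centralizer ({y} : Set (G ⧸ O)) : Subgroup (G ⧸ O)) := by
      rw [Nat.dvd_iff_prime_pow_dvd_dvd]
      intro q i hq hi
      haveI := Fact.mk hq
      rcases Nat.eq_zero_or_pos i with rfl | hi0
      · simp
      have hqp : q ≠ p := by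
        rintro rfl
        exact (hq.coprime_iff_not_dvd.mp (Transfer.pPrimeCore_coprime (G := G ⧸ O) q).symm)
          ((dvd_pow_self q (by omega)).trans hi)
      obtain ⟨S, hS⟩ := Coprime.exists_invariant_sylow hRB hcopB (Or.inl inferInstance) q
      set S' := (S : Subgroup R).map R.subtype with hS'
      have hle : S' ≤ R ⊓ Subgroup.centralizer ({y} : Set (G ⧸ O)) := by
        refine le_inf (Subgroup.map_subtype_le _) fun s hs => ?_
        set L := Subgroup.normalizer (S' : Set (G ⧸ O)) with hL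
        have hBL : Bq ≤ L := fun b hb => hS hb
        have hmap : ∀ x : L, ∀ _ : x ∈ ⁅Bq.subgroupOf L, Bq.subgroupOf L⁆, (x : G ⧸ O) ∈ Aq := by
          intro x hx
          have := Subgroup.mem_map_of_mem L.subtype hx
          rw [Subgroup.map_commutator, Subgroup.map_subgroupOf_eq_of_le hBL, ← hAqB] at this
          exact this
        have hyL : y ∈ L := hBL (Subgroup.commutator_le_self Bq (hAqB ▸ hy))
        have key := eq_one_of_quadratic (p := p) (q := q) hp2 hqp (σ.comp L.subtype)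
          (hσ.comp L.subtype_injective) (Bq.subgroupOf L) (hBp.comap_of_injective _ L.subtype_injective)
          (fun u hu u' hu' => Subtype.ext (by
            obtain ⟨u₀, hu₀, e₀⟩ := hmap u hu
            obtain ⟨u₁, hu₁, e₁⟩ := hmap u' hu'
            show (u : G ⧸ O) * u' = u' * u
            rw [← e₀, ← e₁, ← map_mul, ← map_mul, hAab u₀ hu₀ u₁ hu₁]))
          (fun u hu => by
            obtain ⟨u₀, hu₀, e₀⟩ := hmap u hu
            show (σ (u : G ⧸ O) - 1) * (σ (u : G ⧸ O) - 1) = 0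
            rw [← e₀]
            show (toBar k (ρ u₀) - 1) * (toBar k (ρ u₀) - 1) = 0
            have h1 := hzero (hquad u₀ hu₀)
            rwa [map_mul, map_sub, map_one] at h1)
          (fun u hu b hb => by
            obtain ⟨u₀, hu₀, e₀⟩ := hmap u hu
            obtain ⟨b₀, hb₀, e₁⟩ := Subgroup.mem_subgroupOf.mp hb
            show (σ (u : G ⧸ O) - 1) * ((σ (b : G ⧸ O) - 1) * (σ (b : G ⧸ O) - 1)) = 0
            rw [← e₀, ← e₁]
            show (toBar k (ρ u₀) - 1) * ((toBar k (ρ b₀) - 1) * (toBar k (ρ b₀) - 1)) = 0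
            have h1 := hzero (hcub u₀ hu₀ b₀ hb₀)
            rwa [map_mul, map_mul, map_sub, map_sub, map_one] at h1)
        have hsL : s ∈ L := Subgroup.le_normalizer hs
        have h1 := key ⟨y, hyL⟩ (by
          rw [← Subgroup.mem_map_iff_mem L.subtype_injective, Subgroup.map_commutator,
            Subgroup.map_subgroupOf_eq_of_le hBL, ← hAqB]
          exact hy) ⟨s, hsL⟩ (by
          refine Fitting.le_pCore (N := S'.subgroupOf L) Subgroup.normal_in_normalizer
            ((S.2.map _).comap_of_injective _ L.subtype_injective) ?_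
          exact Subgroup.mem_subgroupOf.mpr hs)
        rw [Subgroup.mem_centralizer_singleton_iff]
        exact (congrArg Subtype.val h1).symm
      refine dvd_trans ?_ (Subgroup.card_dvd_of_le hle)
      rw [hS', Subgroup.card_map_of_injective R.subtype_injective, S.card_eq_multiplicity]
      exact pow_dvd_pow q ((hq.pow_dvd_iff_le_factorization Nat.card_pos.ne').mp hi)
    have := Subgroup.eq_of_le_of_card_ge inf_le_left (Nat.le_of_dvd Nat.card_pos hdvd)
    exact this ▸ inf_le_right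
  intro a ha
  refine (QuotientGroup.eq_one_iff a).mp ?_
  have haR : π a ∈ R :=
    TIDegree.centralizer_pPrimeCore_le hsolH hOH (hcen (Subgroup.mem_map_of_mem π ha))
  obtain ⟨i, hi⟩ := hBp ⟨π a, Subgroup.commutator_le_self Bq (hAqB ▸ Subgroup.mem_map_of_mem π ha)⟩
  exact orderOf_eq_one_iff.mp (Nat.eq_one_of_dvd_coprimes
    ((Transfer.pPrimeCore_coprime (G := G ⧸ O) p).symm.pow_left i)
    (orderOf_dvd_of_pow_eq_one (congrArg Subtype.val hi))
    (Subgroup.orderOf_dvd_natCard R haR))

/-- For odd `p` the `p`-length is at most the derived length. -/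
theorem pLengthLE_of_derived (hsol : Cfsg.IsPSolvable p G) (hp2 : p ≠ 2) (d : ℕ)
    (hd : ∀ P : Sylow p G, derivedSeries (P : Subgroup G) d = ⊥) : Cfsg.PLengthLE p d G := by
  classical
  have key : ∀ j, j ≤ d → ∀ P : Sylow p G, ∀ z ∈ derivedSeries (P : Subgroup G) (d - j),
      (z : G) ∈ (Cfsg.upperPSeries p G (2 * j)).1 := by
    intro j
    induction j with
    | zero =>
      intro _ P z hz
      rw [Nat.sub_zero, hd P, Subgroup.mem_bot] at hz
      rw [hz]
      exact one_mem _
    | succ j ih =>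
      intro hj P z hz
      set U := (Cfsg.upperPSeries p G (2 * j + 1)).1 with hU
      set π := QuotientGroup.mk' U with hπ
      have hπs : Function.Surjective π := QuotientGroup.mk'_surjective U
      set P' := P.mapSurjective hπs with hP'
      let ψ : (P : Subgroup G) →* (P' : Subgroup (G ⧸ U)) := π.subgroupMap (P : Subgroup G)
      have hψ : Function.Surjective ψ := π.subgroupMap_surjective _
      have hn : derivedSeries (P' : Subgroup (G ⧸ U)) (d - (j + 1) + 1) = ⊥ := by
        rw [show d - (j + 1) + 1 = d - j by omega, ← map_derivedSeries_eq hψ, Subgroup.map_eq_bot_iff]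
        intro y hy
        refine MonoidHom.mem_ker.mpr (Subtype.ext ?_)
        exact (QuotientGroup.eq_one_iff _).mpr (upperPSeries_le_succ' _ (ih (by omega) P y hy))
      have h1 := derived_le_pCore (PSolvable.isPSolvable_of_surjective π hπs hsol)
        (pPrimeCore_quotient_odd j) hp2 P' _ hn
        ⟨ψ z, (map_derivedSeries_eq hψ _) ▸ Subgroup.mem_map_of_mem ψ hz, rfl⟩
      rw [upperPSeries_odd_succ]
      exact h1
  refine pLengthLE_of_mem d fun z hz => ?_
  obtain ⟨k, hk⟩ := hz
  have hY : IsPGroup p (Subgroup.zpowers z) := by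
    rintro ⟨w, hw⟩
    obtain ⟨i, rfl⟩ := Subgroup.mem_zpowers_iff.mp hw
    refine ⟨k, Subtype.ext ?_⟩
    show (z ^ i) ^ p ^ k = 1
    rw [← zpow_natCast, ← zpow_mul, mul_comm, zpow_mul, zpow_natCast, hk, one_zpow]
  obtain ⟨P, hP⟩ := hY.exists_le_sylow
  have hzP := hP (Subgroup.mem_zpowers z)
  exact key d le_rfl P ⟨z, hzP⟩ (by rw [Nat.sub_self, derivedSeries_zero]; exact Subgroup.mem_top _)

end CfsgLib.Gross
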