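import Cfsg.Agent.Lib.Gross.Comm
import Mathlib.GroupTheory.Sylow

/-!
Automorphisms preserving an alternating form and moving a plane only: in a `2`-group two of them move
the same plane or orthogonal planes.
-/

set_option autoImplicit false
set_option linter.style.haveILetI false
set_option linter.unusedSectionVars false

namespace CfsgLib.Gross

theorem finite_mulAut (Q : Type*) [Group Q] [Finite Q] : Finite (MulAut Q) :=
  Finite.of_injective (fun f : MulAut Q => (f : Q → Q)) fun _ _ h => MulEquiv.ext (congrFun h)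

/-- A bilinear alternating form on an abelian group of exponent an odd prime. -/
structure Form (Q : Type*) [CommGroup Q] (k : Type*) [Field k] (q : ℕ) where
  B : Q → Q → k
  prime : q.Prime
  odd : q ≠ 2
  exp : ∀ a : Q, a ^ q = 1
  mul_left : ∀ a b c : Q, B (a * b) c = B a c * B b c
  swap : ∀ a b : Q, B b a * B a b = 1
  self : ∀ a : Q, B a a = 1

variable {Q : Type*} [CommGroup Q] {k : Type*} [Field k] {q : ℕ}

/-- The elements inverted. -/
def invs (j : MulAut Q) : Subgroup Q := (j.toMonoidHom * MonoidHom.id Q).ker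

theorem mem_invs {j : MulAut Q} {y : Q} : y ∈ invs j ↔ j y = y⁻¹ := by
  show j y * y = 1 ↔ _
  exact mul_eq_one_iff_eq_inv

theorem mem_invs_conj (s j : MulAut Q) (y : Q) : y ∈ invs (s * j * s⁻¹) ↔ s⁻¹ y ∈ invs j := by
  rw [mem_invs, mem_invs, MulAut.mul_apply, MulAut.mul_apply]
  refine ⟨fun h => ?_, fun h => ?_⟩
  · rw [← MulAut.inv_apply_self Q s (j (s⁻¹ y)), h, map_inv]
  · rw [h, map_inv, MulAut.apply_inv_self]

namespace Form

variable (F : Form Q k q)

theorem ne_zero (a b : Q) : F.B a b ≠ 0 := right_ne_zero_of_mul_eq_one (F.swap a b)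

theorem mul_right (a b c : Q) : F.B a (b * c) = F.B a b * F.B a c := by
  have h := F.swap a (b * c)
  rw [F.mul_left] at h
  refine mul_left_cancel₀ (mul_ne_zero (F.ne_zero b a) (F.ne_zero c a)) (h.trans ?_)
  rw [mul_mul_mul_comm, F.swap, F.swap, one_mul]

theorem one_left (a : Q) : F.B 1 a = 1 := by
  have h := F.mul_left 1 1 a
  rw [one_mul] at h
  exact (mul_eq_left₀ (F.ne_zero 1 a)).mp h.symm

theorem one_right (a : Q) : F.B a 1 = 1 := by
  have h := F.mul_right a 1 1
  rw [one_mul] at h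
  exact (mul_eq_left₀ (F.ne_zero a 1)).mp h.symm

theorem pow_left (a b : Q) (i : ℕ) : F.B (a ^ i) b = F.B a b ^ i := by
  induction i with
  | zero => rw [pow_zero, pow_zero, F.one_left]
  | succ i ih => rw [pow_succ, pow_succ, F.mul_left, ih]

theorem pow_right (a b : Q) (i : ℕ) : F.B a (b ^ i) = F.B a b ^ i := by
  induction i with
  | zero => rw [pow_zero, pow_zero, F.one_right]
  | succ i ih => rw [pow_succ, pow_succ, F.mul_right, ih]

theorem inv_left (a b : Q) : F.B a⁻¹ b = (F.B a b)⁻¹ := by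
  refine eq_inv_of_mul_eq_one_left ?_
  rw [← F.mul_left, inv_mul_cancel, F.one_left]

theorem flip {a b : Q} (h : F.B a b = 1) : F.B b a = 1 := by
  have := F.swap a b
  rwa [h, mul_one] at this

theorem pow_q (a b : Q) : F.B a b ^ q = 1 := by rw [← F.pow_left, F.exp, F.one_left]

theorem eq_one_of_inv_eq {a b : Q} (h : (F.B a b)⁻¹ = F.B a b) : F.B a b = 1 := by
  have h2 : F.B a b ^ 2 = 1 := by
    rw [sq]
    nth_rewrite 1 [← h]
    exact inv_mul_cancel₀ (F.ne_zero a b)
  obtain ⟨i, hi⟩ := F.prime.odd_of_ne_two F.odd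
  have h3 : F.B a b ^ (2 * i + 1) = 1 := (congrArg (F.B a b ^ ·) hi).symm.trans (F.pow_q a b)
  rwa [pow_succ, pow_mul, h2, one_pow, one_mul] at h3

include F in
theorem eq_one_of_sq {y : Q} (h : y * y = 1) : y = 1 := by
  obtain ⟨i, hi⟩ := F.prime.odd_of_ne_two F.odd
  have h3 : y ^ (2 * i + 1) = 1 := (congrArg (y ^ ·) hi).symm.trans (F.exp y)
  rwa [pow_succ, pow_mul, sq, h, one_pow, one_mul] at h3

include F in
theorem orderOf_eq {a : Q} (ha : a ≠ 1) : orderOf a = q :=
  haveI := Fact.mk F.prime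
  orderOf_eq_prime (F.exp a) ha

include F in
theorem exists_pow {a y : Q} (h : y ∈ Subgroup.zpowers a) : ∃ i : ℕ, y = a ^ i := by
  have hfin : IsOfFinOrder a := isOfFinOrder_iff_pow_eq_one.mpr ⟨q, F.prime.pos, F.exp a⟩
  obtain ⟨i, hi⟩ := (Submonoid.mem_powers_iff _ _).mp (hfin.mem_powers_iff_mem_zpowers.mpr h)
  exact ⟨i, hi.symm⟩

include F in
/-- Splitting by an involution. -/
theorem split {j : MulAut Q} (hj : j * j = 1) (K : Subgroup Q) (hK : ∀ v ∈ K, j v ∈ K) {y : Q}
    (hy : y ∈ K) : ∃ a ∈ K, j a = a⁻¹ ∧ ∃ b ∈ K, j b = b ∧ y = a * b := by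
  obtain ⟨i, hi⟩ := F.prime.odd_of_ne_two F.odd
  set w := y ^ (i + 1) with hw
  have hwK : w ∈ K := K.pow_mem hy _
  have hjj : j (j w) = w := by rw [← MulAut.mul_apply, hj, MulAut.one_apply]
  refine ⟨w * (j w)⁻¹, K.mul_mem hwK (K.inv_mem (hK w hwK)), ?_, w * j w, K.mul_mem hwK (hK w hwK), ?_, ?_⟩
  · rw [map_mul, map_inv, hjj, mul_inv_rev, inv_inv]
  · rw [map_mul, hjj, mul_comm]
  · have hwy : w * w = y := by
      rw [hw, ← pow_add, show i + 1 + (i + 1) = q + 1 by omega, pow_succ, F.exp, one_mul]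
    conv_lhs => rw [← hwy]
    calc w * w = w * w * ((j w)⁻¹ * j w) := by rw [inv_mul_cancel, mul_one]
      _ = w * (j w)⁻¹ * (w * j w) := mul_mul_mul_comm _ _ _ _

include F in
theorem ext {j g h : MulAut Q} (hj : j * j = 1) (h1 : ∀ y, j y = y⁻¹ → g y = h y)
    (h2 : ∀ y, j y = y → g y = h y) : g = h := by
  refine MulEquiv.ext fun y => ?_
  obtain ⟨a, -, ha, b, -, hb, rfl⟩ := F.split hj ⊤ (fun _ _ => trivial) (Subgroup.mem_top y)
  rw [map_mul, map_mul, h1 a ha, h2 b hb]

/-- The automorphisms preserving the form. -/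
def aut : Subgroup (MulAut Q) where
  carrier := {g | ∀ a b, F.B (g a) (g b) = F.B a b}
  one_mem' := fun a b => rfl
  mul_mem' := fun {g h} hg hh a b => by rw [MulAut.mul_apply, MulAut.mul_apply, hg, hh]
  inv_mem' := fun {g} hg a b => by
    conv_rhs => rw [← MulAut.apply_inv_self Q g a, ← MulAut.apply_inv_self Q g b, hg]

theorem fix_invs {j : MulAut Q} (hj : j ∈ F.aut) {a b : Q} (ha : j a = a⁻¹) (hb : j b = b) :
    F.B a b = 1 := by
  refine F.eq_one_of_inv_eq ?_
  rw [← F.inv_left, ← ha]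
  conv_lhs => rw [← hb]
  exact hj a b

end Form

/-- The involution in a cyclic group of order `2 ^ n`. -/
def zz (n : ℕ) (u : MulAut Q) : MulAut Q := u ^ 2 ^ (n - 1)

theorem zz_conj (n : ℕ) (s u : MulAut Q) : zz n (s * u * s⁻¹) = s * zz n u * s⁻¹ := conj_pow

variable {F : Form Q k q} {n : ℕ}

/-- An element of order `2 ^ n` moving a plane only. -/
structure IsPl (F : Form Q k q) (n : ℕ) (u : MulAut Q) : Prop where
  mem : u ∈ F.aut
  two : 2 ≤ n
  sq : zz n u * zz n u = 1
  move : ∀ v, u v * v⁻¹ ∈ invs (zz n u)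
  card : Nat.card (invs (zz n u)) = q ^ 2
  twist : ∃ a ∈ invs (zz n u), ∃ b ∈ invs (zz n u), F.B a b ≠ 1

/-- The second fixes the plane of the first. -/
def Orth (n : ℕ) (u v : MulAut Q) : Prop := ∀ y ∈ invs (zz n u), v y = y

namespace IsPl

variable {u v : MulAut Q} (h : IsPl F n u)

include h in
theorem zz_mem : zz n u ∈ F.aut := F.aut.pow_mem h.mem _

theorem zz_comm : zz n u * u = u * zz n u := ((Commute.refl u).pow_left _).eq

theorem zz_fix {y : Q} (hy : u y = y) : zz n u y = y := by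
  have : ∀ i : ℕ, (u ^ i) y = y := fun i => by
    induction i with
    | zero => rfl
    | succ i ih => rw [pow_succ, MulAut.mul_apply, hy, ih]
  exact this _

include h in
theorem pres {y : Q} (hy : y ∈ invs (zz n u)) : u y ∈ invs (zz n u) := by
  rw [mem_invs] at hy ⊢
  rw [← MulAut.mul_apply, zz_comm, MulAut.mul_apply, hy, map_inv]

include h in
theorem fix {y : Q} (hy : zz n u y = y) : u y = y := by
  have h1 := mem_invs.mp (h.move y)
  rw [map_mul, map_inv, ← MulAut.mul_apply, zz_comm, MulAut.mul_apply, hy] at h1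
  exact mul_inv_eq_one.mp (F.eq_one_of_sq (mul_eq_one_iff_eq_inv.mpr h1))

include h in
theorem exists_outside (c : Q) : ∃ d ∈ invs (zz n u), d ∉ Subgroup.zpowers c := by
  by_contra hno
  push Not at hno
  obtain ⟨a, ha, b, hb, hab⟩ := h.twist
  obtain ⟨i, rfl⟩ := F.exists_pow (hno a ha)
  obtain ⟨j, rfl⟩ := F.exists_pow (hno b hb)
  exact hab (by rw [F.pow_left, F.pow_right, F.self, one_pow, one_pow])

include h in
theorem exists_ne : ∃ a ∈ invs (zz n u), a ≠ 1 := by
  obtain ⟨d, hd, hd1⟩ := h.exists_outside 1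
  exact ⟨d, hd, fun e => hd1 (by rw [e]; exact Subgroup.one_mem _)⟩

include h in
theorem zz_ne : zz n u ≠ 1 := by
  intro e
  obtain ⟨a, ha, ha1⟩ := h.exists_ne
  rw [mem_invs, e, MulAut.one_apply] at ha
  exact ha1 (F.eq_one_of_sq (mul_eq_one_iff_eq_inv.mpr ha))

include h in
theorem span [Finite Q] {c d y : Q} (hc : c ∈ invs (zz n u)) (hc1 : c ≠ 1)
    (hd : d ∈ invs (zz n u)) (hdc : d ∉ Subgroup.zpowers c) (hy : y ∈ invs (zz n u)) :
    ∃ i j : ℕ, y = c ^ i * d ^ j := by
  set K := Subgroup.zpowers c ⊔ Subgroup.zpowers d with hK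
  have hKle : K ≤ invs (zz n u) := sup_le (Subgroup.zpowers_le.mpr hc) (Subgroup.zpowers_le.mpr hd)
  have hKeq : K = invs (zz n u) := by
    refine Subgroup.eq_of_le_of_card_ge hKle ?_
    obtain ⟨j, hj2, hj⟩ := (Nat.dvd_prime_pow F.prime).mp (h.card ▸ Subgroup.card_dvd_of_le hKle)
    have hlt : Nat.card (Subgroup.zpowers c) < Nat.card K := by
      refine Nat.lt_of_le_of_ne (Subgroup.card_le_of_le le_sup_left) fun e => hdc ?_
      exact (Subgroup.eq_of_le_of_card_ge le_sup_left e.ge).ge (Subgroup.mem_sup_right (Subgroup.mem_zpowers d))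
    rw [Nat.card_zpowers, F.orderOf_eq hc1, hj] at hlt
    rw [h.card, hj]
    refine Nat.pow_le_pow_right F.prime.pos ?_
    have : 1 < j := (Nat.pow_lt_pow_iff_right F.prime.one_lt).mp (by rwa [pow_one])
    omega
  obtain ⟨a, ha, b, hb, rfl⟩ := Subgroup.mem_sup.mp (hKeq ▸ hy)
  obtain ⟨i, rfl⟩ := F.exists_pow ha
  obtain ⟨j, rfl⟩ := F.exists_pow hb
  exact ⟨i, j, rfl⟩

include h in
/-- Orthogonal elements of the plane are dependent. -/
theorem twist_ne [Finite Q] {c d : Q} (hc : c ∈ invs (zz n u)) (hc1 : c ≠ 1)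
    (hd : d ∈ invs (zz n u)) (hdc : d ∉ Subgroup.zpowers c) : F.B c d ≠ 1 := by
  intro e
  obtain ⟨a, ha, b, hb, hab⟩ := h.twist
  obtain ⟨i, j, rfl⟩ := h.span hc hc1 hd hdc ha
  obtain ⟨i', j', rfl⟩ := h.span hc hc1 hd hdc hb
  exact hab (by simp only [F.mul_left, F.mul_right, F.pow_left, F.pow_right, F.self, e, F.flip e,
    one_pow, mul_one])

include h in
theorem nondeg [Finite Q] {c : Q} (hc : c ∈ invs (zz n u))
    (hperp : ∀ a ∈ invs (zz n u), F.B c a = 1) : c = 1 := by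
  by_contra hc1
  obtain ⟨d, hd, hdc⟩ := h.exists_outside c
  exact h.twist_ne hc hc1 hd hdc (hperp d hd)

include h in
theorem perp_fix [Finite Q] {y : Q} (hperp : ∀ a ∈ invs (zz n u), F.B y a = 1) : zz n u y = y := by
  obtain ⟨a, -, ha, b, -, hb, rfl⟩ := F.split h.sq ⊤ (fun _ _ => trivial) (Subgroup.mem_top y)
  have ha1 : a = 1 := h.nondeg (mem_invs.mpr ha) fun x hx => by
    have h1 := hperp x hx
    rwa [F.mul_left, F.flip (F.fix_invs h.zz_mem (mem_invs.mp hx) hb), mul_one] at h1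
  rw [ha1, one_mul]
  exact hb

include h in
/-- An involution preserving the plane inverts or fixes it. -/
theorem inv_or_fix [Finite Q] {j : MulAut Q} (hj : j ∈ F.aut) (hjj : j * j = 1)
    (hp : ∀ y ∈ invs (zz n u), j y ∈ invs (zz n u)) :
    (∀ y ∈ invs (zz n u), j y = y⁻¹) ∨ ∀ y ∈ invs (zz n u), j y = y := by
  by_contra hno
  push Not at hno
  obtain ⟨⟨y, hy, hy1⟩, y', hy', hy1'⟩ := hno
  obtain ⟨a, haK, ha, b, hbK, hb, rfl⟩ := F.split hjj _ hp hy
  obtain ⟨a', haK', ha', b', hbK', hb', rfl⟩ := F.split hjj _ hp hy'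
  have hb1 : b ≠ 1 := by rintro rfl; exact hy1 (by rw [mul_one, ha])
  have ha1 : a' ≠ 1 := by rintro rfl; exact hy1' (by rw [one_mul, hb'])
  by_cases hmem : b ∈ Subgroup.zpowers a'
  · obtain ⟨i, rfl⟩ := F.exists_pow hmem
    rw [map_pow, ha', inv_pow] at hb
    exact hb1 (F.eq_one_of_sq (mul_eq_one_iff_eq_inv.mpr hb.symm))
  · exact h.twist_ne haK' ha1 hbK hmem (F.fix_invs hj ha' hb)

include h in
theorem conj [Finite Q] {s : MulAut Q} (hs : s ∈ F.aut) : IsPl F n (s * u * s⁻¹) := by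
  have hz := zz_conj n s u
  refine ⟨F.aut.mul_mem (F.aut.mul_mem hs h.mem) (F.aut.inv_mem hs), h.two, ?_, fun v => ?_, ?_, ?_⟩
  · rw [hz, show s * zz n u * s⁻¹ * (s * zz n u * s⁻¹) = s * (zz n u * zz n u) * s⁻¹ by group, h.sq,
      mul_one, mul_inv_cancel]
  · rw [hz, mem_invs_conj, MulAut.mul_apply, MulAut.mul_apply, map_mul, map_inv,
      MulAut.inv_apply_self]
    exact h.move _
  · rw [← h.card]
    refine Nat.card_congr ((s⁻¹).toEquiv.subtypeEquiv fun y => ?_)
    rw [hz]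
    exact mem_invs_conj _ _ _
  · obtain ⟨a, ha, b, hb, hab⟩ := h.twist
    refine ⟨s a, ?_, s b, ?_, by rwa [hs]⟩ <;> rw [hz, mem_invs_conj, MulAut.inv_apply_self] <;>
      assumption

include h in
theorem eq_of_le [Finite Q] (hv : IsPl F n v) (hle : invs (zz n u) ≤ invs (zz n v)) :
    zz n u = zz n v := by
  have he := Subgroup.eq_of_le_of_card_ge hle (h.card.trans hv.card.symm).ge
  refine F.ext h.sq (fun y hy => ?_) fun y hy => ?_
  · rw [hy, mem_invs.mp (hle (mem_invs.mpr hy))]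
  · rw [hy]
    exact (hv.perp_fix fun a ha =>
      F.flip (F.fix_invs h.zz_mem (mem_invs.mp (he.symm ▸ ha)) hy)).symm

include h in
/-- Commuting with the involution gives an action on the plane. -/
theorem pres_of_comm {g : MulAut Q} (hg : g * zz n u = zz n u * g) {y : Q}
    (hy : y ∈ invs (zz n u)) : g y ∈ invs (zz n u) := by
  rw [mem_invs] at hy ⊢
  rw [← MulAut.mul_apply, ← hg, MulAut.mul_apply, hy, map_inv]

end IsPl

namespace Orth

variable [Finite Q] {u v : MulAut Q} (ho : Orth n u v) (hu : IsPl F n u) (hv : IsPl F n v)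

include ho hv in
theorem perp {a b : Q} (ha : a ∈ invs (zz n u)) (hb : b ∈ invs (zz n v)) : F.B a b = 1 :=
  F.flip (F.fix_invs hv.zz_mem (mem_invs.mp hb) (IsPl.zz_fix (ho a ha)))

include ho hu hv in
theorem symm : Orth n v u := fun b hb =>
  hu.fix (hu.perp_fix fun a ha => F.flip (ho.perp hv ha hb))

include ho hv in
theorem disjoint {a : Q} (ha : a ∈ invs (zz n u)) (ha' : a ∈ invs (zz n v)) : a = 1 := by
  rw [mem_invs, IsPl.zz_fix (ho a ha)] at ha'
  exact F.eq_one_of_sq (mul_eq_one_iff_eq_inv.mpr ha')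

include ho hu hv in
theorem ne : zz n u ≠ zz n v := by
  intro e
  obtain ⟨a, ha, ha1⟩ := hu.exists_ne
  exact ha1 (ho.disjoint hv ha (e ▸ ha))

include ho hu hv in
theorem comm : v * u = u * v := by
  refine F.ext hu.sq (fun y hy => ?_) fun y hy => ?_
  · rw [MulAut.mul_apply, MulAut.mul_apply, ho _ (hu.pres (mem_invs.mpr hy)), ho y (mem_invs.mpr hy)]
  · rw [MulAut.mul_apply, MulAut.mul_apply, hu.fix hy]
    refine (hu.fix (hu.perp_fix fun a ha => ?_)).symm
    rw [← ho a ha, hv.mem]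
    exact F.flip (F.fix_invs hu.zz_mem (mem_invs.mp ha) hy)

end Orth

/-- Two plane elements of a `2`-group. -/
theorem dichotomy [Finite Q] (S : Subgroup (MulAut Q)) (hS : IsPGroup 2 S) (hSF : S ≤ F.aut)
    {u v : MulAut Q} (hu : IsPl F n u) (hv : IsPl F n v) (huS : u ∈ S) (hvS : v ∈ S) :
    zz n u = zz n v ∨ Orth n u v := by
  haveI := finite_mulAut Q
  induction hN : Nat.card S using Nat.strong_induction_on generalizing S u v with
  | _ N ih =>
  by_cases hcyc : v ∈ Subgroup.zpowers u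
  · left
    obtain ⟨i, rfl⟩ := Subgroup.mem_zpowers_iff.mp hcyc
    have he : zz n (u ^ i) = zz n u ^ i := by
      rw [zz, zz, ← zpow_natCast, ← zpow_natCast, ← zpow_mul, ← zpow_mul, mul_comm]
    have h2 : zz n u ^ (2 : ℤ) = 1 := by rw [zpow_two, hu.sq]
    rw [he]
    rcases Int.even_or_odd i with ⟨j, hj⟩ | ⟨j, hj⟩
    · refine absurd (he.trans ?_) hv.zz_ne
      rw [hj, ← two_mul, zpow_mul, h2, one_zpow]
    · rw [hj, zpow_add, zpow_mul, h2, one_zpow, one_mul, zpow_one]
  -- a normal subgroup with `u`, without the whole group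
  obtain ⟨M, hMS, hMne, huM, hMn⟩ : ∃ M : Subgroup (MulAut Q), M ≤ S ∧ M ≠ S ∧ u ∈ M ∧
      ∀ s ∈ S, ∀ m ∈ M, s * m * s⁻¹ ∈ M := by
    haveI : Fact (Nat.Prime 2) := ⟨Nat.prime_two⟩
    haveI : Group.IsNilpotent S := hS.isNilpotent
    haveI : Finite (Subgroup S) := Finite.of_injective (fun K => (K : Set S)) SetLike.coe_injective
    have hne : Subgroup.zpowers (⟨u, huS⟩ : S) ≠ ⊤ := by
      intro e
      obtain ⟨i, hi⟩ := Subgroup.mem_zpowers_iff.mp (e ▸ Subgroup.mem_top (⟨v, hvS⟩ : S))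
      exact hcyc (Subgroup.mem_zpowers_iff.mpr ⟨i, congrArg Subtype.val hi⟩)
    obtain ⟨M, hM, hle⟩ := (eq_top_or_exists_le_coatom _).resolve_left hne
    haveI hMn : M.Normal :=
      Subgroup.NormalizerCondition.normal_of_coatom M (Group.normalizerCondition_of_isNilpotent) hM
    refine ⟨M.map S.subtype, Subgroup.map_subtype_le _, fun e => hM.1 ?_,
      ⟨⟨u, huS⟩, hle (Subgroup.mem_zpowers _), rfl⟩, ?_⟩
    · exact Subgroup.map_injective S.subtype_injective
        (e.trans (by rw [← MonoidHom.range_eq_map, Subgroup.range_subtype]))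
    · rintro s hs _ ⟨m, hm, rfl⟩
      exact ⟨⟨s, hs⟩ * m * ⟨s, hs⟩⁻¹, hMn.conj_mem m hm _, rfl⟩
  have hlt : Nat.card M < N := hN ▸ Nat.lt_of_le_of_ne (Subgroup.card_le_of_le hMS)
    fun e => hMne (Subgroup.eq_of_le_of_card_ge hMS e.ge)
  have dich : ∀ {a b : MulAut Q}, IsPl F n a → IsPl F n b → a ∈ M → b ∈ M →
      zz n a = zz n b ∨ Orth n a b := fun ha hb haM hbM =>
    ih _ hlt M (hS.to_le hMS) (hMS.trans hSF) ha hb haM hbM rfl
  -- the translates
  set u2 := v * u * v⁻¹ with hu2d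
  set u3 := v * u2 * v⁻¹ with hu3d
  have hu2 : IsPl F n u2 := hu.conj hv.mem
  have hu3 : IsPl F n u3 := hu2.conj hv.mem
  have hu2M : u2 ∈ M := hMn v hvS u huM
  have hu3M : u3 ∈ M := hMn v hvS u2 hu2M
  have hpres : v ^ 2 * zz n u = zz n u * v ^ 2 := by
    rcases dich hu hu2 huM hu2M with e | ho
    · rw [hu2d, zz_conj, eq_mul_inv_iff_mul_eq] at e
      exact ((Commute.pow_left (show Commute v (zz n u) from e.symm) 2)).eq
    · rcases dich hu2 hu3 hu2M hu3M with e | ho'
      · exfalso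
        rw [hu3d, zz_conj n v u2, hu2d, zz_conj, eq_mul_inv_iff_mul_eq] at e
        refine ho.ne hu hu2 ?_
        rw [hu2d, zz_conj]
        calc zz n u = v⁻¹ * (v * zz n u * v⁻¹ * v) := by group
          _ = v⁻¹ * (v * (v * zz n u * v⁻¹)) := by rw [e]
          _ = v * zz n u * v⁻¹ := by group
      rcases dich hu hu3 huM hu3M with e | ho''
      · rw [hu3d, zz_conj n v u2, hu2d, zz_conj] at e
        rw [sq]
        calc v * v * zz n u = v * (v * zz n u * v⁻¹) * v⁻¹ * (v * v) := by group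
          _ = zz n u * (v * v) := by rw [← e]
      exfalso
      let φ : invs (zz n u) →* Q :=
        MonoidHom.mk' (fun a => v (a : Q) * (a : Q)⁻¹) fun a b => by
          rw [Subgroup.coe_mul, map_mul, mul_inv, mul_mul_mul_comm]
      have hmem2 : ∀ a ∈ invs (zz n u), v a ∈ invs (zz n u2) := fun a ha => by
        rw [hu2d, zz_conj, mem_invs_conj, MulAut.inv_apply_self]; exact ha
      have hinj : Function.Injective φ := by
        refine (injective_iff_map_eq_one φ).mpr fun a ha => Subtype.ext ?_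
        have he : v (a : Q) = a := mul_inv_eq_one.mp ha
        exact ho.disjoint hu2 a.2 (he ▸ hmem2 a a.2)
      have hrange : φ.range = invs (zz n v) := by
        refine Subgroup.eq_of_le_of_card_ge ?_ ?_
        · rintro _ ⟨a, rfl⟩
          exact hv.move _
        · rw [hv.card, ← hu.card]
          exact (Nat.card_congr (MonoidHom.ofInjective hinj).toEquiv).le
      obtain ⟨y, hy, hy1⟩ := hu3.exists_ne
      refine hy1 (hu3.nondeg hy fun x hx => ?_)
      set w := v⁻¹ y
      have hw : w ∈ invs (zz n u2) := by rwa [hu3d, zz_conj, mem_invs_conj] at hy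
      have hvw : v w = y := MulAut.apply_inv_self Q v y
      obtain ⟨⟨a, ha⟩, hae⟩ : v w * w⁻¹ ∈ φ.range := hrange ▸ hv.move w
      change v a * a⁻¹ = v w * w⁻¹ at hae
      have hy' : y = v a * a⁻¹ * w := by rw [hae, inv_mul_cancel_right, hvw]
      rw [hy', F.mul_left, F.mul_left, F.inv_left, ho'.perp hu3 (hmem2 a ha) hx,
        ho''.perp hu3 ha hx, ho'.perp hu3 hw hx, inv_one, one_mul, one_mul]
  have hz : zz n v * zz n u = zz n u * zz n v := by
    have he : zz n v = (v ^ 2) ^ 2 ^ (n - 2) := by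
      rw [zz, ← pow_mul, ← pow_succ', show n - 2 + 1 = n - 1 by have := hu.two; omega]
    rw [he]
    exact (Commute.pow_left (show Commute (v ^ 2) (zz n u) from hpres) _).eq
  rcases hu.inv_or_fix hv.zz_mem hv.sq fun y hy => hu.pres_of_comm hz hy with h | h
  · exact Or.inl (hu.eq_of_le hv fun y hy => mem_invs.mpr (h y hy))
  · exact Or.inr fun y hy => hv.fix (h y hy)

end CfsgLib.Gross
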